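import Mathlib
import Groth.Prelude.Def_Tame

/-! # Elementary properties of the order function on the fraction field -/

set_option autoImplicit false

universe u

namespace TameLib

variable {R : Type u} [CommRing R] [IsDomain R] [IsNoetherianRing R] [Ring.KrullDimLE 1 R]
  {K : Type u} [Field K] [Algebra R K] [IsFractionRing R K]

theorem ordFrac_eq (f : K) :
    CycAlg.ordFrac R K f =
      WithZero.recZeroCoe (motive := fun _ => ℤ) 0 (fun z => Multiplicative.toAdd z) (Ring.ordFrac R f) := by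
  rw [CycAlg.ordFrac, dif_pos ⟨inferInstance, inferInstance, inferInstance, inferInstance⟩]

theorem ordFrac_mul {x y : K} (hx : x ≠ 0) (hy : y ≠ 0) :
    CycAlg.ordFrac R K (x * y) = CycAlg.ordFrac R K x + CycAlg.ordFrac R K y := by
  have hne : ∀ z : K, z ≠ 0 → Ring.ordFrac R z ≠ 0 := fun z hz h => by
    have := congrArg (fun t => t * Ring.ordFrac R z⁻¹) h
    simp only [zero_mul, ← map_mul, mul_inv_cancel₀ hz, map_one] at this
    exact one_ne_zero this
  obtain ⟨a, ha⟩ := WithZero.ne_zero_iff_exists.1 (hne x hx)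
  obtain ⟨b, hb⟩ := WithZero.ne_zero_iff_exists.1 (hne y hy)
  rw [ordFrac_eq, ordFrac_eq, ordFrac_eq, map_mul, ← ha, ← hb, ← WithZero.coe_mul]
  rfl

theorem ordFrac_algebraMap {r : R} (hr : r ≠ 0) :
    CycAlg.ordFrac R K (algebraMap R K r) = ((Ring.ord R r).toNat : ℤ) := by
  have hn : r ∈ nonZeroDivisors R := mem_nonZeroDivisors_of_ne_zero hr
  rw [ordFrac_eq, Ring.ordFrac_eq_ord R hr,
    Ring.ordMonoidWithZeroHom_eq_coe R hn (ENat.natCast_toNat (Ring.ord_ne_top hn)).symm]
  rfl

theorem ordFrac_one : CycAlg.ordFrac R K (1 : K) = 0 := by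
  have h := ordFrac_mul (R := R) (one_ne_zero (α := K)) (one_ne_zero (α := K))
  rw [mul_one] at h
  omega

theorem ordFrac_neg_one : CycAlg.ordFrac R K (-1 : K) = 0 := by
  have h := ordFrac_mul (R := R) (x := (-1 : K)) (y := -1) (neg_ne_zero.2 one_ne_zero) (neg_ne_zero.2 one_ne_zero)
  rw [neg_one_mul, neg_neg, ordFrac_one] at h
  omega

theorem ordFrac_pow {x : K} (hx : x ≠ 0) (n : ℕ) : CycAlg.ordFrac R K (x ^ n) = n * CycAlg.ordFrac R K x := by
  induction n with
  | zero => rw [pow_zero, ordFrac_one, Nat.cast_zero, zero_mul]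
  | succ n ih => rw [pow_succ, ordFrac_mul (pow_ne_zero n hx) hx, ih]; push_cast; ring

theorem ordFrac_inv {x : K} (hx : x ≠ 0) : CycAlg.ordFrac R K x⁻¹ = - CycAlg.ordFrac R K x := by
  have h := ordFrac_mul (R := R) hx (inv_ne_zero hx)
  rw [mul_inv_cancel₀ hx, ordFrac_one] at h
  omega

theorem ordFrac_prod {ι : Type*} (s : Finset ι) (x : ι → K) (hx : ∀ i ∈ s, x i ≠ 0) :
    CycAlg.ordFrac R K (∏ i ∈ s, x i) = ∑ i ∈ s, CycAlg.ordFrac R K (x i) := by
  classical
  induction s using Finset.induction_on with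
  | empty => exact ordFrac_one
  | insert a s ha ih =>
    rw [Finset.prod_insert ha, Finset.sum_insert ha,
      ordFrac_mul (hx a (Finset.mem_insert_self a s))
        (Finset.prod_ne_zero_iff.2 fun i hi => hx i (Finset.mem_insert_of_mem hi)),
      ih fun i hi => hx i (Finset.mem_insert_of_mem hi)]

end TameLib
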