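import Mathlib
import Groth.Agent.PerHLib.Basic
import Groth.Agent.CycAlgLib.EndoQuot

/-! # Lengths in finite algebras over a one-dimensional local ring -/

set_option autoImplicit false
set_option linter.style.haveILetI false
set_option linter.unusedSectionVars false

universe u

open IsLocalRing

namespace TameLib

variable (A : Type u) [CommRing A] [IsLocalRing A]
variable {B : Type u} [CommRing B] [Algebra A B] [Module.Finite A B]

theorem comap_max (q : Ideal B) [q.IsMaximal] : q.comap (algebraMap A B) = maximalIdeal A := by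
  haveI : Algebra.IsIntegral A B := Algebra.IsIntegral.of_finite A B
  exact IsLocalRing.eq_maximalIdeal (Ideal.isMaximal_comap_of_isIntegral_of_isMaximal q)

theorem algebraMap_mem_max (q : Ideal B) [q.IsMaximal] {a : A} (ha : a ∈ maximalIdeal A) :
    algebraMap A B a ∈ q := by
  have := comap_max A q
  rw [← this] at ha
  exact ha

instance isLocalHom_atPrime (q : MaximalSpectrum B) :
    IsLocalHom (algebraMap A (Localization.AtPrime q.asIdeal)) := by
  constructor
  intro a ha
  by_contra hna
  haveI := q.isMaximal
  rw [IsScalarTower.algebraMap_apply A B (Localization.AtPrime q.asIdeal),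
    IsLocalization.AtPrime.isUnit_to_map_iff (Localization.AtPrime q.asIdeal) q.asIdeal] at ha
  exact ha (algebraMap_mem_max A q.asIdeal hna)

/-- The residue field at `q` as a quotient of `B`. -/
noncomputable def resEquiv (q : MaximalSpectrum B) :
    (B ⧸ q.asIdeal) ≃ₐ[A] ResidueField (Localization.AtPrime q.asIdeal) :=
  haveI := q.isMaximal
  AlgEquiv.ofRingEquiv (f := IsLocalization.AtPrime.equivQuotMaximalIdeal q.asIdeal (Localization.AtPrime q.asIdeal))
    (fun _ => rfl)

instance finite_residueField (q : MaximalSpectrum B) :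
    Module.Finite (ResidueField A) (ResidueField (Localization.AtPrime q.asIdeal)) := by
  haveI : Module.Finite A (ResidueField (Localization.AtPrime q.asIdeal)) :=
    Module.Finite.equiv (resEquiv A q).toLinearEquiv
  exact Module.Finite.of_restrictScalars_finite A _ _

/-- The residue degree. -/
noncomputable def deg (q : MaximalSpectrum B) : ℕ :=
  Module.finrank (ResidueField A) (ResidueField (Localization.AtPrime q.asIdeal))

theorem deg_pos (q : MaximalSpectrum B) : 0 < deg A q := Module.finrank_pos

theorem length_quot_max (q : MaximalSpectrum B) : Module.length A (B ⧸ q.asIdeal) = deg A q := by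
  rw [(resEquiv A q).toLinearEquiv.length_eq,
    Module.length_eq_of_surjective (R := ResidueField A) (S := A) IsLocalRing.residue_surjective]
  exact Module.length_eq_finrank _ _

theorem finite_maximalSpectrum [IsNoetherianRing A] : Finite (MaximalSpectrum B) := by
  let J := (maximalIdeal A).map (algebraMap A B)
  haveI : Module.Finite (A ⧸ maximalIdeal A) (B ⧸ J) := Module.Finite.of_restrictScalars_finite A _ _
  letI : Field (A ⧸ maximalIdeal A) := Ideal.Quotient.field _
  haveI : IsArtinian A (B ⧸ J) :=
    isArtinian_of_surjective_algebraMap (R := A ⧸ maximalIdeal A) (S := A) Ideal.Quotient.mk_surjective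
  haveI : IsArtinianRing (B ⧸ J) := isArtinian_of_tower A inferInstance
  have hJ : ∀ q : MaximalSpectrum B, J ≤ q.asIdeal := fun q => Ideal.map_le_iff_le_comap.2 (by
    haveI := q.isMaximal; rw [comap_max A q.asIdeal])
  have hmax : ∀ q : MaximalSpectrum B, (q.asIdeal.map (Ideal.Quotient.mk J)).IsMaximal := fun q => by
    haveI := q.isMaximal
    refine (Ideal.map_eq_top_or_isMaximal_of_surjective _ Ideal.Quotient.mk_surjective q.isMaximal).resolve_left
      fun h => q.isMaximal.ne_top ?_
    have := congrArg (Ideal.comap (Ideal.Quotient.mk J)) h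
    rwa [Ideal.comap_map_of_surjective _ Ideal.Quotient.mk_surjective, ← RingHom.ker_eq_comap_bot,
      Ideal.mk_ker, sup_eq_left.2 (hJ q), Ideal.comap_top] at this
  refine Finite.of_injective (fun q => (⟨_, hmax q⟩ : MaximalSpectrum (B ⧸ J))) fun a b h => ?_
  apply MaximalSpectrum.ext
  have := congrArg (fun q : MaximalSpectrum (B ⧸ J) => q.asIdeal.comap (Ideal.Quotient.mk J)) h
  simpa [Ideal.comap_map_of_surjective _ Ideal.Quotient.mk_surjective, ← RingHom.ker_eq_comap_bot,
    Ideal.mk_ker, hJ a, hJ b] using this

theorem localizedQuot_length (q : Ideal B) [q.IsPrime] (I : Ideal B) :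
    Module.length (Localization.AtPrime q) (LocalizedModule q.primeCompl (B ⧸ I)) =
      Module.length (Localization.AtPrime q)
        (Localization.AtPrime q ⧸ I.map (algebraMap B (Localization.AtPrime q))) := by
  let L := Localization.AtPrime q
  let ψ : L →ₗ[L] LocalizedModule q.primeCompl (B ⧸ I) :=
    LinearMap.toSpanSingleton L _ (LocalizedModule.mk (Submodule.Quotient.mk (1 : B)) 1)
  have hψ : ∀ (a : B) (s : q.primeCompl),
      ψ (Localization.mk a s) = LocalizedModule.mk (Submodule.Quotient.mk a) s := fun a s => by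
    show Localization.mk a s • LocalizedModule.mk (Submodule.Quotient.mk (1 : B) : B ⧸ I) (1 : q.primeCompl) = _
    rw [LocalizedModule.mk_smul_mk, mul_one, ← Submodule.Quotient.mk_smul, smul_eq_mul, mul_one]
  have hsurj : Function.Surjective ψ := fun z => by
    induction z using LocalizedModule.induction_on with
    | h m s =>
      obtain ⟨a, rfl⟩ := Submodule.Quotient.mk_surjective _ m
      exact ⟨_, hψ a s⟩
  have hker : LinearMap.ker ψ = I.map (algebraMap B L) := by
    ext z
    induction z using Localization.induction_on with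
    | H y =>
      obtain ⟨a, s⟩ := y
      rw [LinearMap.mem_ker, hψ, Localization.mk_eq_mk', IsLocalization.mk'_mem_map_algebraMap_iff q.primeCompl,
        ← LocalizedModule.zero_mk (1 : q.primeCompl), LocalizedModule.mk_eq]
      constructor
      · rintro ⟨c, hc⟩
        rw [smul_zero, smul_zero, one_smul, Submonoid.smul_def, ← Submodule.Quotient.mk_smul,
          Submodule.Quotient.mk_eq_zero] at hc
        exact ⟨c, c.2, hc⟩
      · rintro ⟨c, hc, hca⟩
        refine ⟨⟨c, hc⟩, ?_⟩
        rw [smul_zero, smul_zero, one_smul, Submonoid.smul_def, ← Submodule.Quotient.mk_smul,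
          Submodule.Quotient.mk_eq_zero]
        exact hca
  rw [← (ψ.quotKerEquivOfSurjective hsurj).length_eq, (Submodule.quotEquivOfEq _ _ hker).length_eq]

open Classical in
theorem localized_max_length (q q' : MaximalSpectrum B) :
    Module.length (Localization.AtPrime q.asIdeal) (LocalizedModule q.asIdeal.primeCompl (B ⧸ q'.asIdeal)) =
      if q' = q then 1 else 0 := by
  haveI := q.isMaximal
  rw [localizedQuot_length q.asIdeal q'.asIdeal]
  split_ifs with h
  · subst h
    rw [(Submodule.quotEquivOfEq _ _ (Localization.AtPrime.map_eq_maximalIdeal (I := q'.asIdeal))).length_eq]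
    letI : Field (Localization.AtPrime q'.asIdeal ⧸ maximalIdeal (Localization.AtPrime q'.asIdeal)) :=
      Ideal.Quotient.field _
    rw [Module.length_eq_of_surjective
      (R := Localization.AtPrime q'.asIdeal ⧸ maximalIdeal (Localization.AtPrime q'.asIdeal))
      (S := Localization.AtPrime q'.asIdeal) Ideal.Quotient.mk_surjective]
    exact Module.length_eq_one _ _
  · have htop : q'.asIdeal.map (algebraMap B (Localization.AtPrime q.asIdeal)) = ⊤ := by
      rw [IsLocalization.map_algebraMap_ne_top_iff_disjoint q.asIdeal.primeCompl _ q'.asIdeal |>.not_right.2]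
      intro hd
      refine h (MaximalSpectrum.ext ?_)
      exact q'.isMaximal.eq_of_le q.isMaximal.ne_top fun x hx => by
        by_contra hxq
        exact Set.disjoint_left.1 hd hxq hx
    haveI : Subsingleton (Localization.AtPrime q.asIdeal ⧸ q'.asIdeal.map (algebraMap B (Localization.AtPrime q.asIdeal))) :=
      Submodule.Quotient.subsingleton_iff.2 htop
    exact Module.length_eq_zero

/-- The length over `A` of a module of finite length over `B`. -/
theorem length_eq_sum [Fintype (MaximalSpectrum B)] (N : Type u) [AddCommGroup N] [Module B N] [Module A N]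
    [IsScalarTower A B N] (h : IsFiniteLength B N) :
    Module.length A N = ∑ q : MaximalSpectrum B,
      (deg A q : ℕ∞) * Module.length (Localization.AtPrime q.asIdeal) (LocalizedModule q.asIdeal.primeCompl N) := by
  classical
  rename_i instA instT
  revert instA instT
  induction h with
  | @of_subsingleton M _ _ _ =>
    intro _ _
    rw [Module.length_eq_zero]
    refine (Finset.sum_eq_zero fun q _ => ?_).symm
    haveI : Subsingleton (LocalizedModule q.asIdeal.primeCompl M) := ⟨fun a b => by
      induction a using LocalizedModule.induction_on with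
      | h m s =>
        induction b using LocalizedModule.induction_on with
        | h m' s' => rw [Subsingleton.elim m 0, Subsingleton.elim m' 0, LocalizedModule.zero_mk, LocalizedModule.zero_mk]⟩
    rw [Module.length_eq_zero, mul_zero]
  | @of_simple_quotient M _ _ N hS hN ih =>
    intro _ _
    obtain ⟨I, hI, ⟨e⟩⟩ := isSimpleModule_iff_quot_maximal.1 hS
    let q' : MaximalSpectrum B := ⟨I, hI⟩
    rw [Module.length_eq_add_of_exact (N.subtype.restrictScalars A) (N.mkQ.restrictScalars A)
      (Submodule.subtype_injective _) (Submodule.mkQ_surjective _) (fun x => LinearMap.exact_subtype_mkQ N x),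
      ih, (e.restrictScalars A).length_eq, show Module.length A (B ⧸ I) = deg A q' from length_quot_max A q']
    have hsum : ∀ q : MaximalSpectrum B,
        Module.length (Localization.AtPrime q.asIdeal) (LocalizedModule q.asIdeal.primeCompl M) =
          Module.length (Localization.AtPrime q.asIdeal) (LocalizedModule q.asIdeal.primeCompl N) +
            (if q' = q then 1 else 0) := fun q => by
      rw [← localized_max_length q q']
      exact Module.length_eq_add_of_exact (LocalizedModule.map q.asIdeal.primeCompl N.subtype)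
        (LocalizedModule.map q.asIdeal.primeCompl (e.toLinearMap ∘ₗ N.mkQ))
        (LocalizedModule.map_injective _ _ (Submodule.subtype_injective _))
        (LocalizedModule.map_surjective _ _ (e.surjective.comp (Submodule.mkQ_surjective _)))
        (LocalizedModule.map_exact _ _ _ (LinearMap.exact_iff.mpr (by
          rw [LinearEquiv.ker_comp, Submodule.ker_mkQ, Submodule.range_subtype])))
    simp only [hsum, mul_add, Finset.sum_add_distrib, mul_ite, mul_one, mul_zero, Finset.sum_ite_eq,
      Finset.mem_univ, if_true]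

theorem length_quot_span_eq [Fintype (MaximalSpectrum B)] (p : B)
    (hfin : Module.length A (B ⧸ Ideal.span {p}) < ⊤) :
    Module.length A (B ⧸ Ideal.span {p}) = ∑ q : MaximalSpectrum B,
      (deg A q : ℕ∞) * Ring.ord (Localization.AtPrime q.asIdeal) (algebraMap B (Localization.AtPrime q.asIdeal) p) := by
  have h := isFiniteLength_iff_isNoetherian_isArtinian.1 (Module.length_ne_top_iff.1 hfin.ne)
  haveI := h.1
  haveI := h.2
  have hFL : IsFiniteLength B (B ⧸ Ideal.span {p}) :=
    isFiniteLength_iff_isNoetherian_isArtinian.2 ⟨isNoetherian_of_tower A h.1, isArtinian_of_tower A h.2⟩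
  rw [length_eq_sum A _ hFL]
  refine Finset.sum_congr rfl fun q _ => ?_
  congr 1
  rw [localizedQuot_length]
  unfold Ring.ord
  exact (Submodule.quotEquivOfEq _ _ (by rw [Ideal.map_span, Set.image_singleton])).length_eq

variable [IsNoetherianRing A]

theorem krullDimLE_one [Ring.KrullDimLE 1 A] : Ring.KrullDimLE 1 B := by
  haveI : Algebra.IsIntegral A B := Algebra.IsIntegral.of_finite A B
  rw [Ring.krullDimLE_one_iff]
  intro P hP
  haveI := hP
  by_cases hm : (P.comap (algebraMap A B)).IsMaximal
  · exact Or.inr (Ideal.isMaximal_of_isIntegral_of_isMaximal_comap P hm)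
  · refine Or.inl ⟨⟨hP, bot_le⟩, fun Q ⟨hQ, _⟩ hle => ?_⟩
    haveI := hQ
    by_contra hne
    have hlt : Q < P := lt_of_le_not_ge hle hne
    obtain ⟨x, hxP, hxQ⟩ := SetLike.exists_of_lt hlt
    have h1 := Ideal.comap_lt_comap_of_integral_mem_sdiff (R := A) hle ⟨hxP, hxQ⟩ (Algebra.IsIntegral.isIntegral x)
    rcases Ring.krullDimLE_one_iff.1 (inferInstance : Ring.KrullDimLE 1 A) _ (Ideal.IsPrime.comap (algebraMap A B) (K := P)) with h | h
    · exact h1.not_ge (h.2 ⟨Ideal.IsPrime.comap (algebraMap A B), bot_le⟩ h1.le)
    · exact hm h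

theorem krullDimLE_atPrime [Ring.KrullDimLE 1 A] (q : MaximalSpectrum B) :
    Ring.KrullDimLE 1 (Localization.AtPrime q.asIdeal) := by
  haveI := krullDimLE_one A (B := B)
  rw [Ring.krullDimLE_iff, IsLocalization.AtPrime.ringKrullDim_eq_height q.asIdeal]
  exact le_trans (Ideal.height_le_ringKrullDim_of_ne_top q.isMaximal.ne_top) (Ring.krullDimLE_iff.1 inferInstance)

theorem ord_lt_top [Ring.KrullDimLE 1 A] (q : MaximalSpectrum B) {x : Localization.AtPrime q.asIdeal}
    (hx : x ∈ nonZeroDivisors _) : Ring.ord (Localization.AtPrime q.asIdeal) x < ⊤ := by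
  haveI : IsNoetherianRing B := isNoetherian_of_tower A inferInstance
  haveI := krullDimLE_atPrime A q
  exact Ring.ord_lt_top hx

/-- A nonzerodivisor cuts out finite length. -/
theorem length_quot_span_lt_top [Ring.KrullDimLE 1 A] (p : B) (hp : p ∈ nonZeroDivisors B) :
    Module.length A (B ⧸ Ideal.span {p}) < ⊤ := by
  let θ : Module.End A B := LinearMap.mulLeft A p
  have hθ : Function.Injective θ := fun x y h => by
    have h' : p * x = p * y := h
    exact (mul_cancel_left_mem_nonZeroDivisors hp).1 h'
  have hrange : LinearMap.range θ = (Ideal.span {p}).restrictScalars A := by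
    ext x
    simp [θ, Ideal.mem_span_singleton', mul_comm]
  haveI : IsNoetherian A B := isNoetherian_of_isNoetherianRing_of_finite A B
  have h := CycAlgLib.supportDim_quot_range_nonpos (M := B)
    (le_trans (Module.supportDim_le_ringKrullDim A B) (Ring.krullDimLE_iff.1 inferInstance)) θ hθ
  have h' := CycAlgLib.length_lt_top_of_supportDim_nonpos h
  rw [(Submodule.quotEquivOfEq _ _ hrange).length_eq] at h'
  exact lt_of_eq_of_lt (Submodule.Quotient.restrictScalarsEquiv A (Ideal.span {p})).length_eq.symm h'

/-- Invariance of the length under enlarging by something of finite length. -/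
theorem length_quot_span_invariant [Ring.KrullDimLE 1 A] {C : Type u} [CommRing C] [Algebra A C] [Module.Finite A C]
    (ι : B →ₐ[A] C) (hι : Function.Injective ι) (hQ : Module.length A (C ⧸ LinearMap.range ι.toLinearMap) < ⊤)
    (p : B) (hp : p ∈ nonZeroDivisors B) (hp' : ι p ∈ nonZeroDivisors C) :
    Module.length A (B ⧸ Ideal.span {p}) = Module.length A (C ⧸ Ideal.span {ι p}) := by
  open CycAlg PerHLib in
  let θB : B →ₗ[A] B := LinearMap.mulLeft A p
  let θC : C →ₗ[A] C := LinearMap.mulLeft A (ι p)
  let Rg := LinearMap.range ι.toLinearMap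
  let θQ : (C ⧸ Rg) →ₗ[A] (C ⧸ Rg) := Submodule.mapQ Rg Rg θC (by
    rintro _ ⟨x, rfl⟩; exact ⟨p * x, map_mul ι p x⟩)
  have hker : ∀ {M : Type u} [CommRing M] [Algebra A M] (x : M), x ∈ nonZeroDivisors M →
      Module.length A (CycAlg.perH (LinearMap.mulLeft A x) (0 : M →ₗ[A] M)) = 0 := fun {M} _ _ x hx => by
    haveI : Subsingleton (CycAlg.perH (LinearMap.mulLeft A x) (0 : M →ₗ[A] M)) := ⟨fun a b => by
      obtain ⟨a, ha, rfl⟩ := PerHLib.cls_surj _ _ a
      obtain ⟨b, hb, rfl⟩ := PerHLib.cls_surj _ _ b
      have ha0 : a = 0 := (mul_cancel_left_mem_nonZeroDivisors hx).1 ((show x * a = 0 from ha).trans (mul_zero x).symm)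
      have hb0 : b = 0 := (mul_cancel_left_mem_nonZeroDivisors hx).1 ((show x * b = 0 from hb).trans (mul_zero x).symm)
      subst ha0 hb0
      rfl⟩
    exact Module.length_eq_zero
  have hquot : ∀ {M : Type u} [CommRing M] [Algebra A M] (x : M),
      Module.length A (CycAlg.perH (0 : M →ₗ[A] M) (LinearMap.mulLeft A x)) =
        Module.length A (M ⧸ Ideal.span {x}) := fun {M} _ _ x => by
    refine LinearEquiv.length_eq ((Submodule.Quotient.equiv _ ((Ideal.span {x}).restrictScalars A)
      (LinearEquiv.ofTop _ (LinearMap.ker_zero)) ?_).trans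
        (Submodule.Quotient.restrictScalarsEquiv A (Ideal.span {x})))
    ext z
    constructor
    · rintro ⟨⟨w, hw⟩, hwr, rfl⟩
      obtain ⟨v, hv⟩ : w ∈ LinearMap.range (LinearMap.mulLeft A x) := hwr
      exact Ideal.mem_span_singleton'.2 ⟨v, by rw [mul_comm]; exact hv⟩
    · intro hz
      obtain ⟨v, hv⟩ := Ideal.mem_span_singleton'.1 hz
      exact ⟨⟨z, by simp⟩, ⟨v, by rw [← hv, mul_comm]; rfl⟩, rfl⟩
  have hfB : CycAlg.FinCoh A (0 : B →ₗ[A] B) θB :=
    ⟨by rw [hquot]; exact length_quot_span_lt_top A p hp, by rw [hker p hp]; exact ENat.top_ne_zero.symm.lt_top⟩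
  have hfC : CycAlg.FinCoh A (0 : C →ₗ[A] C) θC :=
    ⟨by rw [hquot]; exact length_quot_span_lt_top A (ι p) hp',
      by rw [hker (ι p) hp']; exact ENat.top_ne_zero.symm.lt_top⟩
  obtain ⟨-, -, hfQ, he⟩ := PerHLib.two_of_three (0 : B →ₗ[A] B) θB (0 : C →ₗ[A] C) θC 0 θQ
    ⟨LinearMap.zero_comp _, LinearMap.comp_zero _⟩ ⟨LinearMap.zero_comp _, LinearMap.comp_zero _⟩
    ι.toLinearMap ι.toLinearMap Rg.mkQ Rg.mkQ (by ext; simp) (LinearMap.ext fun x => (map_mul ι p x).symm)
    (by ext; simp) rfl hι hι Rg.mkQ_surjective Rg.mkQ_surjective (Submodule.ker_mkQ _).symm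
    (Submodule.ker_mkQ _).symm (Or.inl ⟨hfB, hfC⟩)
  have hQ0 : CycAlg.herbrand A (0 : (C ⧸ Rg) →ₗ[A] (C ⧸ Rg)) θQ = 0 := by
    have key : ∀ {P : Type u} [AddCommGroup P] [Module A P] (a : P →ₗ[A] P),
        Module.length A P = Module.length A (LinearMap.range a) + Module.length A (LinearMap.ker a) := fun {P} _ _ a => by
      rw [add_comm]
      exact Module.length_eq_add_of_exact (LinearMap.ker a).subtype a.rangeRestrict
        (Submodule.injective_subtype _) a.surjective_rangeRestrict
        (LinearMap.exact_iff.mpr (by rw [LinearMap.ker_rangeRestrict, Submodule.range_subtype]))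
    have e1 : Module.length A (CycAlg.perH (0 : (C ⧸ Rg) →ₗ[A] (C ⧸ Rg)) θQ) =
        Module.length A ((C ⧸ Rg) ⧸ LinearMap.range θQ) :=
      LinearEquiv.length_eq (Submodule.Quotient.equiv _ _ (LinearEquiv.ofTop _ (LinearMap.ker_zero)) (by
        ext z
        exact ⟨fun ⟨w, hw, hwz⟩ => hwz ▸ hw, fun hz => ⟨⟨z, by simp⟩, hz, rfl⟩⟩))
    have e2 : Module.length A (CycAlg.perH θQ (0 : (C ⧸ Rg) →ₗ[A] (C ⧸ Rg))) =
        Module.length A (LinearMap.ker θQ) :=
      LinearEquiv.length_eq (Submodule.quotEquivOfEqBot _ (by
        rw [LinearMap.range_zero, eq_bot_iff]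
        intro z hz
        exact (Submodule.mem_bot A).2 (Subtype.ext ((Submodule.mem_bot A).1 hz))))
    have e3 := key θQ
    have e4 := Module.length_eq_add_of_exact (LinearMap.range θQ).subtype (LinearMap.range θQ).mkQ
      (Submodule.injective_subtype _) (Submodule.mkQ_surjective _) (LinearMap.exact_subtype_mkQ _)
    rw [e4] at e3 hQ
    have := ENat.add_right_injective_of_ne_top (ENat.add_lt_top.1 hQ).1.ne e3
    rw [CycAlg.herbrand, e1, e2, this, sub_self]
  rw [hQ0, add_zero, CycAlg.herbrand, CycAlg.herbrand, hker p hp, hker (ι p) hp', hquot, hquot] at he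
  simp only [ENat.toNat_zero, Nat.cast_zero, sub_zero, Nat.cast_inj] at he
  rw [← ENat.natCast_toNat (length_quot_span_lt_top A p hp).ne,
    ← ENat.natCast_toNat (length_quot_span_lt_top A (ι p) hp').ne, he]

theorem mem_nonZeroDivisors_of_local (p : B)
    (h : ∀ q : MaximalSpectrum B, algebraMap B (Localization.AtPrime q.asIdeal) p ∈ nonZeroDivisors _) :
    p ∈ nonZeroDivisors B := by
  rw [mem_nonZeroDivisors_iff_right]
  intro x hx
  refine eq_zero_of_localization x fun J hJ => ?_
  refine mem_nonZeroDivisors_iff_right.1 (h ⟨J, hJ⟩) _ ?_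
  rw [← map_mul, hx, map_zero]

/-- An element of `B` equal to a given one up to units at `q`, and a unit at the other maximal ideals. -/
theorem exists_rep [Ring.KrullDimLE 1 A] (q : MaximalSpectrum B) (π : Localization.AtPrime q.asIdeal)
    (hπ : π ∈ nonZeroDivisors _) :
    ∃ p : B, Associated (algebraMap B (Localization.AtPrime q.asIdeal) p) π ∧ p ∈ nonZeroDivisors B ∧
      ∀ q' : MaximalSpectrum B, q' ≠ q → IsUnit (algebraMap B (Localization.AtPrime q'.asIdeal) p) := by
  classical
  let L := Localization.AtPrime q.asIdeal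
  haveI : IsNoetherianRing B := isNoetherian_of_tower A inferInstance
  haveI := krullDimLE_atPrime A q
  obtain ⟨⟨b, s⟩, hb⟩ := IsLocalization.surj q.asIdeal.primeCompl π
  -- a power of the maximal ideal lies in `(π)`
  obtain ⟨N, hN⟩ : ∃ N : ℕ, maximalIdeal L ^ N ≤ Ideal.span {π} := by
    refine Ideal.exists_pow_le_of_le_radical_of_fg ?_ (IsNoetherian.noetherian _)
    rw [Ideal.radical_eq_sInf]
    refine le_sInf ?_
    rintro (P : Ideal L) ⟨hP, hPp⟩
    haveI := hPp
    rcases Ring.krullDimLE_one_iff.1 inferInstance P hPp with h | h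
    · exact absurd hπ (fun hπ => Set.disjoint_left.1 (Ideal.disjoint_nonZeroDivisors_of_mem_minimalPrimes h)
        (hP (Ideal.mem_span_singleton_self π)) hπ)
    · exact (IsLocalRing.eq_maximalIdeal h).ge
  let J : MaximalSpectrum B → Ideal B := fun j => if j = q then j.asIdeal ^ (N + 1) else j.asIdeal
  haveI := finite_maximalSpectrum A (B := B)
  haveI : Fintype (MaximalSpectrum B) := Fintype.ofFinite _
  have hJ : Pairwise (Function.onFun IsCoprime J) := by
    intro i j hij
    have h : IsCoprime i.asIdeal j.asIdeal := by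
      rw [Ideal.isCoprime_iff_sup_eq]
      exact i.isMaximal.coprime_of_ne j.isMaximal fun e => hij (MaximalSpectrum.ext e)
    show IsCoprime (J i) (J j)
    simp only [J]
    split_ifs with h1 h2
    · exact absurd (h1.trans h2.symm) hij
    · exact h.pow_left
    · exact h.pow_right
    · exact h
  obtain ⟨p, hp⟩ := Ideal.exists_forall_sub_mem_ideal hJ fun j => if j = q then b else 1
  have hpu : ∀ j : MaximalSpectrum B, j ≠ q → IsUnit (algebraMap B (Localization.AtPrime j.asIdeal) p) := by
    intro j hj
    rw [IsLocalization.AtPrime.isUnit_to_map_iff (Localization.AtPrime j.asIdeal) j.asIdeal]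
    intro hpj
    have := hp j
    simp only [J, if_neg hj] at this
    exact j.isMaximal.ne_top ((Ideal.eq_top_iff_one _).2 (by
      simpa using j.asIdeal.sub_mem hpj this))
  have hassoc : Associated (algebraMap B L p) π := by
    have h1 : algebraMap B L (p - b) ∈ maximalIdeal L * Ideal.span {π} := by
      have h2 := Ideal.mem_map_of_mem (algebraMap B L) (by simpa [J] using hp q : p - b ∈ q.asIdeal ^ (N + 1))
      rw [Ideal.map_pow, Localization.AtPrime.map_eq_maximalIdeal, pow_succ'] at h2
      exact Ideal.mul_mono le_rfl hN h2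
    rw [Ideal.mem_mul_span_singleton] at h1
    obtain ⟨z, hz, hzπ⟩ := h1
    rw [map_sub] at hzπ
    have hps : algebraMap B L p = π * (algebraMap B L (s : B) + z) := by
      have hb' : π * algebraMap B L (s : B) = algebraMap B L b := hb
      linear_combination -hzπ - hb'
    have hu : IsUnit (algebraMap B L (s : B) + z) := by
      by_contra hu
      have : algebraMap B L (s : B) ∈ maximalIdeal L := by
        have := (maximalIdeal L).sub_mem hu hz
        simpa using this
      exact this (IsLocalization.map_units L s)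
    exact ⟨hu.unit⁻¹, by rw [hps, mul_assoc, IsUnit.mul_val_inv, mul_one]⟩
  refine ⟨p, hassoc, mem_nonZeroDivisors_of_local p fun j => ?_, hpu⟩
  by_cases hj : j = q
  · subst hj
    obtain ⟨u, hu⟩ := hassoc.symm
    rw [← hu]
    exact mul_mem hπ u.isUnit.mem_nonZeroDivisors
  · exact (hpu j hj).mem_nonZeroDivisors

end TameLib
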