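import Mathlib
import Groth.Agent.TameLib.Len
import Groth.Agent.S6312

/-!
# The elementary identity behind the key lemma on tame symbols

`C` is a finite algebra over a local ring `A`, and `a, b` are elements which at finitely many primes
`Q` look like a unit times a power of one element `ρ`. The lengths of the cokernels of the
multiplication maps on the successive pieces of the `ρ`-adic filtrations satisfy an identity.
-/

set_option autoImplicit false
set_option linter.style.haveILetI false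
set_option linter.unusedSectionVars false

universe u

open scoped BigOperators

namespace TameLib.Gap

variable (A : Type u) [CommRing A] {C : Type u} [CommRing C] [Algebra A C]

section cl

variable {M N P : Type*} [AddCommGroup M] [Module C M] [AddCommGroup N] [Module C N] [Module A N]
  [IsScalarTower A C N] [AddCommGroup P] [Module C P] [Module A P] [IsScalarTower A C P]

/-- The length of the cokernel. -/
noncomputable def cl (φ : M →ₗ[C] N) : ℕ∞ := Module.length A (N ⧸ LinearMap.range φ)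

theorem cl_comp (f : M →ₗ[C] N) (g : N →ₗ[C] P) (hg : Function.Injective g) :
    cl A (g ∘ₗ f) = cl A g + cl A f := by
  rw [cl, cl, cl, add_comm]
  refine Module.length_eq_add_of_exact
    (((LinearMap.range f).mapQ (LinearMap.range (g ∘ₗ f)) g
      (by rintro _ ⟨x, rfl⟩; exact ⟨x, rfl⟩)).restrictScalars A)
    ((Submodule.factor (show LinearMap.range (g ∘ₗ f) ≤ LinearMap.range g from
      LinearMap.range_comp_le_range f g)).restrictScalars A) ?_ (Submodule.factor_surjective (LinearMap.range_comp_le_range f g)) ?_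
  · rw [injective_iff_map_eq_zero]
    intro z hz
    obtain ⟨x, rfl⟩ := Submodule.Quotient.mk_surjective _ z
    obtain ⟨y, hy⟩ := (Submodule.Quotient.mk_eq_zero _).1 hz
    rw [Submodule.Quotient.mk_eq_zero]
    exact ⟨y, hg hy⟩
  · intro z
    obtain ⟨x, rfl⟩ := Submodule.Quotient.mk_surjective _ z
    show Submodule.Quotient.mk x = 0 ↔ _
    rw [Submodule.Quotient.mk_eq_zero]
    constructor
    · rintro ⟨y, rfl⟩
      exact ⟨Submodule.Quotient.mk y, rfl⟩
    · rintro ⟨y, hy⟩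
      obtain ⟨y, rfl⟩ := Submodule.Quotient.mk_surjective _ y
      obtain ⟨w, hw⟩ := (Submodule.Quotient.eq _).1 hy
      exact ⟨y - f w, by rw [map_sub]; exact sub_eq_iff_eq_add.2 (eq_add_of_sub_eq' hw.symm)⟩

/-- A morphism of short exact sequences. -/
theorem cl_shortExact {M' M'' N'' : Type*} [AddCommGroup M'] [Module C M'] [AddCommGroup M''] [Module C M'']
    [AddCommGroup N''] [Module C N''] [Module A N''] [IsScalarTower A C N'']
    (i : M →ₗ[C] M') (p : M' →ₗ[C] M'') (j : N →ₗ[C] P) (q : P →ₗ[C] N'')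
    (f₁ : M →ₗ[C] N) (f₂ : M' →ₗ[C] P) (f₃ : M'' →ₗ[C] N'')
    (hp : Function.Surjective p) (hexM : Function.Exact i p) (hj : Function.Injective j)
    (hq : Function.Surjective q) (hexN : Function.Exact j q)
    (c₁ : ∀ x, f₂ (i x) = j (f₁ x)) (c₂ : ∀ x, f₃ (p x) = q (f₂ x)) (h₃ : Function.Injective f₃) :
    cl A f₂ = cl A f₁ + cl A f₃ := by
  rw [cl, cl, cl]
  refine Module.length_eq_add_of_exact
    (((LinearMap.range f₁).mapQ (LinearMap.range f₂) j
      (by rintro _ ⟨x, rfl⟩; exact ⟨i x, c₁ x⟩)).restrictScalars A)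
    (((LinearMap.range f₂).mapQ (LinearMap.range f₃) q
      (by rintro _ ⟨x, rfl⟩; exact ⟨p x, c₂ x⟩)).restrictScalars A) ?_ ?_ ?_
  · rw [injective_iff_map_eq_zero]
    intro z hz
    obtain ⟨x, rfl⟩ := Submodule.Quotient.mk_surjective _ z
    obtain ⟨y, hy⟩ := (Submodule.Quotient.mk_eq_zero _).1 hz
    have h0 : p y = 0 := h₃ (by rw [c₂, hy, hexN.apply_apply_eq_zero, map_zero])
    obtain ⟨w, rfl⟩ := (hexM y).1 h0
    rw [Submodule.Quotient.mk_eq_zero]
    exact ⟨w, hj ((c₁ w).symm.trans hy)⟩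
  · intro z
    obtain ⟨x, rfl⟩ := Submodule.Quotient.mk_surjective _ z
    obtain ⟨y, rfl⟩ := hq x
    exact ⟨Submodule.Quotient.mk y, rfl⟩
  · intro z
    obtain ⟨x, rfl⟩ := Submodule.Quotient.mk_surjective _ z
    show Submodule.Quotient.mk (q x) = 0 ↔ _
    rw [Submodule.Quotient.mk_eq_zero]
    constructor
    · rintro ⟨w, hw⟩
      obtain ⟨w, rfl⟩ := hp w
      obtain ⟨n, hn⟩ := (hexN (x - f₂ w)).1 (by rw [map_sub, ← hw, c₂, sub_self])
      refine ⟨Submodule.Quotient.mk n, (Submodule.Quotient.eq _).2 ⟨-w, ?_⟩⟩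
      rw [map_neg, hn]; abel
    · rintro ⟨y, hy⟩
      obtain ⟨y, rfl⟩ := Submodule.Quotient.mk_surjective _ y
      obtain ⟨w, hw⟩ := (Submodule.Quotient.eq _).1 hy
      exact ⟨-(p w), by rw [map_neg, c₂, hw, map_sub, hexN.apply_apply_eq_zero]; abel⟩

end cl

theorem cl_pi {ι : Type*} [Fintype ι] [DecidableEq ι] {M N : ι → Type u} [∀ i, AddCommGroup (M i)] [∀ i, Module C (M i)]
    [∀ i, AddCommGroup (N i)] [∀ i, Module C (N i)] [∀ i, Module A (N i)] [∀ i, IsScalarTower A C (N i)]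
    (φ : ∀ i, M i →ₗ[C] N i) :
    cl A (LinearMap.pi fun i => φ i ∘ₗ LinearMap.proj i) = ∑ i, cl A (φ i) := by
  have hrange : LinearMap.range (LinearMap.pi fun i => φ i ∘ₗ LinearMap.proj i) =
      Submodule.pi Set.univ (fun i => LinearMap.range (φ i)) := by
    ext y
    simp only [LinearMap.mem_range, Submodule.mem_pi, Set.mem_univ, forall_const]
    constructor
    · rintro ⟨x, rfl⟩ i
      exact ⟨x i, rfl⟩
    · intro h
      choose x hx using h
      exact ⟨x, funext hx⟩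
  simp only [cl]
  rw [(((Submodule.quotEquivOfEq _ _ hrange).trans (Submodule.quotientPi fun i => LinearMap.range (φ i))).restrictScalars A).length_eq]
  exact Module.length_pi_of_fintype A _

section pieces

/-- The piece `X / Y`. -/
abbrev Pc (X Y : Ideal C) := ↥X ⧸ Submodule.submoduleOf Y X

/-- Multiplication by `c` between pieces. -/
def mulP (c : C) (X Y X' Y' : Ideal C) (h : ∀ x ∈ X, c * x ∈ X') (h' : ∀ y ∈ Y, c * y ∈ Y') :
    Pc X Y →ₗ[C] Pc X' Y' :=
  Submodule.mapQ _ _ ((LinearMap.mulLeft C c).restrict (p := X) (q := X') h) (fun x hx => h' x.1 hx)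

theorem mulP_mk (c : C) (X Y X' Y' : Ideal C) (h : ∀ x ∈ X, c * x ∈ X') (h' : ∀ y ∈ Y, c * y ∈ Y') (x : X) :
    mulP c X Y X' Y' h h' (Submodule.Quotient.mk x) = Submodule.Quotient.mk ⟨c * x.1, h x.1 x.2⟩ := rfl

theorem mulP_injective (c : C) (X Y X' Y' : Ideal C) (h : ∀ x ∈ X, c * x ∈ X') (h' : ∀ y ∈ Y, c * y ∈ Y')
    (hr : ∀ x ∈ X, c * x ∈ Y' → x ∈ Y) : Function.Injective (mulP c X Y X' Y' h h') := by
  rw [← LinearMap.ker_eq_bot, eq_bot_iff]
  intro z hz
  obtain ⟨x, rfl⟩ := Submodule.Quotient.mk_surjective _ z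
  rw [Submodule.mem_bot, Submodule.Quotient.mk_eq_zero]
  rw [LinearMap.mem_ker, mulP_mk, Submodule.Quotient.mk_eq_zero] at hz
  exact hr x.1 x.2 hz

/-- The cokernel length of multiplication by `c`, defined without side conditions. -/
noncomputable def clP (c : C) (X X' Y' : Ideal C) : ℕ∞ :=
  Module.length A (↥X' ⧸ Submodule.submoduleOf (Submodule.map (LinearMap.mulLeft C c) X ⊔ Y') X')

theorem cl_mulP (c : C) (X Y X' Y' : Ideal C) (hY' : Y' ≤ X') (h : ∀ x ∈ X, c * x ∈ X') (h' : ∀ y ∈ Y, c * y ∈ Y') :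
    cl A (mulP c X Y X' Y' h h') = clP A c X X' Y' := by
  let π : ↥X' →ₗ[C] Pc X' Y' ⧸ LinearMap.range (mulP c X Y X' Y' h h') :=
    (Submodule.mkQ _).comp (Submodule.mkQ _)
  have hπ : Function.Surjective π := (Submodule.mkQ_surjective _).comp (Submodule.mkQ_surjective _)
  have hk : LinearMap.ker π = Submodule.submoduleOf (Submodule.map (LinearMap.mulLeft C c) X ⊔ Y') X' := by
    ext x
    show Submodule.Quotient.mk (Submodule.Quotient.mk x) = 0 ↔ x.1 ∈ (Submodule.map (LinearMap.mulLeft C c) X ⊔ Y' : Ideal C)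
    rw [Submodule.Quotient.mk_eq_zero, Submodule.mem_sup]
    constructor
    · rintro ⟨y, hy⟩
      obtain ⟨y, rfl⟩ := Submodule.Quotient.mk_surjective _ y
      have := (Submodule.Quotient.eq _).1 hy
      exact ⟨c * y.1, ⟨y.1, y.2, rfl⟩, x.1 - c * y.1, by simpa using Y'.neg_mem (show c * y.1 - x.1 ∈ Y' from this), by ring⟩
    · rintro ⟨_, ⟨y, hy, rfl⟩, w, hw, he⟩
      refine ⟨Submodule.Quotient.mk ⟨y, hy⟩, (Submodule.Quotient.eq _).2 ?_⟩
      show c * y - x.1 ∈ Y'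
      rw [← he, LinearMap.mulLeft_apply, sub_add_cancel_left]
      exact Y'.neg_mem hw
  rw [cl, clP, ← ((π.quotKerEquivOfSurjective hπ).restrictScalars A).length_eq,
    ((Submodule.quotEquivOfEq _ _ hk).restrictScalars A).length_eq]

theorem clP_mul (c d : C) (X Y X' Y' X'' Y'' : Ideal C) (hY' : Y' ≤ X') (hY'' : Y'' ≤ X'')
    (h : ∀ x ∈ X, c * x ∈ X') (h' : ∀ y ∈ Y, c * y ∈ Y') (k : ∀ x ∈ X', d * x ∈ X'') (k' : ∀ y ∈ Y', d * y ∈ Y'')
    (hr : ∀ x ∈ X', d * x ∈ Y'' → x ∈ Y') :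
    clP A (d * c) X X'' Y'' = clP A d X' X'' Y'' + clP A c X X' Y' := by
  rw [← cl_mulP A c X Y X' Y' hY' h h', ← cl_mulP A d X' Y' X'' Y'' hY'' k k',
    ← cl_mulP A (d * c) X Y X'' Y'' hY'' (fun x hx => by rw [mul_assoc]; exact k _ (h x hx))
      (fun y hy => by rw [mul_assoc]; exact k' _ (h' y hy)),
    ← cl_comp A _ _ (mulP_injective d X' Y' X'' Y'' k k' hr)]
  congr 1
  refine Submodule.linearMap_qext _ (LinearMap.ext fun x => ?_)
  exact congrArg Submodule.Quotient.mk (Subtype.ext (mul_assoc d c x.1))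

theorem clP_chain (c : C) (X Y Z X' Y' Z' : Ideal C) (hYX : Y ≤ X) (hZY : Z ≤ Y) (hYX' : Y' ≤ X') (hZY' : Z' ≤ Y')
    (h : ∀ x ∈ X, c * x ∈ X') (hY : ∀ y ∈ Y, c * y ∈ Y') (hZ : ∀ z ∈ Z, c * z ∈ Z')
    (hr : ∀ x ∈ X, c * x ∈ Y' → x ∈ Y) :
    clP A c X X' Z' = clP A c Y Y' Z' + clP A c X X' Y' := by
  rw [← cl_mulP A c X Z X' Z' (hZY'.trans hYX') h hZ, ← cl_mulP A c Y Z Y' Z' hZY' hY hZ,
    ← cl_mulP A c X Y X' Y' hYX' h hY]
  have one : ∀ {U V : Ideal C}, U ≤ V → ∀ x ∈ U, (1 : C) * x ∈ V := fun h x hx => by rw [one_mul]; exact h hx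
  refine cl_shortExact A (mulP 1 Y Z X Z (one hYX) (one le_rfl)) (mulP 1 X Z X Y (one le_rfl) (one hZY))
    (mulP 1 Y' Z' X' Z' (one hYX') (one le_rfl)) (mulP 1 X' Z' X' Y' (one le_rfl) (one hZY'))
    _ _ _ ?_ ?_ ?_ ?_ ?_ ?_ ?_ (mulP_injective c X Y X' Y' h hY hr)
  · intro z
    obtain ⟨x, rfl⟩ := Submodule.Quotient.mk_surjective _ z
    exact ⟨Submodule.Quotient.mk x, congrArg Submodule.Quotient.mk (Subtype.ext (one_mul x.1))⟩
  · intro z
    obtain ⟨x, rfl⟩ := Submodule.Quotient.mk_surjective _ z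
    rw [mulP_mk, Submodule.Quotient.mk_eq_zero]
    show 1 * x.1 ∈ Y ↔ _
    rw [one_mul]
    constructor
    · intro hx
      exact ⟨Submodule.Quotient.mk ⟨x.1, hx⟩, congrArg Submodule.Quotient.mk (Subtype.ext (one_mul x.1))⟩
    · rintro ⟨w, hw⟩
      obtain ⟨w, rfl⟩ := Submodule.Quotient.mk_surjective _ w
      rw [mulP_mk] at hw
      have h0' := (Submodule.Quotient.eq _).1 hw
      have h0 : 1 * w.1 - x.1 ∈ Z := h0'
      rw [one_mul] at h0
      simpa using Y.sub_mem w.2 (hZY h0)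
  · exact mulP_injective 1 Y' Z' X' Z' _ _ (fun x _ hx => by rwa [one_mul] at hx)
  · intro z
    obtain ⟨x, rfl⟩ := Submodule.Quotient.mk_surjective _ z
    exact ⟨Submodule.Quotient.mk x, congrArg Submodule.Quotient.mk (Subtype.ext (one_mul x.1))⟩
  · intro z
    obtain ⟨x, rfl⟩ := Submodule.Quotient.mk_surjective _ z
    rw [mulP_mk, Submodule.Quotient.mk_eq_zero]
    show 1 * x.1 ∈ Y' ↔ _
    rw [one_mul]
    constructor
    · intro hx
      exact ⟨Submodule.Quotient.mk ⟨x.1, hx⟩, congrArg Submodule.Quotient.mk (Subtype.ext (one_mul x.1))⟩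
    · rintro ⟨w, hw⟩
      obtain ⟨w, rfl⟩ := Submodule.Quotient.mk_surjective _ w
      rw [mulP_mk] at hw
      have h0' := (Submodule.Quotient.eq _).1 hw
      have h0 : 1 * w.1 - x.1 ∈ Z' := h0'
      rw [one_mul] at h0
      simpa using Y'.sub_mem w.2 (hZY' h0)
  · intro z
    obtain ⟨x, rfl⟩ := Submodule.Quotient.mk_surjective _ z
    exact congrArg Submodule.Quotient.mk (Subtype.ext (show c * (1 * x.1) = 1 * (c * x.1) by ring))
  · intro z
    obtain ⟨x, rfl⟩ := Submodule.Quotient.mk_surjective _ z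
    exact congrArg Submodule.Quotient.mk (Subtype.ext (show c * (1 * x.1) = 1 * (c * x.1) by ring))

end pieces

section finiteness

variable [IsLocalRing A] [IsNoetherianRing A] [Module.Finite A C]

theorem length_lt_top_of_locally_zero (N : Type u) [AddCommGroup N] [Module C N] [Module A N] [IsScalarTower A C N]
    [Module.Finite C N] (h : ∀ P : Ideal C, P.IsPrime → ¬ P.IsMaximal → ∀ z : N, ∃ c ∉ P, c • z = 0) :
    Module.length A N < ⊤ := by
  haveI : IsNoetherianRing C := isNoetherian_of_tower A inferInstance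
  haveI := finite_maximalSpectrum A (B := C)
  haveI : Fintype (MaximalSpectrum C) := Fintype.ofFinite _
  have hmax : ∀ p : PrimeSpectrum C, p ∈ Module.support C N → p.asIdeal.IsMaximal := by
    intro p hp
    by_contra hne
    obtain ⟨z, hz⟩ := Module.mem_support_iff'.1 hp
    obtain ⟨c, hc, hcz⟩ := h p.asIdeal p.2 hne z
    exact hz c hc hcz
  have hlen : Module.length C N < ⊤ := by
    refine CycAlgLib.length_lt_top_of_supportDim_nonpos ?_
    rw [Module.supportDim, Order.krullDim_nonpos_iff_forall_isMax]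
    rintro ⟨p, hp⟩ ⟨q, hq⟩ hle
    exact le_of_eq (Subtype.ext (PrimeSpectrum.ext ((hmax p hp).eq_of_le q.2.ne_top hle).symm))
  rw [length_eq_sum A N (Module.length_ne_top_iff.1 hlen.ne)]
  refine WithTop.sum_lt_top.2 fun q _ => WithTop.mul_lt_top (ENat.natCast_lt_top _) ?_
  refine lt_of_le_of_lt ?_ hlen
  exact Groth.Agent.S6312.result q.asIdeal.primeCompl N

theorem length_quot_lt_top_of_le {X : Ideal C} {U V : Submodule C X} (hUV : U ≤ V)
    (h : Module.length A (↥X ⧸ U) < ⊤) : Module.length A (↥X ⧸ V) < ⊤ :=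
  lt_of_le_of_lt (Module.length_le_of_surjective ((Submodule.factor hUV).restrictScalars A)
    (Submodule.factor_surjective hUV)) h

theorem clP_lt_top (c : C) (X X' Y' : Ideal C)
    (h : ∀ P : Ideal C, P.IsPrime → ¬ P.IsMaximal → ∀ z ∈ X', ∃ s ∉ P, ∃ x ∈ X, ∃ y ∈ Y', s * z = c * x + y) :
    clP A c X X' Y' < ⊤ := by
  haveI : IsNoetherianRing C := isNoetherian_of_tower A inferInstance
  refine length_lt_top_of_locally_zero (C := C) A (↥X' ⧸ Submodule.submoduleOf (Submodule.map (LinearMap.mulLeft C c) X ⊔ Y') X') ?_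
  intro P hP hne z
  obtain ⟨z, rfl⟩ := Submodule.Quotient.mk_surjective _ z
  obtain ⟨s, hs, x, hx, y, hy, he⟩ := h P hP hne z.1 z.2
  refine ⟨s, hs, ?_⟩
  rw [← Submodule.Quotient.mk_smul, Submodule.Quotient.mk_eq_zero]
  exact Submodule.mem_sup.2 ⟨c * x, ⟨x, hx, rfl⟩, y, hy, he.symm⟩

end finiteness

section local_

variable {A}
variable (Q : Ideal C) [Q.IsPrime] (ρ : C)

/-- The symbolic power of `(ρ)` at `Q`. -/
def Xp (k : ℕ) : Ideal C :=
  (Ideal.span {algebraMap C (Localization.AtPrime Q) ρ ^ k}).comap (algebraMap C (Localization.AtPrime Q))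

variable {Q ρ}

theorem mem_Xp {k : ℕ} {x : C} : x ∈ Xp Q ρ k ↔ ∃ t ∉ Q, ∃ y, t * x = y * ρ ^ k := by
  rw [Xp, Ideal.mem_comap, ← map_pow, ← Set.image_singleton, ← Ideal.map_span,
    IsLocalization.algebraMap_mem_map_algebraMap_iff Q.primeCompl]
  constructor
  · rintro ⟨t, ht, h⟩
    obtain ⟨y, hy⟩ := Ideal.mem_span_singleton'.1 h
    exact ⟨t, ht, y, hy.symm⟩
  · rintro ⟨t, ht, y, hy⟩
    exact ⟨t, ht, Ideal.mem_span_singleton'.2 ⟨y, hy.symm⟩⟩

theorem Xp_zero : Xp Q ρ 0 = ⊤ := by simp [Xp]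

theorem Xp_anti {i j : ℕ} (h : i ≤ j) : Xp Q ρ j ≤ Xp Q ρ i :=
  Ideal.comap_mono (by
    rw [Ideal.span_singleton_le_span_singleton]
    exact pow_dvd_pow _ h)

theorem mul_mem_Xp {i j : ℕ} {x y : C} (hx : x ∈ Xp Q ρ i) (hy : y ∈ Xp Q ρ j) : x * y ∈ Xp Q ρ (i + j) := by
  rw [Xp, Ideal.mem_comap] at hx hy ⊢
  rw [map_mul, pow_add, ← Ideal.span_singleton_mul_span_singleton]
  exact Ideal.mul_mem_mul hx hy

theorem pow_mem_Xp {y : C} (hy : y ∈ Xp Q ρ 1) : ∀ k : ℕ, y ^ k ∈ Xp Q ρ k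
  | 0 => by rw [pow_zero, Xp_zero]; trivial
  | k + 1 => by rw [pow_succ]; exact mul_mem_Xp (pow_mem_Xp hy k) hy

/-- `c` is a unit times `ρ^e` at `Q`. -/
def Rel (Q : Ideal C) [Q.IsPrime] (ρ c : C) (e : ℕ) : Prop := ∃ s ∉ Q, ∃ r ∉ Q, s * c = r * ρ ^ e

theorem Rel.span_eq {c : C} {e : ℕ} (h : Rel Q ρ c e) :
    ∃ u : (Localization.AtPrime Q)ˣ, algebraMap C (Localization.AtPrime Q) c = u * algebraMap C _ ρ ^ e := by
  obtain ⟨s, hs, r, hr, he⟩ := h
  obtain ⟨us, hus⟩ := IsLocalization.map_units (Localization.AtPrime Q) (⟨s, hs⟩ : Q.primeCompl)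
  obtain ⟨ur, hur⟩ := IsLocalization.map_units (Localization.AtPrime Q) (⟨r, hr⟩ : Q.primeCompl)
  refine ⟨us⁻¹ * ur, ?_⟩
  have h' := congrArg (algebraMap C (Localization.AtPrime Q)) he
  rw [map_mul, map_mul, map_pow, ← hus, ← hur] at h'
  rw [Units.val_mul, mul_assoc, ← h', Units.inv_mul_cancel_left]

theorem rel_pow (k : ℕ) : Rel Q ρ (ρ ^ k) k :=
  ⟨1, fun h => ‹Q.IsPrime›.ne_top ((Ideal.eq_top_iff_one _).2 h), 1,
    fun h => ‹Q.IsPrime›.ne_top ((Ideal.eq_top_iff_one _).2 h), rfl⟩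

theorem rel_of_not_mem {r : C} (hr : r ∉ Q) : Rel Q ρ r 0 :=
  ⟨1, fun h => ‹Q.IsPrime›.ne_top ((Ideal.eq_top_iff_one _).2 h), r, hr, by rw [pow_zero, one_mul, mul_one]⟩

theorem Rel.mul {c d : C} {e e' : ℕ} (h : Rel Q ρ c e) (h' : Rel Q ρ d e') : Rel Q ρ (c * d) (e + e') := by
  obtain ⟨s, hs, r, hr, he⟩ := h
  obtain ⟨s', hs', r', hr', he'⟩ := h'
  refine ⟨s * s', ‹Q.IsPrime›.mul_notMem hs hs', r * r', ‹Q.IsPrime›.mul_notMem hr hr', ?_⟩
  rw [pow_add]
  linear_combination (s' * d) * he + r * ρ ^ e * he'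

theorem Rel.shift {c : C} {e : ℕ} (h : Rel Q ρ c e) {i i' : ℕ} (hi : i + e = i') {x : C} (hx : x ∈ Xp Q ρ i) :
    c * x ∈ Xp Q ρ i' := by
  obtain ⟨u, hu⟩ := h.span_eq
  rw [Xp, Ideal.mem_comap] at hx ⊢
  obtain ⟨w, hw⟩ := Ideal.mem_span_singleton'.1 hx
  exact Ideal.mem_span_singleton'.2 ⟨u * w, by rw [map_mul, hu, ← hw, ← hi, pow_add]; ring⟩

theorem Rel.reflect (hρ : algebraMap C (Localization.AtPrime Q) ρ ∈ nonZeroDivisors (Localization.AtPrime Q))
    {c : C} {e : ℕ} (h : Rel Q ρ c e) {i i' : ℕ} (hi : i + e = i') {x : C}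
    (hx : c * x ∈ Xp Q ρ i') : x ∈ Xp Q ρ i := by
  obtain ⟨u, hu⟩ := h.span_eq
  rw [Xp, Ideal.mem_comap] at hx ⊢
  obtain ⟨w, hw⟩ := Ideal.mem_span_singleton'.1 hx
  refine Ideal.mem_span_singleton'.2 ⟨↑u⁻¹ * w, ?_⟩
  rw [map_mul, hu, ← hi, pow_add] at hw
  refine (mul_cancel_left_mem_nonZeroDivisors (pow_mem hρ e)).1 ?_
  have h2 : algebraMap C (Localization.AtPrime Q) ρ ^ e * algebraMap C _ x =
      ↑u⁻¹ * (↑u * algebraMap C _ ρ ^ e * algebraMap C _ x) := by
    rw [mul_assoc (u : Localization.AtPrime Q), Units.inv_mul_cancel_left]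
  rw [h2, ← hw]; ring

end local_

section identity

variable [IsLocalRing A] [IsNoetherianRing A] [Module.Finite A C]
variable (Q : Ideal C) [Q.IsPrime] (ρ : C)

/-- Cokernel length of `c` from the piece `i` to the piece `i'`. -/
noncomputable def step (c : C) (i i' : ℕ) : ℕ∞ := clP A c (Xp Q ρ i) (Xp Q ρ i') (Xp Q ρ (i' + 1))

variable {Q ρ}
variable (hρ : algebraMap C (Localization.AtPrime Q) ρ ∈ nonZeroDivisors (Localization.AtPrime Q))
variable (hout : ∀ P : Ideal C, P.IsPrime → ¬ P.IsMaximal → P ≠ Q → ∃ y ∈ Xp Q ρ 1, y ∉ P)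

include hρ in
theorem step_mul {c d : C} {e e' : ℕ} (hc : Rel Q ρ c e) (hd : Rel Q ρ d e') {i i' i'' : ℕ} (h₁ : i + e = i')
    (h₂ : i' + e' = i'') : step A Q ρ (d * c) i i'' = step A Q ρ d i' i'' + step A Q ρ c i i' :=
  clP_mul A c d (Xp Q ρ i) (Xp Q ρ (i + 1)) (Xp Q ρ i') (Xp Q ρ (i' + 1)) (Xp Q ρ i'') (Xp Q ρ (i'' + 1))
    (Xp_anti (Nat.le_succ _)) (Xp_anti (Nat.le_succ _)) (fun x => hc.shift h₁) (fun x => hc.shift (by omega))
    (fun x => hd.shift h₂) (fun x => hd.shift (by omega)) (fun x _ => hd.reflect hρ (by omega))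

include hout in
theorem step_lt_top {c : C} {e : ℕ} (hc : Rel Q ρ c e) {i i' : ℕ} (h : i + e = i') :
    step A Q ρ c i i' < ⊤ := by
  refine clP_lt_top A c _ _ _ fun P hP hne z hz => ?_
  by_cases hPQ : P = Q
  · subst hPQ
    obtain ⟨s, hs, r, hr, he⟩ := hc
    obtain ⟨t, ht, y, hy⟩ := mem_Xp.1 hz
    refine ⟨t * r, hP.mul_notMem ht hr, s * y * ρ ^ i, ?_, 0, Ideal.zero_mem _, ?_⟩
    · exact Ideal.mul_mem_left _ _ (mem_Xp.2 ⟨1, fun h => hP.ne_top ((Ideal.eq_top_iff_one _).2 h), 1, rfl⟩)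
    · rw [add_zero]
      subst h
      rw [pow_add] at hy
      linear_combination r * hy - (y * ρ ^ i) * he
  · obtain ⟨y, hy, hyP⟩ := hout P hP hne hPQ
    exact ⟨y, hyP, 0, Ideal.zero_mem _, y * z, by rw [add_comm i']; exact mul_mem_Xp hy hz, by ring⟩

variable {a : C} {e : ℕ} {sa ra : C}

include hρ hout in
theorem step_formula (hsa : sa ∉ Q) (hra : ra ∉ Q) (ha : sa * a = ra * ρ ^ e) (k : ℕ) :
    ((step A Q ρ a k (k + e)).toNat : ℤ) =
      (step A Q ρ (ρ ^ (k + e)) 0 (k + e)).toNat - (step A Q ρ (ρ ^ k) 0 k).toNat +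
        ((step A Q ρ ra 0 0).toNat - (step A Q ρ sa 0 0).toNat) := by
  have hA : Rel Q ρ a e := ⟨sa, hsa, ra, hra, ha⟩
  have hS : Rel Q ρ sa 0 := rel_of_not_mem hsa
  have hR : Rel Q ρ ra 0 := rel_of_not_mem hra
  have t := fun {x y : ℕ∞} (hx : x < ⊤) (hy : y < ⊤) => (ENat.toNat_add hx.ne hy.ne : (x + y).toNat = _)
  have F := fun {c : C} {m : ℕ} (hc : Rel Q ρ c m) {i i' : ℕ} (h : i + m = i') => step_lt_top A hout hc h
  -- `ρ^k a = a ρ^k`, `ρ^k ρ^e = ρ^(k+e)`, `sa a = ra ρ^e`, `ρ^e sa = sa ρ^e`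
  have E1 := congrArg ENat.toNat ((step_mul A hρ (rel_pow k) hA (zero_add k) rfl).symm.trans
    ((congrArg (fun c => step A Q ρ c 0 (k + e)) (mul_comm a (ρ ^ k))).trans
      (step_mul A hρ hA (rel_pow k) (zero_add e) (add_comm e k))))
  have E2 := congrArg ENat.toNat ((congrArg (fun c => step A Q ρ c 0 (k + e)) (pow_add ρ k e)).trans
    (step_mul A hρ (rel_pow e) (rel_pow k) (zero_add e) (add_comm e k)))
  have E3 := congrArg ENat.toNat ((step_mul A hρ hA hS (zero_add e) (add_zero e)).symm.trans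
    ((congrArg (fun c => step A Q ρ c 0 e) ha).trans
      ((congrArg (fun c => step A Q ρ c 0 e) (mul_comm ra _)).trans
        (step_mul A hρ hR (rel_pow e) (zero_add 0) (zero_add e)))))
  have E4 := congrArg ENat.toNat ((step_mul A hρ (rel_pow e) hS (zero_add e) (add_zero e)).symm.trans
    ((congrArg (fun c => step A Q ρ c 0 e) (mul_comm sa (ρ ^ e))).trans
      (step_mul A hρ hS (rel_pow e) (zero_add 0) (zero_add e))))
  rw [t (F hA rfl) (F (rel_pow k) (zero_add k)), t (F (rel_pow k) (add_comm e k)) (F hA (zero_add e))] at E1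
  rw [t (F (rel_pow k) (add_comm e k)) (F (rel_pow e) (zero_add e))] at E2
  rw [t (F hS (add_zero e)) (F hA (zero_add e)), t (F (rel_pow e) (zero_add e)) (F hR (zero_add 0))] at E3
  rw [t (F hS (add_zero e)) (F (rel_pow e) (zero_add e)), t (F (rel_pow e) (zero_add e)) (F hS (zero_add 0))] at E4
  omega

include hρ in
theorem clP_eq_sum {c : C} {e : ℕ} (hc : Rel Q ρ c e) : ∀ f : ℕ,
    clP A c (Xp Q ρ 0) (Xp Q ρ e) (Xp Q ρ (f + e)) = ∑ k ∈ Finset.range f, step A Q ρ c k (k + e) := by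
  intro f
  induction f with
  | zero =>
    rw [Finset.range_zero, Finset.sum_empty, clP, zero_add]
    haveI : Subsingleton (↥(Xp Q ρ e) ⧸ Submodule.submoduleOf (Submodule.map (LinearMap.mulLeft C c) (Xp Q ρ 0) ⊔ Xp Q ρ e) (Xp Q ρ e)) :=
      Submodule.Quotient.subsingleton_iff.2 (Submodule.submoduleOf_eq_top.2 le_sup_right)
    exact Module.length_eq_zero
  | succ f ih =>
    rw [Finset.sum_range_succ, ← ih, clP_chain A c (Xp Q ρ 0) (Xp Q ρ f) (Xp Q ρ (f + 1)) (Xp Q ρ e) (Xp Q ρ (f + e))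
      (Xp Q ρ (f + 1 + e)) (Xp_anti (Nat.zero_le _)) (Xp_anti (Nat.le_succ _)) (Xp_anti (Nat.le_add_left _ _))
      (Xp_anti (by omega)) (fun x => hc.shift (zero_add e)) (fun x => hc.shift rfl) (fun x => hc.shift rfl)
      (fun x _ => hc.reflect hρ rfl), add_comm]
    congr 1
    rw [step]
    congr 2
    omega

include hρ hout in
/-- The local part: the difference of the two cokernels. -/
theorem local_identity {b sb rb : C} {f : ℕ} (hsa : sa ∉ Q) (hra : ra ∉ Q) (ha : sa * a = ra * ρ ^ e)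
    (hsb : sb ∉ Q) (hrb : rb ∉ Q) (hb : sb * b = rb * ρ ^ f) :
    ((clP A a (Xp Q ρ 0) (Xp Q ρ e) (Xp Q ρ (f + e))).toNat : ℤ) -
        (clP A b (Xp Q ρ 0) (Xp Q ρ f) (Xp Q ρ (e + f))).toNat =
      f * ((step A Q ρ ra 0 0).toNat - (step A Q ρ sa 0 0).toNat : ℤ) -
        e * ((step A Q ρ rb 0 0).toNat - (step A Q ρ sb 0 0).toNat : ℤ) := by
  have hA : Rel Q ρ a e := ⟨sa, hsa, ra, hra, ha⟩
  have hB : Rel Q ρ b f := ⟨sb, hsb, rb, hrb, hb⟩
  rw [clP_eq_sum A hρ hA f, clP_eq_sum A hρ hB e, ENat.toNat_sum fun k _ => (step_lt_top A hout hA rfl).ne,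
    ENat.toNat_sum fun k _ => (step_lt_top A hout hB rfl).ne, Nat.cast_sum, Nat.cast_sum,
    Finset.sum_congr rfl fun k _ => step_formula A hρ hout hsa hra ha k,
    Finset.sum_congr rfl fun k _ => step_formula A hρ hout hsb hrb hb k]
  set P : ℕ → ℤ := fun k => ((step A Q ρ (ρ ^ k) 0 k).toNat : ℤ) with hP
  simp only [Finset.sum_add_distrib, Finset.sum_sub_distrib, Finset.sum_const, Finset.card_range, nsmul_eq_mul]
  have h1 := Finset.sum_range_add P e f
  have h2 := Finset.sum_range_add P f e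
  rw [Finset.sum_congr rfl (fun k _ => show P (e + k) = P (k + e) by rw [add_comm])] at h1
  rw [Finset.sum_congr rfl (fun k _ => show P (f + k) = P (k + f) by rw [add_comm]), add_comm f e] at h2
  simp only [hP] at h1 h2
  linarith

end identity

end TameLib.Gap
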