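import Mathlib
import Groth.Prelude.Def_Tame
import Groth.Agent.TameLib.Gap
import Groth.Agent.TameLib.OrdFrac
import Groth.Agent.S0612

/-! # The length of `B / rB` and the norm of `r` -/

set_option autoImplicit false
set_option linter.style.haveILetI false
set_option linter.unusedSectionVars false

universe u

namespace TameLib

open scoped BigOperators

theorem length_quot_span_eq_ordFrac_norm {A : Type u} [CommRing A] [IsDomain A] [IsNoetherianRing A] [IsLocalRing A]
    [Ring.KrullDimLE 1 A] {B : Type u} [CommRing B] [IsDomain B] [Algebra A B]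
    (hinj : Function.Injective (algebraMap A B)) [Module.Finite A B]
    (K L : Type u) [Field K] [Field L] [Algebra A K] [IsFractionRing A K] [Algebra B L]
    [IsFractionRing B L] [Algebra K L] [Algebra A L] [IsScalarTower A B L] [IsScalarTower A K L]
    [FiniteDimensional K L] (r : B) (hr : r ≠ 0) :
    Module.length A (B ⧸ Ideal.span {r}) < ⊤ ∧
      ((Module.length A (B ⧸ Ideal.span {r})).toNat : ℤ) =
        CycAlg.ordFrac A K (Algebra.norm K (algebraMap B L r)) := by
  classical
  haveI : Algebra.IsIntegral A B := Algebra.IsIntegral.of_finite A B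
  haveI : Algebra.IsAlgebraic A B := Algebra.IsIntegral.isAlgebraic
  have hlt : ∀ x : B, x ≠ 0 → Module.length A (B ⧸ Ideal.span {x}) < ⊤ := fun x hx =>
    length_quot_span_lt_top A x (mem_nonZeroDivisors_of_ne_zero hx)
  refine ⟨hlt r hr, ?_⟩
  have hBL : Function.Injective (algebraMap B L) := IsFractionRing.injective B L
  have hAK : Function.Injective (algebraMap A K) := IsFractionRing.injective A K
  -- a basis coming from `B`
  have hden : ∀ x : L, ∃ a : A, a ≠ 0 ∧ ∃ b : B, algebraMap B L b = algebraMap A L a * x := by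
    intro x
    obtain ⟨p, q, hq, rfl⟩ := IsFractionRing.div_surjective B x
    obtain ⟨a, ha, hdvd⟩ := (Algebra.IsAlgebraic.isAlgebraic q : IsAlgebraic A q).exists_nonzero_dvd hq
    obtain ⟨w, hw⟩ := hdvd
    refine ⟨a, ha, w * p, ?_⟩
    rw [IsScalarTower.algebraMap_apply A B L, hw, map_mul, map_mul]
    have : algebraMap B L q ≠ 0 := fun h => nonZeroDivisors.ne_zero hq (hBL (h.trans (map_zero _).symm))
    field_simp
  let v := Module.finBasis K L
  choose av hav bv hbv using fun i => hden (v i)
  let n := Module.finrank K L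
  let bas : Module.Basis (Fin n) K L :=
    v.isUnitSMul (w := fun i => algebraMap A K (av i)) fun i =>
      (_root_.map_ne_zero_iff _ hAK).2 (hav i) |>.isUnit
  have hbas : ∀ i, bas i = algebraMap B L (bv i) := fun i => by
    rw [hbv, IsScalarTower.algebraMap_apply A K L, ← Algebra.smul_def]
    exact Module.Basis.isUnitSMul_apply _ _
  let ι : (Fin n → A) →ₗ[A] B := Fintype.linearCombination A bv
  have hι : ∀ c : Fin n → A, algebraMap B L (ι c) = ∑ i, algebraMap A K (c i) • bas i := fun c => by
    rw [Fintype.linearCombination_apply, map_sum]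
    refine Finset.sum_congr rfl fun i _ => ?_
    rw [hbas, Algebra.smul_def, map_mul, Algebra.smul_def, ← IsScalarTower.algebraMap_apply A B L,
      ← IsScalarTower.algebraMap_apply A K L]
  have hιrepr : ∀ c : Fin n → A, ⇑(bas.repr (algebraMap B L (ι c))) = fun i => algebraMap A K (c i) := fun c => by
    rw [hι, Module.Basis.repr_sum_self]
  have hιinj : Function.Injective ι := fun c c' h => by
    have h' := (hιrepr c).symm.trans ((congrArg (fun x => ⇑(bas.repr (algebraMap B L x))) h).trans (hιrepr c'))
    exact funext fun i => hAK (congrFun h' i)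
  -- a common denominator
  obtain ⟨G, hG⟩ := (Module.Finite.fg_top : (⊤ : Submodule A B).FG)
  obtain ⟨⟨s, hs⟩, hsint⟩ := IsLocalization.exist_integer_multiples_of_finite (nonZeroDivisors A)
    (fun p : G × Fin n => bas.repr (algebraMap B L p.1.1) p.2)
  have hden' : ∀ x : B, ∃ c, ι c = algebraMap A B s * x := by
    intro x
    have hx : x ∈ Submodule.span A (G : Set B) := by rw [hG]; trivial
    induction hx using Submodule.span_induction with
    | mem g hg =>
      choose c hc using fun i => hsint (⟨g, hg⟩, i)
      refine ⟨c, hBL ?_⟩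
      rw [hι, Finset.sum_congr rfl fun i _ => by rw [show algebraMap A K (c i) = s • bas.repr (algebraMap B L g) i from hc i],
        map_mul, ← IsScalarTower.algebraMap_apply A B L]
      conv_rhs => rw [← bas.sum_repr (algebraMap B L g), Finset.mul_sum]
      refine Finset.sum_congr rfl fun i _ => ?_
      rw [smul_assoc, Algebra.smul_def s]
    | zero => exact ⟨0, by rw [map_zero, mul_zero]⟩
    | add x y _ _ hx hy =>
      obtain ⟨c, hc⟩ := hx
      obtain ⟨d, hd⟩ := hy
      exact ⟨c + d, by rw [map_add, hc, hd, mul_add]⟩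
    | smul t x _ hx =>
      obtain ⟨c, hc⟩ := hx
      exact ⟨t • c, by rw [map_smul, hc, mul_smul_comm]⟩
  have hsB : algebraMap A B s ≠ 0 := fun h => nonZeroDivisors.ne_zero hs (hinj (h.trans (map_zero _).symm))
  have hcι : Gap.cl A (C := A) ι < ⊤ := by
    refine lt_of_le_of_lt ?_ (hlt _ hsB)
    let f : (B ⧸ (Ideal.span {algebraMap A B s}).restrictScalars A) →ₗ[A] B ⧸ LinearMap.range ι :=
      Submodule.factor (by
        intro x hx
        obtain ⟨w, rfl⟩ := Ideal.mem_span_singleton'.1 hx
        obtain ⟨c, hc⟩ := hden' w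
        exact ⟨c, hc.trans (mul_comm _ _)⟩)
    exact le_of_le_of_eq (Module.length_le_of_surjective f (Submodule.factor_surjective _))
      (Submodule.Quotient.restrictScalarsEquiv A (Ideal.span {algebraMap A B s})).length_eq
  -- the computation for an element of the conductor
  have key : ∀ x : B, x ≠ 0 → (∀ i, ∃ c, ι c = x * bv i) →
      ((Module.length A (B ⧸ Ideal.span {x})).toNat : ℤ) =
        CycAlg.ordFrac A K (Algebra.norm K (algebraMap B L x)) := by
    intro x hx hxi
    choose col hcol using hxi
    let φ : (Fin n → A) →ₗ[A] (Fin n → A) := (Pi.basisFun A (Fin n)).constr A col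
    have hφ : ∀ i, φ (Pi.single i 1) = col i := fun i => by
      rw [← Pi.basisFun_apply A]
      exact Module.Basis.constr_basis _ _ _ _
    have hcomm : ι ∘ₗ φ = LinearMap.mulLeft A x ∘ₗ ι := by
      refine (Pi.basisFun A (Fin n)).ext fun i => ?_
      rw [Pi.basisFun_apply, LinearMap.comp_apply, LinearMap.comp_apply, hφ, hcol, LinearMap.mulLeft_apply,
        Fintype.linearCombination_apply_single, one_smul]
    have hm : Function.Injective (LinearMap.mulLeft A x) := mul_right_injective₀ hx
    have hlen : Module.length A ((Fin n → A) ⧸ LinearMap.range φ) = Module.length A (B ⧸ Ideal.span {x}) := by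
      have h1 : Gap.cl A (C := A) (ι ∘ₗ φ) = Gap.cl A (C := A) ι + Gap.cl A (C := A) φ := Gap.cl_comp A φ ι hιinj
      have h2 : Gap.cl A (C := A) (LinearMap.mulLeft A x ∘ₗ ι) =
          Gap.cl A (C := A) (LinearMap.mulLeft A x) + Gap.cl A (C := A) ι := Gap.cl_comp A ι _ hm
      have h3 : Gap.cl A (C := A) (LinearMap.mulLeft A x) = Module.length A (B ⧸ Ideal.span {x}) := by
        have hr' : LinearMap.range (LinearMap.mulLeft A x) = (Ideal.span {x}).restrictScalars A := by
          ext z
          simp [Ideal.mem_span_singleton', mul_comm]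
        rw [Gap.cl, (Submodule.quotEquivOfEq _ _ hr').length_eq]
        exact (Submodule.Quotient.restrictScalarsEquiv A (Ideal.span {x})).length_eq
      rw [hcomm, h2, h3, add_comm _ (Gap.cl A (C := A) ι)] at h1
      exact ((WithTop.add_left_inj hcι.ne).1 h1).symm
    have hmat : (LinearMap.toMatrix' φ).map (algebraMap A K) = Algebra.leftMulMatrix bas (algebraMap B L x) := by
      ext i j
      rw [Matrix.map_apply, LinearMap.toMatrix'_apply, Algebra.leftMulMatrix_eq_repr_mul, hbas, ← map_mul,
        ← hcol j, hιrepr]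
      congr 1
      rw [← hφ j]
    have hdet : algebraMap A K (LinearMap.det φ) = Algebra.norm K (algebraMap B L x) := by
      rw [← LinearMap.det_toMatrix', RingHom.map_det, RingHom.mapMatrix_apply, hmat, Algebra.norm_eq_matrix_det bas]
    have hne : LinearMap.det φ ≠ 0 := fun h => by
      rw [h, map_zero] at hdet
      exact hx (hBL ((Algebra.norm_eq_zero_iff.1 hdet.symm).trans (map_zero _).symm))
    rw [← hdet, ordFrac_algebraMap hne, ← hlen,
      Groth.Agent.S0612.result φ (mem_nonZeroDivisors_of_ne_zero hne)]
  have hs' := key (algebraMap A B s) hsB fun i => hden' (bv i)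
  have hsr := key (algebraMap A B s * r) (mul_ne_zero hsB hr) fun i => by
    obtain ⟨c, hc⟩ := hden' (r * bv i)
    exact ⟨c, by rw [hc, mul_assoc]⟩
  have hlen : Module.length A (B ⧸ Ideal.span {algebraMap A B s * r}) =
      Module.length A (B ⧸ Ideal.span {algebraMap A B s}) + Module.length A (B ⧸ Ideal.span {r}) := by
    have hcl : ∀ x : B, Gap.cl A (C := B) (LinearMap.mulLeft B x) = Module.length A (B ⧸ Ideal.span {x}) := fun x => by
      have hr' : LinearMap.range (LinearMap.mulLeft B x) = Ideal.span {x} := by
        ext z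
        simp [Ideal.mem_span_singleton', mul_comm]
      rw [Gap.cl]
      exact ((Submodule.quotEquivOfEq _ _ hr').restrictScalars A).length_eq
    rw [← hcl, ← hcl, ← hcl, LinearMap.mulLeft_mul]
    exact Gap.cl_comp A _ _ (mul_right_injective₀ hsB)
  have hne : ∀ y : B, y ≠ 0 → Algebra.norm K (algebraMap B L y) ≠ 0 := fun y hy h =>
    hy (hBL ((Algebra.norm_eq_zero_iff.1 h).trans (map_zero _).symm))
  rw [hlen, ENat.toNat_add (hlt _ hsB).ne (hlt _ hr).ne, Nat.cast_add, hs', map_mul, map_mul,
    ordFrac_mul (hne _ hsB) (hne _ hr)] at hsr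
  linarith

end TameLib
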