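import Mathlib
import Groth.Agent.TameLib.Len

/-!
# Separating finitely many nonzerodivisors in a finite extension

Inside the total fraction ring of a one-dimensional Noetherian local ring `A`, finitely many
nonzerodivisors become, in a finite extension, products of units and pairwise comaximal elements.
-/

set_option autoImplicit false
set_option linter.style.haveILetI false
set_option linter.unusedSectionVars false

universe u

open IsLocalRing Polynomial
open scoped Pointwise

namespace TameLib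

variable {A : Type u} [CommRing A] [IsLocalRing A] [IsNoetherianRing A] [Ring.KrullDimLE 1 A]

theorem exists_pow_le_span {s : A} (hs : s ∈ nonZeroDivisors A) :
    ∃ N : ℕ, maximalIdeal A ^ N ≤ Ideal.span {s} := by
  refine Ideal.exists_pow_le_of_le_radical_of_fg ?_ (IsNoetherian.noetherian _)
  rw [Ideal.radical_eq_sInf]
  refine le_sInf ?_
  rintro (P : Ideal A) ⟨hP, hPp⟩
  haveI := hPp
  rcases Ring.krullDimLE_one_iff.1 inferInstance P hPp with h | h
  · exact absurd hs (fun hs => Set.disjoint_left.1 (Ideal.disjoint_nonZeroDivisors_of_mem_minimalPrimes h)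
      (hP (Ideal.mem_span_singleton_self s)) hs)
  · exact (IsLocalRing.eq_maximalIdeal h).ge

theorem length_quot_lt_top_base {s : A} (hs : s ∈ nonZeroDivisors A) :
    Module.length A (A ⧸ Ideal.span {s}) < ⊤ :=
  length_quot_span_lt_top A s hs

/-- A binary form with a unit coefficient vanishes at any pair with a nonzerodivisor in it. -/
theorem exists_relation (r s : A) (hs : s ∈ nonZeroDivisors A) :
    ∃ (n : ℕ) (c : ℕ → A), (∃ i ≤ n, IsUnit (c i)) ∧
      ∑ i ∈ Finset.range (n + 1), c i * (r ^ i * s ^ (n - i)) = 0 := by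
  classical
  by_cases hsu : IsUnit s
  · obtain ⟨s, rfl⟩ := hsu
    refine ⟨1, fun i => if i = 0 then -(r * ↑s⁻¹) else 1, ⟨1, le_rfl, by simp⟩, ?_⟩
    simp [Finset.sum_range_succ]
  let e := (Module.length A (A ⧸ Ideal.span {s})).toNat
  let n := e
  let Ψ : (Fin (n + 1) → A) →ₗ[A] A :=
    Fintype.linearCombination A (fun i : Fin (n + 1) => r ^ (i : ℕ) * s ^ (n - i))
  by_cases hrel : ∃ c, Ψ c = 0 ∧ ∃ i, IsUnit (c i)
  · obtain ⟨c, hc, i, hi⟩ := hrel
    refine ⟨n, fun k => if h : k < n + 1 then c ⟨k, h⟩ else 0, ⟨i, Nat.lt_succ_iff.1 i.2, by simp only [dif_pos i.2]; exact hi⟩, ?_⟩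
    rw [← hc, Finset.sum_range, Fintype.linearCombination_apply]
    exact Finset.sum_congr rfl fun i _ => by simp [i.2]
  exfalso
  have hker : ∀ c, Ψ c = 0 → ∀ i, c i ∈ maximalIdeal A := fun c hc i hi => hrel ⟨c, hc, i, hi⟩
  let J := LinearMap.range Ψ
  have hsn : s ^ n ∈ J := ⟨Pi.single 0 1, by simp [Ψ, Fintype.linearCombination_apply_single]⟩
  -- `J / sJ` has the length of `A / sA`
  let tJ : Submodule A A := Submodule.map (LinearMap.mulLeft A s) J
  have hJ1 : tJ ≤ J := by
    rintro _ ⟨x, hx, rfl⟩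
    exact J.smul_mem s hx
  have hfin : Module.length A (A ⧸ J) < ⊤ := lt_of_le_of_lt
    (Module.length_le_of_surjective (Submodule.factor (show (Ideal.span {s ^ n} : Ideal A) ≤ J from
      (Ideal.span_singleton_le_iff_mem _).2 hsn)) (Submodule.factor_surjective _))
    (length_quot_lt_top_base (pow_mem hs n))
  have key : ∀ (P Q : Submodule A A) (h : P ≤ Q), Module.length A (A ⧸ P) =
      Module.length A (Q ⧸ P.submoduleOf Q) + Module.length A (A ⧸ Q) := fun P Q h =>
    Module.length_eq_add_of_exact ((P.submoduleOf Q).mapQ P Q.subtype le_rfl) (Submodule.factor h)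
      (by
        rw [← LinearMap.ker_eq_bot, Submodule.ker_mapQ]
        exact Submodule.mkQ_map_self _)
      (Submodule.factor_surjective _) (by
        intro x
        obtain ⟨x, rfl⟩ := Submodule.Quotient.mk_surjective _ x
        rw [show Submodule.factor h (Submodule.Quotient.mk x) = Submodule.Quotient.mk x from rfl,
          Submodule.Quotient.mk_eq_zero]
        constructor
        · intro hx
          exact ⟨Submodule.Quotient.mk ⟨x, hx⟩, rfl⟩
        · rintro ⟨y, hy⟩
          obtain ⟨⟨y, hyQ⟩, rfl⟩ := Submodule.Quotient.mk_surjective _ y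
          have := (Submodule.Quotient.eq P).1 hy
          simpa using Q.sub_mem hyQ (h this))
  have htA : tJ ≤ (Ideal.span {s} : Ideal A) := by
    rintro _ ⟨x, -, rfl⟩
    exact Ideal.mem_span_singleton'.2 ⟨x, mul_comm x s⟩
  let μs := LinearMap.mulLeft A s
  have hmid : Module.length A ((Ideal.span {s} : Ideal A) ⧸ tJ.submoduleOf (Ideal.span {s} : Ideal A)) =
      Module.length A (A ⧸ J) := by
    let φ : A →ₗ[A] ((Ideal.span {s} : Ideal A) ⧸ tJ.submoduleOf (Ideal.span {s} : Ideal A)) :=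
      (Submodule.mkQ _).comp (μs.codRestrict (Ideal.span {s} : Ideal A) fun x =>
        Ideal.mem_span_singleton'.2 ⟨x, mul_comm x s⟩)
    have hφ : Function.Surjective φ := by
      intro z
      obtain ⟨⟨z, hz⟩, rfl⟩ := Submodule.Quotient.mk_surjective _ z
      obtain ⟨x, rfl⟩ := Ideal.mem_span_singleton'.1 hz
      exact ⟨x, congrArg Submodule.Quotient.mk (Subtype.ext (mul_comm s x))⟩
    have hkφ : LinearMap.ker φ = J := by
      ext x
      show Submodule.Quotient.mk _ = 0 ↔ _
      rw [Submodule.Quotient.mk_eq_zero]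
      exact ⟨fun ⟨y, hy, hyx⟩ => (mul_cancel_left_mem_nonZeroDivisors hs).1 hyx ▸ hy, fun hx => ⟨x, hx, rfl⟩⟩
    rw [← (φ.quotKerEquivOfSurjective hφ).length_eq, (Submodule.quotEquivOfEq _ _ hkφ).length_eq]
  have h1 := key tJ J hJ1
  rw [key tJ _ htA, hmid, add_comm (Module.length A (A ⧸ J))] at h1
  have h2 : Module.length A (A ⧸ Ideal.span {s}) = Module.length A (J ⧸ tJ.submoduleOf J) :=
    ENat.add_left_injective_of_ne_top hfin.ne h1
  -- `J / sJ` maps onto `κ ^ (n + 1)`
  let red : (Fin (n + 1) → A) →ₗ[A] (Fin (n + 1) → ResidueField A) :=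
    LinearMap.pi fun i => (Algebra.linearMap A (ResidueField A)).comp (LinearMap.proj i)
  let g : J →ₗ[A] (Fin (n + 1) → ResidueField A) :=
    ((LinearMap.ker Ψ).liftQ red (fun c hc => funext fun i =>
      (IsLocalRing.residue_eq_zero_iff _).2 (hker c hc i))).comp Ψ.quotKerEquivRange.symm.toLinearMap
  have hg : ∀ c, g ⟨Ψ c, c, rfl⟩ = red c := fun c => by
    have h : Ψ.quotKerEquivRange (Submodule.Quotient.mk c) = ⟨Ψ c, c, rfl⟩ := rfl
    simp only [g, LinearMap.comp_apply, LinearEquiv.coe_coe, ← h, LinearEquiv.symm_apply_apply]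
    rfl
  have hsm : s ∈ maximalIdeal A := hsu
  have hle : tJ.submoduleOf J ≤ LinearMap.ker g := by
    rintro ⟨x, _⟩ ⟨_, ⟨c, rfl⟩, hx⟩
    simp only [LinearMap.mulLeft_apply, Submodule.coe_subtype] at hx
    have : (⟨x, ‹_›⟩ : J) = s • ⟨Ψ c, c, rfl⟩ := Subtype.ext hx.symm
    rw [LinearMap.mem_ker, this, map_smul, hg]
    refine funext fun i => ?_
    rw [Pi.smul_apply, Algebra.smul_def,
      show algebraMap A (ResidueField A) s = 0 from (IsLocalRing.residue_eq_zero_iff _).2 hsm, zero_mul]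
    rfl
  have hsurj : Function.Surjective ((tJ.submoduleOf J).liftQ g hle) := by
    intro v
    choose c hc using fun i => IsLocalRing.residue_surjective (v i)
    exact ⟨Submodule.Quotient.mk ⟨Ψ c, c, rfl⟩, (hg c).trans (funext hc)⟩
  have h3 := Module.length_le_of_surjective _ hsurj
  rw [← h2, Module.length_eq_of_surjective (R := ResidueField A) (S := A) IsLocalRing.residue_surjective,
    Module.length_eq_finrank, Module.finrank_fin_fun, ← ENat.natCast_toNat (length_quot_lt_top_base hs).ne,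
    Nat.cast_le] at h3
  exact absurd h3 (Nat.not_succ_le_self _)

/-- `A ⊆ T` : the total fraction ring. -/
abbrev Tot (A : Type u) [CommRing A] := FractionRing A

theorem isUnit_map (a : A) (ha : a ∈ nonZeroDivisors A) : IsUnit (algebraMap A (Tot A) a) :=
  IsLocalization.map_units (Tot A) (⟨a, ha⟩ : nonZeroDivisors A)

theorem mem_nonZeroDivisors_of_isUnit {B : Subalgebra A (Tot A)} (x : B) (h : IsUnit (x : Tot A)) :
    x ∈ nonZeroDivisors B := by
  rw [mem_nonZeroDivisors_iff_right]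
  intro y hy
  exact Subtype.ext (h.mul_left_eq_zero.1 (congrArg Subtype.val hy))

theorem exists_denominator (B : Subalgebra A (Tot A)) [Module.Finite A B] :
    ∃ s ∈ nonZeroDivisors A, ∀ x ∈ B, ∃ a, algebraMap A (Tot A) a = s • x := by
  classical
  obtain ⟨S, hS⟩ := Module.Finite.fg_top (R := A) (M := B)
  obtain ⟨⟨s, hs⟩, hb⟩ := IsLocalization.exist_integer_multiples_of_finset (nonZeroDivisors A)
    (S.image (fun x : B => (x : Tot A)))
  refine ⟨s, hs, fun x hx => ?_⟩
  have hmem : (⟨x, hx⟩ : B) ∈ Submodule.span A (S : Set B) := hS ▸ Submodule.mem_top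
  suffices ∀ y ∈ Submodule.span A (S : Set B), ∃ a, algebraMap A (Tot A) a = s • (y : Tot A) from this _ hmem
  intro y hy
  induction hy using Submodule.span_induction with
  | mem y hy => exact hb (y : Tot A) (Finset.mem_image_of_mem _ hy)
  | zero => exact ⟨0, by simp⟩
  | add y z _ _ ihy ihz =>
    obtain ⟨a, ha⟩ := ihy; obtain ⟨b, hb⟩ := ihz
    exact ⟨a + b, by rw [map_add, ha, hb, Subalgebra.coe_add, smul_add]⟩
  | smul c y _ ihy =>
    obtain ⟨a, ha⟩ := ihy
    exact ⟨c * a, by rw [map_mul, ha, Subalgebra.coe_smul, smul_comm, Algebra.smul_def c (s • (y : Tot A))]⟩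

theorem algebraMap_injective (B : Subalgebra A (Tot A)) : Function.Injective (algebraMap A B) :=
  fun _ _ h => IsLocalization.injective (Tot A) le_rfl (congrArg Subtype.val h)

theorem killed_of_finite (B : Subalgebra A (Tot A)) [Module.Finite A B] :
    ∃ N : ℕ, ∀ r ∈ maximalIdeal A ^ N, ∀ b : B, r • b ∈ (algebraMap A B).range := by
  obtain ⟨s, hs, hden⟩ := exists_denominator B
  obtain ⟨N, hN⟩ := exists_pow_le_span hs
  refine ⟨N, fun r hr b => ?_⟩
  obtain ⟨c, rfl⟩ := Ideal.mem_span_singleton'.1 (hN hr)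
  obtain ⟨a, ha⟩ := hden b b.2
  exact ⟨c * a, Subtype.ext (by
    show algebraMap A (Tot A) (c * a) = (c * s) • (b : Tot A)
    rw [map_mul, ha, mul_smul, Algebra.smul_def c (s • (b : Tot A))])⟩

theorem isIntegral_of_stable {n : ℕ} {z w : Tot A} (hw : ∀ m ≤ n, w * z ^ m ∈ Submodule.span A ((fun i => z ^ i) '' Set.Iic n)) :
    IsIntegral A w := by
  classical
  let M := Submodule.span A ((fun i => z ^ i) '' Set.Iic n)
  have hM : ∀ x ∈ M, w * x ∈ M := fun x hx => by
    induction hx using Submodule.span_induction with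
    | mem x hx => obtain ⟨m, hm, rfl⟩ := hx; exact hw m hm
    | zero => simp
    | add x y _ _ hx hy => rw [mul_add]; exact M.add_mem hx hy
    | smul a x _ hx => rw [mul_smul_comm]; exact M.smul_mem a hx
  haveI : Module.Finite A M := Module.Finite.iff_fg.2 (Submodule.fg_span ((Set.finite_Iic n).image _))
  let f : Module.End A M := (LinearMap.mulLeft A w).restrict hM
  obtain ⟨p, hp, hpz⟩ := LinearMap.exists_monic_and_aeval_eq_zero A f
  refine ⟨p, hp, ?_⟩
  have key : ∀ (q : A[X]) (x : M), ((aeval f q) x : Tot A) = aeval w q * x := by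
    intro q
    induction q using Polynomial.induction_on with
    | C a => intro x; simp [Algebra.smul_def]
    | add q q' hq hq' => intro x; simp [hq x, hq' x, add_mul]
    | monomial k a ih =>
      intro x
      rw [pow_succ, ← mul_assoc, map_mul (aeval f), map_mul (aeval w), aeval_X, aeval_X, Module.End.mul_apply, ih]
      show _ * (w * (x : Tot A)) = _
      ring
  have h1 : (1 : Tot A) ∈ M := Submodule.subset_span ⟨0, Nat.zero_le n, pow_zero z⟩
  have := key p ⟨1, h1⟩
  rw [hpz] at this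
  rw [← aeval_def]
  simpa using this.symm

/-- Seidenberg's elements. -/
theorem exists_seidenberg (z : Tot A) :
    ∃ (n : ℕ) (σ : ℕ → Tot A), (∀ j, IsIntegral A (σ j) ∧ IsIntegral A (σ j * z)) ∧
      ∀ B : Subalgebra A (Tot A), (∀ j ≤ n + 1, σ j ∈ B ∧ σ j * z ∈ B) →
        ∀ q : Ideal B, q ≠ ⊤ → ∃ j, j ≤ n + 1 ∧
          ∀ (h₁ : σ j ∈ B) (h₂ : σ j * z ∈ B), ¬ ((⟨_, h₁⟩ : B) ∈ q ∧ (⟨_, h₂⟩ : B) ∈ q) := by
  classical
  obtain ⟨⟨r, s, hs⟩, hz⟩ := IsLocalization.surj (nonZeroDivisors A) z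
  obtain ⟨n, c, ⟨i₀, hi₀, hu⟩, hrel⟩ := exists_relation r s hs
  have hz0 : ∑ i ∈ Finset.range (n + 1), algebraMap A (Tot A) (c i) * z ^ i = 0 := by
    have h := congrArg (algebraMap A (Tot A)) hrel
    rw [map_sum, map_zero] at h
    have hsu : IsUnit (algebraMap A (Tot A) s ^ n) := (isUnit_map s hs).pow n
    refine hsu.mul_left_eq_zero.1 (Eq.trans ?_ h)
    rw [Finset.sum_mul]
    refine Finset.sum_congr rfl fun i hi => ?_
    rw [map_mul, map_mul, map_pow, map_pow, ← hz, mul_pow, mul_assoc, mul_assoc,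
      ← pow_add, Nat.add_sub_cancel' (Nat.lt_succ_iff.1 (Finset.mem_range.1 hi))]
  let σ : ℕ → Tot A := fun j => ∑ i ∈ Finset.Ico j (n + 1), algebraMap A (Tot A) (c i) * z ^ (i - j)
  have hσ : ∀ j, j ≤ n + 1 → σ j * z ^ j = -∑ i ∈ Finset.range j, algebraMap A (Tot A) (c i) * z ^ i := by
    intro j hj
    rw [eq_neg_iff_add_eq_zero, Finset.sum_mul, ← hz0, ← Finset.sum_range_add_sum_Ico _ hj, add_comm]
    congr 1
    refine Finset.sum_congr rfl fun i hi => ?_
    rw [mul_assoc, ← pow_add, Nat.sub_add_cancel (Finset.mem_Ico.1 hi).1]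
  have hσ0 : ∀ j, n + 1 ≤ j → σ j = 0 := fun j hj => by
    show Finset.sum _ _ = 0
    rw [Finset.Ico_eq_empty_of_le hj, Finset.sum_empty]
  have hmem : ∀ i ≤ n, ∀ a : A, algebraMap A (Tot A) a * z ^ i ∈ Submodule.span A ((fun i => z ^ i) '' Set.Iic n) :=
    fun i hi a => by
      rw [← Algebra.smul_def]
      exact Submodule.smul_mem _ _ (Submodule.subset_span ⟨i, hi, rfl⟩)
  have hint : ∀ j d, d ≤ 1 → IsIntegral A (σ j * z ^ d) := by
    intro j d hd
    rcases le_or_gt (n + 1) j with hj | hj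
    · rw [hσ0 j hj, zero_mul]; exact isIntegral_zero
    refine isIntegral_of_stable (n := n) (z := z) fun m hm => ?_
    rw [mul_assoc, ← pow_add]
    rcases le_or_gt (d + m) j with hdm | hdm
    · rw [Finset.sum_mul]
      refine Submodule.sum_mem _ fun i hi => ?_
      rw [mul_assoc, ← pow_add]
      exact hmem _ (by have := Finset.mem_Ico.1 hi; omega) _
    · rw [show d + m = j + (d + m - j) by omega, pow_add, ← mul_assoc, hσ j hj.le, neg_mul, Finset.sum_mul]
      refine Submodule.neg_mem _ (Submodule.sum_mem _ fun i hi => ?_)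
      rw [mul_assoc, ← pow_add]
      exact hmem _ (by have := Finset.mem_range.1 hi; omega) _
  refine ⟨n, σ, fun j => ⟨by simpa using hint j 0 (by omega), by simpa using hint j 1 le_rfl⟩, fun B hB q hq => ?_⟩
  by_contra hne
  push Not at hne
  have hq' : ∀ (j : ℕ) (hj : j ≤ n + 1), (⟨σ j, (hB j hj).1⟩ : B) ∈ q ∧ (⟨σ j * z, (hB j hj).2⟩ : B) ∈ q := by
    intro j hj
    obtain ⟨h1, h2, h3⟩ := hne j hj
    exact h3
  have hc : σ i₀ = algebraMap A (Tot A) (c i₀) + σ (i₀ + 1) * z := by
    show Finset.sum _ _ = _ + Finset.sum _ _ * z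
    rw [Finset.sum_eq_sum_Ico_succ_bot (by omega : i₀ < n + 1), Nat.sub_self, pow_zero, mul_one, Finset.sum_mul]
    congr 1
    refine Finset.sum_congr rfl fun i hi => ?_
    rw [mul_assoc, ← pow_succ]
    congr 2
    have := (Finset.mem_Ico.1 hi).1
    omega
  have h1 := (hq' i₀ (by omega)).1
  have h2 := (hq' (i₀ + 1) (by omega)).2
  have h3 : algebraMap A B (c i₀) ∈ q := by
    have := q.sub_mem h1 h2
    convert this using 1
    exact Subtype.ext (by rw [Subalgebra.coe_sub]; simp [hc])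
  exact hq (q.eq_top_of_isUnit_mem h3 (hu.map _))

/-- A finite subalgebra containing `B` in which `x` and `y` have a common factor with coprime quotients. -/
theorem exists_common_factor (B : Subalgebra A (Tot A)) [Module.Finite A B] {x y : Tot A}
    (hx : x ∈ B) (hy : y ∈ B) (hxu : IsUnit x) :
    ∃ C : Subalgebra A (Tot A), B ≤ C ∧ Module.Finite A C ∧ ∃ t a b : C, IsUnit (t : Tot A) ∧
      x = (t * a : C) ∧ y = (t * b : C) ∧ Ideal.span {a, b} = ⊤ := by
  classical
  obtain ⟨x, rfl⟩ := hxu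
  set z : Tot A := y * ↑x⁻¹ with hzdef
  have hyz : y = (x : Tot A) * z := by rw [hzdef, mul_left_comm, Units.mul_inv, mul_one]
  obtain ⟨n, σ, hσ, hsep⟩ := exists_seidenberg z
  obtain ⟨S, hS⟩ := Module.Finite.fg_top (R := A) (M := B)
  let G : Set (Tot A) := ((fun b : B => (b : Tot A)) '' S) ∪ (σ '' Set.Iic (n + 1)) ∪
    ((fun j => σ j * z) '' Set.Iic (n + 1))
  have hGint : ∀ g ∈ G, IsIntegral A g := by
    rintro g ((⟨b, -, rfl⟩ | ⟨j, -, rfl⟩) | ⟨j, -, rfl⟩)
    · exact (Algebra.IsIntegral.isIntegral (R := A) b).map B.val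
    · exact (hσ j).1
    · exact (hσ j).2
  have hGfin : G.Finite :=
    ((S.finite_toSet.image _).union ((Set.finite_Iic _).image _)).union ((Set.finite_Iic _).image _)
  let C := Algebra.adjoin A G
  haveI hCfin : Module.Finite A C := Module.Finite.iff_fg.2 (fg_adjoin_of_finite hGfin hGint)
  have hBC : B ≤ C := by
    intro b hb
    have hmem : (⟨b, hb⟩ : B) ∈ Submodule.span A (S : Set B) := hS ▸ Submodule.mem_top
    suffices ∀ w ∈ Submodule.span A (S : Set B), (w : Tot A) ∈ C from this _ hmem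
    intro w hw
    induction hw using Submodule.span_induction with
    | mem w hw => exact Algebra.subset_adjoin (Or.inl (Or.inl ⟨w, hw, rfl⟩))
    | zero => exact C.zero_mem
    | add w w' _ _ h h' => exact C.add_mem h h'
    | smul a w _ h => exact C.smul_mem h a
  have hσC : ∀ j ≤ n + 1, σ j ∈ C ∧ σ j * z ∈ C := fun j hj =>
    ⟨Algebra.subset_adjoin (Or.inl (Or.inr ⟨j, hj, rfl⟩)), Algebra.subset_adjoin (Or.inr ⟨j, hj, rfl⟩)⟩
  haveI := finite_maximalSpectrum A (B := C)
  let X : C := ⟨x, hBC hx⟩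
  let Y : C := ⟨y, hBC hy⟩
  let W : ∀ j, j ≤ n + 1 → C := fun j hj => ⟨σ j, (hσC j hj).1⟩
  let W' : ∀ j, j ≤ n + 1 → C := fun j hj => ⟨σ j * z, (hσC j hj).2⟩
  have hWW : ∀ j hj, W j hj * Y = W' j hj * X := fun j hj => Subtype.ext (by
    show σ j * y = σ j * z * x
    rw [hyz]; ring)
  let inP : MaximalSpectrum C → Prop := fun q => ∀ j hj, W j hj ∈ q.asIdeal
  have hcop : Pairwise (Function.onFun IsCoprime fun q : MaximalSpectrum C => q.asIdeal) := fun i j hij => by
    show IsCoprime i.asIdeal j.asIdeal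
    rw [Ideal.isCoprime_iff_sup_eq]
    exact i.isMaximal.coprime_of_ne j.isMaximal fun e => hij (MaximalSpectrum.ext e)
  obtain ⟨lam, hlam⟩ := Ideal.exists_forall_sub_mem_ideal hcop fun q => if inP q then 0 else 1
  let t : C := lam * X + (1 - lam) * Y
  let K : Ideal C := (Ideal.span {t}).colon {X, Y}
  have hK : K = ⊤ := by
    by_contra hne
    obtain ⟨q, hq, hKq⟩ := Ideal.exists_le_maximal K hne
    have hl := hlam ⟨q, hq⟩
    have mk : ∀ r, r * X ∈ Ideal.span {t} → r * Y ∈ Ideal.span {t} → r ∈ q := fun r h1 h2 =>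
      hKq (Submodule.mem_colon.2 (by
        rintro p (rfl | rfl)
        · exact h1
        · exact h2))
    by_cases hP : inP ⟨q, hq⟩
    · obtain ⟨j, hjn, hj'⟩ := hsep C hσC q hq.ne_top
      have hj : j ≤ n + 1 := hjn
      have hW' : W' j hj ∉ q := fun h => (hj' (hσC j hj).1 (hσC j hj).2) ⟨hP j hj, h⟩
      simp only [if_pos hP, sub_zero] at hl
      let u : C := lam * W j hj + (1 - lam) * W' j hj
      have hu : u ∉ q := fun h => hW' (by
        have e : W' j hj = u - lam * (W j hj - W' j hj) := by ring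
        rw [e]; exact q.sub_mem h (q.mul_mem_right _ hl))
      refine (hq.isPrime.mul_notMem hW' hu) (mk _ ?_ ?_)
      · exact Ideal.mem_span_singleton'.2 ⟨W' j hj * W j hj, by simp only [u, t]; linear_combination ((1 - lam) * W' j hj) * (hWW j hj)⟩
      · exact Ideal.mem_span_singleton'.2 ⟨W' j hj * W' j hj, by simp only [u, t]; linear_combination (-lam * W' j hj) * (hWW j hj)⟩
    · simp only [if_neg hP] at hl
      obtain ⟨j, hj, hW⟩ : ∃ j hj, W j hj ∉ q := by simpa [inP] using hP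
      let u : C := lam * W j hj + (1 - lam) * W' j hj
      have hu : u ∉ q := fun h => hW (by
        have e : W j hj = u - (lam - 1) * (W j hj - W' j hj) := by ring
        rw [e]; exact q.sub_mem h (q.mul_mem_right _ hl))
      refine (hq.isPrime.mul_notMem hW hu) (mk _ ?_ ?_)
      · exact Ideal.mem_span_singleton'.2 ⟨W j hj * W j hj, by simp only [u, t]; linear_combination ((1 - lam) * W j hj) * (hWW j hj)⟩
      · exact Ideal.mem_span_singleton'.2 ⟨W j hj * W' j hj, by simp only [u, t]; linear_combination (-lam * W j hj) * (hWW j hj)⟩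
  have h1 : (1 : C) ∈ K := hK ▸ trivial
  rw [Submodule.mem_colon] at h1
  obtain ⟨a, ha⟩ := Ideal.mem_span_singleton'.1 (h1 X (Or.inl rfl))
  obtain ⟨b, hb⟩ := Ideal.mem_span_singleton'.1 (h1 Y (Or.inr rfl))
  rw [smul_eq_mul, one_mul] at ha hb
  have htu : IsUnit (t : Tot A) := by
    have h := congrArg (fun c : C => (c : Tot A)) ha
    simp only [Subalgebra.coe_mul] at h
    exact isUnit_of_mul_isUnit_right (show IsUnit ((a : Tot A) * (t : Tot A)) by rw [h]; exact x.isUnit)
  refine ⟨C, hBC, hCfin, t, a, b, htu, by rw [mul_comm, ha], by rw [mul_comm, hb], ?_⟩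
  rw [Ideal.eq_top_iff_one, Ideal.mem_span_pair]
  refine ⟨lam, 1 - lam, (mul_cancel_left_mem_nonZeroDivisors (mem_nonZeroDivisors_of_isUnit t htu)).1 ?_⟩
  show t * _ = t * 1
  have : t = lam * X + (1 - lam) * Y := rfl
  linear_combination lam * ha + (1 - lam) * hb - this

theorem exists_over {B C : Subalgebra A (Tot A)} [Module.Finite A C] (h : B ≤ C) (q : Ideal B) [q.IsMaximal] :
    ∃ q' : Ideal C, q'.IsMaximal ∧ q'.comap (Subalgebra.inclusion h).toRingHom = q := by
  letI := (Subalgebra.inclusion h).toRingHom.toAlgebra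
  haveI : IsScalarTower A B C := IsScalarTower.of_algebraMap_eq fun _ => rfl
  haveI : Algebra.IsIntegral A C := Algebra.IsIntegral.of_finite A C
  haveI : Algebra.IsIntegral B C := ⟨fun c => (Algebra.IsIntegral.isIntegral (R := A) c).tower_top⟩
  exact Ideal.exists_ideal_over_maximal_of_isIntegral q
    (((RingHom.injective_iff_ker_eq_bot (algebraMap B C)).1 (Subalgebra.inclusion_injective h)).le.trans bot_le)

theorem length_quot_mul {B : Type u} [CommRing B] [Algebra A B] (x y : B) (hy : y ∈ nonZeroDivisors B) :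
    Module.length A (B ⧸ Ideal.span {x * y}) =
      Module.length A (B ⧸ Ideal.span {x}) + Module.length A (B ⧸ Ideal.span {y}) := by
  have h := Module.length_eq_add_of_exact ((Ideal.mulQuot y (Ideal.span {x})).restrictScalars A)
    ((Ideal.quotOfMul y (Ideal.span {x})).restrictScalars A) (Ideal.mulQuot_injective (Ideal.span {x}) hy)
    (Ideal.quotOfMul_surjective (Ideal.span {x})) (Ideal.exact_mulQuot_quotOfMul (Ideal.span {x}))
  have e : (y • Ideal.span {x} : Ideal B) = Ideal.span {x * y} := by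
    rw [← Ideal.submodule_span_eq, Submodule.smul_span, ← Ideal.submodule_span_eq]
    simp [mul_comm]
  rw [← h]
  exact LinearEquiv.length_eq ((Submodule.quotEquivOfEq _ _ e.symm).restrictScalars A)

/-- The length of `C ⧸ f C`, for `f` a unit of the total fraction ring lying in `C`. -/
noncomputable def mu (C : Subalgebra A (Tot A)) (f : Tot A) : ℕ :=
  open Classical in if h : f ∈ C then (Module.length A (C ⧸ Ideal.span {(⟨f, h⟩ : C)})).toNat else 0

theorem mu_mono {B C : Subalgebra A (Tot A)} [Module.Finite A B] [Module.Finite A C] (h : B ≤ C) {f : Tot A}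
    (hf : f ∈ B) (hu : IsUnit f) : mu C f = mu B f := by
  obtain ⟨s, hs, hden⟩ := exists_denominator C
  rw [mu, mu, dif_pos hf, dif_pos (h hf)]
  refine (congrArg ENat.toNat ?_).symm
  refine length_quot_span_invariant A (Subalgebra.inclusion h) (Subalgebra.inclusion_injective h) ?_ ⟨f, hf⟩
    (mem_nonZeroDivisors_of_isUnit _ hu) (mem_nonZeroDivisors_of_isUnit _ hu)
  refine lt_of_le_of_lt ?_ (length_quot_span_lt_top A (algebraMap A C s)
    (mem_nonZeroDivisors_of_isUnit _ (isUnit_map s hs)))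
  refine le_of_le_of_eq (Module.length_le_of_surjective (Submodule.factor
    (show (Ideal.span {algebraMap A C s}).restrictScalars A ≤ LinearMap.range (Subalgebra.inclusion h).toLinearMap from ?_))
    (Submodule.factor_surjective _)) (Submodule.Quotient.restrictScalarsEquiv A _).length_eq
  intro c hc
  obtain ⟨d, rfl⟩ := Ideal.mem_span_singleton'.1 hc
  obtain ⟨a, ha⟩ := hden d d.2
  refine ⟨algebraMap A B a, Subtype.ext ?_⟩
  show algebraMap A (Tot A) a = (d : Tot A) * algebraMap A (Tot A) s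
  rw [ha, Algebra.smul_def, mul_comm]

theorem mu_mul (C : Subalgebra A (Tot A)) [Module.Finite A C] (x y : C) (hx : IsUnit (x : Tot A))
    (hy : IsUnit (y : Tot A)) : mu C (x * y : C) = mu C x + mu C y := by
  rw [mu, mu, mu, dif_pos (x * y).2, dif_pos x.2, dif_pos y.2, Subtype.coe_eta, Subtype.coe_eta, Subtype.coe_eta,
    length_quot_mul x y (mem_nonZeroDivisors_of_isUnit _ hy),
    ENat.toNat_add (length_quot_span_lt_top A x (mem_nonZeroDivisors_of_isUnit _ hx)).ne
      (length_quot_span_lt_top A y (mem_nonZeroDivisors_of_isUnit _ hy)).ne]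

theorem mu_pos (C : Subalgebra A (Tot A)) [Module.Finite A C] (x : C) (hx : IsUnit (x : Tot A))
    (hnu : ¬ IsUnit x) : 0 < mu C x := by
  haveI : Nontrivial (C ⧸ Ideal.span {x}) :=
    Ideal.Quotient.nontrivial_iff.2 (by rwa [Ne, Ideal.span_singleton_eq_top])
  rw [mu, dif_pos x.2, Subtype.coe_eta]
  have h1 := (Module.length_pos (R := A) (M := C ⧸ Ideal.span {x})).ne'
  have h2 := (length_quot_span_lt_top A x (mem_nonZeroDivisors_of_isUnit _ hx)).ne
  exact Nat.pos_of_ne_zero fun h => h1 (by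
    rw [← ENat.natCast_toNat h2, h, Nat.cast_zero])

/-- `C` separates `f`: at every maximal ideal there is `π` such that the members of `F` are units times powers of `π`. -/
def Separates (C : Subalgebra A (Tot A)) (F : Multiset (Tot A)) : Prop :=
  ∀ q : MaximalSpectrum C, ∃ π : C, IsUnit (π : Tot A) ∧ ∀ f ∈ F, ∀ h : f ∈ C,
    ∃ (v : (Localization.AtPrime q.asIdeal)ˣ) (e : ℕ),
      algebraMap C (Localization.AtPrime q.asIdeal) ⟨f, h⟩ = v * algebraMap C _ π ^ e

theorem exists_separates_aux : ∀ (N : ℕ) (B : Subalgebra A (Tot A)) [Module.Finite A B] (F : Multiset (Tot A)),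
    (∀ f ∈ F, f ∈ B ∧ IsUnit f) → (F.map (mu B)).sum ≤ N →
    ∃ C : Subalgebra A (Tot A), B ≤ C ∧ Module.Finite A C ∧ Separates C F := by
  classical
  intro N
  induction N using Nat.strong_induction_on with
  | _ N ih =>
  intro B _ F hF hN
  by_cases hbad : ∃ x y G, F = x ::ₘ y ::ₘ G ∧ ∃ q : MaximalSpectrum B, ∀ (hx : x ∈ B) (hy : y ∈ B),
      (⟨x, hx⟩ : B) ∈ q.asIdeal ∧ (⟨y, hy⟩ : B) ∈ q.asIdeal
  · obtain ⟨x, y, G, rfl, q, hq⟩ := hbad
    obtain ⟨hxB, hxu⟩ := hF x (by simp)
    obtain ⟨hyB, hyu⟩ := hF y (by simp)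
    obtain ⟨hxq, hyq⟩ := hq hxB hyB
    obtain ⟨C, hBC, hC, t, a, b, htu, hxt, hyt, hab⟩ := exists_common_factor B hxB hyB hxu
    haveI := hC
    have hau : IsUnit (a : Tot A) := by
      rw [hxt, Subalgebra.coe_mul] at hxu; exact isUnit_of_mul_isUnit_right hxu
    have hbu : IsUnit (b : Tot A) := by
      rw [hyt, Subalgebra.coe_mul] at hyu; exact isUnit_of_mul_isUnit_right hyu
    have htn : ¬ IsUnit t := by
      intro ht
      haveI := q.isMaximal
      obtain ⟨q', hq'm, hq'⟩ := exists_over hBC q.asIdeal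
      have hxq' : (⟨x, hBC hxB⟩ : C) ∈ q' := by rw [← hq'] at hxq; exact hxq
      have hyq' : (⟨y, hBC hyB⟩ : C) ∈ q' := by rw [← hq'] at hyq; exact hyq
      have e1 : (⟨x, hBC hxB⟩ : C) = t * a := Subtype.ext hxt
      have e2 : (⟨y, hBC hyB⟩ : C) = t * b := Subtype.ext hyt
      rw [e1, Ideal.unit_mul_mem_iff_mem _ ht] at hxq'
      rw [e2, Ideal.unit_mul_mem_iff_mem _ ht] at hyq'
      exact hq'm.ne_top (top_le_iff.1 (hab ▸ Ideal.span_le.2 (by
        rintro w (rfl | rfl)
        · exact hxq'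
        · exact hyq')))
    have hmem : ∀ f ∈ (t : Tot A) ::ₘ (a : Tot A) ::ₘ (b : Tot A) ::ₘ G, f ∈ C ∧ IsUnit f := by
      intro f hf
      simp only [Multiset.mem_cons] at hf
      rcases hf with rfl | rfl | rfl | hf
      · exact ⟨t.2, htu⟩
      · exact ⟨a.2, hau⟩
      · exact ⟨b.2, hbu⟩
      · obtain ⟨h1, h2⟩ := hF f (by simp [hf])
        exact ⟨hBC h1, h2⟩
    have hG : (G.map (mu C)).sum = (G.map (mu B)).sum := congrArg Multiset.sum (Multiset.map_congr rfl fun f hf => by
      obtain ⟨h1, h2⟩ := hF f (by simp [hf])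
      exact mu_mono hBC h1 h2)
    have hlt : (((t : Tot A) ::ₘ (a : Tot A) ::ₘ (b : Tot A) ::ₘ G).map (mu C)).sum < N := by
      simp only [Multiset.map_cons, Multiset.sum_cons] at hN ⊢
      rw [← mu_mono hBC hxB hxu, ← mu_mono hBC hyB hyu, hxt, hyt, mu_mul C t a htu hau, mu_mul C t b htu hbu] at hN
      have := mu_pos C t htu htn
      omega
    obtain ⟨C', hCC', hC', hsep⟩ := ih _ hlt C _ hmem le_rfl
    refine ⟨C', hBC.trans hCC', hC', fun q' => ?_⟩
    obtain ⟨π, hπ, hfac⟩ := hsep q'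
    refine ⟨π, hπ, fun f hf hfC => ?_⟩
    simp only [Multiset.mem_cons] at hf
    have hprod : ∀ (w : C) (hw : (w : Tot A) ∈ (t : Tot A) ::ₘ (a : Tot A) ::ₘ (b : Tot A) ::ₘ G)
        (_ : f = (t * w : C)), ∃ (v : (Localization.AtPrime q'.asIdeal)ˣ) (e : ℕ),
        algebraMap C' (Localization.AtPrime q'.asIdeal) ⟨f, hfC⟩ = v * algebraMap C' _ π ^ e := by
      intro w hw hfw
      obtain ⟨v₁, e₁, h₁⟩ := hfac t (by simp) (hCC' t.2)
      obtain ⟨v₂, e₂, h₂⟩ := hfac w hw (hCC' w.2)
      refine ⟨v₁ * v₂, e₁ + e₂, ?_⟩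
      rw [show (⟨f, hfC⟩ : C') = ⟨t, hCC' t.2⟩ * ⟨w, hCC' w.2⟩ from Subtype.ext hfw, map_mul, h₁, h₂,
        Units.val_mul, pow_add]
      ring
    rcases hf with rfl | rfl | hf
    · exact hprod a (by simp) hxt
    · exact hprod b (by simp) hyt
    · exact hfac f (by simp [hf]) hfC
  · refine ⟨B, le_rfl, inferInstance, fun q => ?_⟩
    haveI := q.isMaximal
    by_cases hin : ∃ g ∈ F, ∀ h : g ∈ B, (⟨g, h⟩ : B) ∈ q.asIdeal
    · obtain ⟨g, hgF, hg⟩ := hin
      obtain ⟨hgB, hgu⟩ := hF g hgF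
      refine ⟨⟨g, hgB⟩, hgu, fun f hfF hfB => ?_⟩
      by_cases hfq : (⟨f, hfB⟩ : B) ∈ q.asIdeal
      · have hfg : f = g := by
          by_contra hne
          refine hbad ⟨g, f, (F.erase g).erase f, ?_, q, fun _ _ => ⟨hg hgB, hfq⟩⟩
          rw [Multiset.cons_erase ((Multiset.mem_erase_of_ne hne).2 hfF), Multiset.cons_erase hgF]
        subst hfg
        exact ⟨1, 1, by simp⟩
      · exact ⟨((IsLocalization.AtPrime.isUnit_to_map_iff (Localization.AtPrime q.asIdeal) q.asIdeal ⟨f, hfB⟩).2 hfq).unit, 0,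
          by simp⟩
    · refine ⟨1, isUnit_one, fun f hfF hfB => ?_⟩
      have hfq : (⟨f, hfB⟩ : B) ∉ q.asIdeal := fun h => hin ⟨f, hfF, fun _ => h⟩
      exact ⟨((IsLocalization.AtPrime.isUnit_to_map_iff (Localization.AtPrime q.asIdeal) q.asIdeal ⟨f, hfB⟩).2 hfq).unit, 0,
          by simp⟩

theorem exists_separates (B : Subalgebra A (Tot A)) [Module.Finite A B] (F : Multiset (Tot A))
    (hF : ∀ f ∈ F, f ∈ B ∧ IsUnit f) :
    ∃ C : Subalgebra A (Tot A), B ≤ C ∧ Module.Finite A C ∧ Separates C F :=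
  exists_separates_aux _ B F hF le_rfl

end TameLib
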