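import Mathlib
import Groth.Prelude.Def_Tame
import Groth.Agent.TameLib.Len

/-!
# An intrinsic description of the local factors of the tame symbol

If `x = u π^e` and `y = v π^f` in a local ring, then the local factor only depends on `x` and `y`:
with `E = ord x`, `F = ord y` there is a unit `w` with `x^F = w y^E`, and the factor is `(-1)^{EF} w̄`.
-/

set_option autoImplicit false
set_option linter.style.haveILetI false
set_option linter.unusedSectionVars false

universe u

open IsLocalRing

namespace TameLib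

section local_

variable {S : Type u} [CommRing S] [IsLocalRing S]

/-- The truncated order. -/
noncomputable def E (x : S) : ℕ := (Ring.ord S x).toNat

/-- `v` is the local symbol of `x` and `y`. -/
def IsSym (x y : S) (v : ResidueField S) : Prop :=
  ∃ w : Sˣ, x ^ E y = (w : S) * y ^ E x ∧ v = (-1) ^ (E x * E y) * residue S (w : S)

theorem residue_ne_zero (w : Sˣ) : residue S (w : S) ≠ 0 := (w.isUnit.map (residue S)).ne_zero

theorem IsSym.ne_zero {x y : S} {v : ResidueField S} (h : IsSym x y v) : v ≠ 0 := by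
  obtain ⟨w, -, rfl⟩ := h
  exact mul_ne_zero (pow_ne_zero _ (neg_ne_zero.2 one_ne_zero)) (residue_ne_zero w)

theorem IsSym.unique {x y : S} (hy : y ∈ nonZeroDivisors S) {v v' : ResidueField S} (h : IsSym x y v)
    (h' : IsSym x y v') : v = v' := by
  obtain ⟨w, hw, rfl⟩ := h
  obtain ⟨w', hw', rfl⟩ := h'
  rw [(mul_cancel_right_mem_nonZeroDivisors (pow_mem hy (E x))).1 (hw.symm.trans hw')]

theorem IsSym.mul {x x' y : S} (hx : Ring.ord S x ≠ ⊤) (hx' : Ring.ord S x' ≠ ⊤) (hxn : x' ∈ nonZeroDivisors S)
    {v v' : ResidueField S} (h : IsSym x y v) (h' : IsSym x' y v') : IsSym (x * x') y (v * v') := by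
  obtain ⟨w, hw, rfl⟩ := h
  obtain ⟨w', hw', rfl⟩ := h'
  have hE : E (x * x') = E x + E x' := by
    rw [E, Ring.ord_mul S hxn, ENat.toNat_add hx hx']
    rfl
  refine ⟨w * w', ?_, ?_⟩
  · rw [mul_pow, hw, hw', hE, Units.val_mul]; ring
  · rw [hE, Units.val_mul, map_mul]; ring

theorem IsSym.swap {x y : S} {v : ResidueField S} (h : IsSym x y v) : IsSym y x v⁻¹ := by
  obtain ⟨w, hw, rfl⟩ := h
  refine ⟨w⁻¹, ?_, ?_⟩
  · rw [hw, ← mul_assoc, ← Units.val_mul, inv_mul_cancel, Units.val_one, one_mul]
  · rw [mul_inv, map_units_inv, ← inv_pow, inv_neg, inv_one, mul_comm (E y)]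

theorem E_mul_pow {π : S} (hπ : π ∈ nonZeroDivisors S) (hord : Ring.ord S π ≠ ⊤) (u : Sˣ) (e : ℕ) :
    E ((u : S) * π ^ e) = e * E π := by
  have key : ∀ e : ℕ, Ring.ord S (π ^ e) = ((e * E π : ℕ) : ℕ∞) := by
    intro e
    induction e with
    | zero => rw [pow_zero, Ring.ord_one, zero_mul, Nat.cast_zero]
    | succ e ih =>
      rw [pow_succ, Ring.ord_mul S hπ, ih]
      rw [← show ((E π : ℕ) : ℕ∞) = Ring.ord S π from ENat.natCast_toNat hord, ← Nat.cast_add, add_mul, one_mul]
  rw [E, Ring.ord_mul_of_isUnit_left u.isUnit, key, ENat.toNat_natCast]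

theorem neg_one_pow_sq {F : Type u} [Field F] (a k : ℕ) : ((-1 : F) ^ a) ^ k = (-1) ^ (a * (k * k)) := by
  rcases Nat.even_or_odd k with h | h
  · rw [← pow_mul, (h.mul_left a).neg_one_pow, ((h.mul_left k).mul_left a).neg_one_pow]
  · rcases Nat.even_or_odd a with ha | ha
    · rw [← pow_mul, (ha.mul_right k).neg_one_pow, (ha.mul_right (k * k)).neg_one_pow]
    · rw [← pow_mul, (ha.mul h).neg_one_pow, (ha.mul (h.mul h)).neg_one_pow]

/-- The local symbol from a uniformizer-like factorisation. -/
theorem isSym_of_fac {π : S} (hπ : π ∈ nonZeroDivisors S) (hord : Ring.ord S π ≠ ⊤) (u₁ u₂ : Sˣ) (e₁ e₂ : ℕ) :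
    IsSym ((u₁ : S) * π ^ e₁) ((u₂ : S) * π ^ e₂)
      (((-1 : ResidueField S) ^ (e₁ * e₂) * residue S (u₁ : S) ^ e₂ * (residue S (u₂ : S) ^ e₁)⁻¹) ^ E π) := by
  have h1 := E_mul_pow hπ hord u₁ e₁
  have h2 := E_mul_pow hπ hord u₂ e₂
  refine ⟨u₁ ^ (e₂ * E π) * (u₂ ^ (e₁ * E π))⁻¹, ?_, ?_⟩
  · rw [h1, h2, mul_pow, mul_pow, ← pow_mul, ← pow_mul, Units.val_mul, Units.val_pow_eq_pow_val,
      ← mul_assoc, mul_assoc ((u₁ : S) ^ (e₂ * E π)), ← Units.val_pow_eq_pow_val u₂, mul_assoc,
      Units.inv_mul_cancel_left, show e₂ * (e₁ * E π) = e₁ * (e₂ * E π) by ring]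
  · rw [h1, h2, mul_pow, mul_pow, Units.val_mul, map_mul, Units.val_pow_eq_pow_val, map_units_inv,
      Units.val_pow_eq_pow_val, map_pow, map_pow, neg_one_pow_sq, inv_pow, ← pow_mul, ← pow_mul]
    rw [show e₁ * E π * (e₂ * E π) = e₁ * e₂ * (E π * E π) by ring]
    ring

end local_

theorem norm_map {K L L' : Type u} [Field K] [Field L] [Field L'] [Algebra K L] [Algebra K L'] [Module.Finite K L']
    (σ : L →ₐ[K] L') :
    ∃ n : ℕ, Module.finrank K L * n = Module.finrank K L' ∧
      ∀ c, Algebra.norm K (σ c) = Algebra.norm K c ^ n := by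
  letI := σ.toRingHom.toAlgebra
  haveI : IsScalarTower K L L' := IsScalarTower.of_algebraMap_eq fun x => (σ.commutes x).symm
  haveI : Module.Finite L L' := Module.Finite.of_restrictScalars_finite K L L'
  refine ⟨Module.finrank L L', Module.finrank_mul_finrank K L L', fun c => ?_⟩
  rw [← Algebra.norm_norm (S := L), show σ c = algebraMap L L' c from rfl, Algebra.norm_algebraMap, map_pow]

variable {A : Type u} [CommRing A] [IsLocalRing A] [IsNoetherianRing A]

/-- The product over `C` of the norms of the local symbols of `a₁` and `a₂`. -/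
noncomputable def symProd {C : Type u} [CommRing C] [Algebra A C] [Module.Finite A C]
    (v : (l : MaximalSpectrum C) → ResidueField (Localization.AtPrime l.asIdeal)) : ResidueField A :=
  ∏ᶠ l : MaximalSpectrum C, Algebra.norm (ResidueField A) (v l)

variable [Ring.KrullDimLE 1 A]

theorem length_quot_range_lt_top {B C : Type u} [CommRing B] [Algebra A B] [CommRing C] [Algebra A C]
    [Module.Finite A C] (ι : B →ₐ[A] C) (s : A) (hs : algebraMap A C s ∈ nonZeroDivisors C)
    (hsC : ∀ c : C, s • c ∈ ι.range) : Module.length A (C ⧸ LinearMap.range ι.toLinearMap) < ⊤ := by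
  refine lt_of_le_of_lt ?_ (length_quot_span_lt_top A (algebraMap A C s) hs)
  let f : (C ⧸ (Ideal.span {algebraMap A C s}).restrictScalars A) →ₗ[A] C ⧸ LinearMap.range ι.toLinearMap :=
    Submodule.factor (by
      intro x hx
      obtain ⟨c, rfl⟩ := Ideal.mem_span_singleton'.1 hx
      obtain ⟨b, hb⟩ := hsC c
      exact ⟨b, show ι b = c * algebraMap A C s by rw [mul_comm, ← Algebra.smul_def]; exact hb⟩)
  refine le_of_le_of_eq (Module.length_le_of_surjective f ?_)
    (Submodule.Quotient.restrictScalarsEquiv A (Ideal.span {algebraMap A C s})).length_eq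
  intro z
  obtain ⟨c, rfl⟩ := Submodule.Quotient.mk_surjective _ z
  exact ⟨Submodule.Quotient.mk c, rfl⟩

theorem isSym_mul_left {C : Type u} [CommRing C] [Algebra A C] [Module.Finite A C] (l : MaximalSpectrum C)
    {x x' y : Localization.AtPrime l.asIdeal} (hx : x ∈ nonZeroDivisors _) (hx' : x' ∈ nonZeroDivisors _)
    {v v' : ResidueField (Localization.AtPrime l.asIdeal)} (h : IsSym x y v) (h' : IsSym x' y v') :
    IsSym (x * x') y (v * v') :=
  h.mul (ord_lt_top A l hx).ne (ord_lt_top A l hx').ne hx' h'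

theorem loc_mem_nonZeroDivisors {C : Type u} [CommRing C] (l : MaximalSpectrum C) {x : C}
    (hx : x ∈ nonZeroDivisors C) : algebraMap C (Localization.AtPrime l.asIdeal) x ∈ nonZeroDivisors _ :=
  IsLocalization.map_nonZeroDivisors_le l.asIdeal.primeCompl _ (Submonoid.mem_map_of_mem _ hx)

/-- On a larger finite extension, every local symbol exists, and the value is the product of their norms. -/
theorem value_eq_symProd {a₁ a₂ : A} (D : CycAlg.TameData A a₁ a₂) {C : Type u} [CommRing C] [Algebra A C]
    [Module.Finite A C] (ι : D.B →ₐ[A] C) (hι : Function.Injective ι) (s : A)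
    (hs : algebraMap A C s ∈ nonZeroDivisors C) (hsC : ∀ c : C, s • c ∈ ι.range)
    (h₂ : algebraMap A C a₂ ∈ nonZeroDivisors C) :
    (∀ l : MaximalSpectrum C, ∃ v, IsSym (algebraMap A (Localization.AtPrime l.asIdeal) a₁)
        (algebraMap A (Localization.AtPrime l.asIdeal) a₂) v) ∧
    ∀ v : (l : MaximalSpectrum C) → ResidueField (Localization.AtPrime l.asIdeal),
      (∀ l, IsSym (algebraMap A (Localization.AtPrime l.asIdeal) a₁)
        (algebraMap A (Localization.AtPrime l.asIdeal) a₂) (v l)) → D.value = symProd v := by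
  classical
  haveI : Module.Finite A D.B := D.isFinExt.2.1
  haveI := finite_maximalSpectrum A (B := D.B)
  haveI := finite_maximalSpectrum A (B := C)
  haveI : Fintype (MaximalSpectrum D.B) := Fintype.ofFinite _
  haveI : Fintype (MaximalSpectrum C) := Fintype.ofFinite _
  have hQ := length_quot_range_lt_top ι s hs hsC
  have hnzd : ∀ p ∈ nonZeroDivisors D.B, ι p ∈ nonZeroDivisors C := by
    intro p hp
    rw [mem_nonZeroDivisors_iff_right]
    intro x hx
    obtain ⟨b, hb⟩ := hsC x
    refine mem_nonZeroDivisors_iff_right.1 hs x ?_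
    rw [mul_comm, ← Algebra.smul_def, ← hb]
    have hbp : b * p = 0 := hι (by
      rw [map_mul, show ι b = s • x from hb, smul_mul_assoc, hx, smul_zero, map_zero])
    rw [mem_nonZeroDivisors_iff_right.1 hp b hbp, map_zero]
  -- the maximal ideal below
  have hmax : ∀ l : MaximalSpectrum C, (l.asIdeal.comap ι.toRingHom).IsMaximal := by
    intro l
    haveI := l.isMaximal
    haveI : Algebra.IsIntegral A D.B := Algebra.IsIntegral.of_finite A D.B
    refine Ideal.isMaximal_of_isIntegral_of_isMaximal_comap (R := A) _ ?_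
    rw [Ideal.comap_comap, AlgHom.toRingHom_eq_coe, ι.comp_algebraMap, comap_max A l.asIdeal]
    exact maximalIdeal.isMaximal A
  let j : MaximalSpectrum C → MaximalSpectrum D.B := fun l => ⟨_, hmax l⟩
  let φ : ∀ l, Localization.AtPrime (j l).asIdeal →+* Localization.AtPrime l.asIdeal := fun l =>
    Localization.localRingHom (j l).asIdeal l.asIdeal ι.toRingHom rfl
  have hφA : ∀ l (a : A), φ l (algebraMap A _ a) = algebraMap A _ a := fun l a => by
    rw [IsScalarTower.algebraMap_apply A D.B (Localization.AtPrime (j l).asIdeal)]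
    show Localization.localRingHom _ _ _ _ (algebraMap D.B _ (algebraMap A D.B a)) = _
    rw [Localization.localRingHom_to_map]
    exact (congrArg (algebraMap C (Localization.AtPrime l.asIdeal)) (ι.commutes a)).trans
      (IsScalarTower.algebraMap_apply A C (Localization.AtPrime l.asIdeal) a).symm
  haveI : ∀ l, IsLocalHom (φ l) := fun l =>
    Localization.isLocalHom_localRingHom _ _ _ _
  haveI : ∀ l, IsLocalHom (algebraMap A (Localization.AtPrime (j l).asIdeal)) := fun l => isLocalHom_atPrime A (j l)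
  let σ : ∀ l, ResidueField (Localization.AtPrime (j l).asIdeal) →ₐ[ResidueField A]
      ResidueField (Localization.AtPrime l.asIdeal) := fun l =>
    { ResidueField.map (φ l) with
      commutes' := fun r => by
        obtain ⟨a, rfl⟩ := IsLocalRing.residue_surjective r
        rw [IsLocalRing.ResidueField.algebraMap_residue, IsLocalRing.ResidueField.algebraMap_residue]
        show ResidueField.map (φ l) (residue _ _) = _
        rw [ResidueField.map_residue, hφA] }
  -- representatives
  choose p hpA hpn hpu using fun q : MaximalSpectrum D.B => exists_rep A q (D.π q) (D.π_mem q)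
  let k : MaximalSpectrum C → ℕ := fun l => E (φ l (D.π (j l)))
  let m : MaximalSpectrum D.B → ℕ := fun q => (Ring.ord (Localization.AtPrime q.asIdeal) (D.π q)).toNat
  let c : ∀ q : MaximalSpectrum D.B, ResidueField (Localization.AtPrime q.asIdeal) := fun q =>
    (-1 : ResidueField (Localization.AtPrime q.asIdeal)) ^ (D.e₁ q * D.e₂ q) *
      residue _ (D.u₁ q : Localization.AtPrime q.asIdeal) ^ D.e₂ q *
      (residue _ (D.u₂ q : Localization.AtPrime q.asIdeal) ^ D.e₁ q)⁻¹
  have hassoc : ∀ l, Associated (algebraMap C (Localization.AtPrime l.asIdeal) (ι (p (j l))))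
      (φ l (D.π (j l))) := fun l => by
    have := (hpA (j l)).map (φ l)
    rwa [show φ l (algebraMap D.B _ (p (j l))) = algebraMap C _ (ι (p (j l))) from
      Localization.localRingHom_to_map _ _ _ _ _] at this
  have hπn : ∀ l, φ l (D.π (j l)) ∈ nonZeroDivisors _ := fun l => by
    obtain ⟨w, hw⟩ := hassoc l
    rw [← hw]
    exact mul_mem (loc_mem_nonZeroDivisors l (hnzd _ (hpn _))) w.isUnit.mem_nonZeroDivisors
  have hsym : ∀ l, IsSym (algebraMap A (Localization.AtPrime l.asIdeal) a₁)
      (algebraMap A (Localization.AtPrime l.asIdeal) a₂) ((σ l (c (j l))) ^ k l) := fun l => by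
    have h := isSym_of_fac (hπn l) (ord_lt_top A l (hπn l)).ne (Units.map (φ l).toMonoidHom (D.u₁ (j l)))
      (Units.map (φ l).toMonoidHom (D.u₂ (j l))) (D.e₁ (j l)) (D.e₂ (j l))
    rw [← hφA l a₁, ← hφA l a₂, D.fac₁, D.fac₂, map_mul, map_pow, map_mul, map_pow]
    convert h using 1
    · rfl
    · rfl
    · show ResidueField.map (φ l) (c (j l)) ^ k l = _
      simp only [k, c, map_mul, map_pow, map_inv₀, map_neg, map_one]
      rfl
  refine ⟨fun l => ⟨_, hsym l⟩, fun v hv => ?_⟩
  have hveq : ∀ l, v l = (σ l (c (j l))) ^ k l := fun l => by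
    refine IsSym.unique ?_ (hv l) (hsym l)
    rw [IsScalarTower.algebraMap_apply A C (Localization.AtPrime l.asIdeal)]
    exact loc_mem_nonZeroDivisors l h₂
  choose n hn hnorm using fun l => norm_map (σ l)
  -- the multiplicities
  have hmult : ∀ q, (∑ l ∈ Finset.univ.filter (fun l => j l = q), n l * k l) = m q := by
    intro q
    have h1 := length_quot_span_invariant A ι hι hQ (p q) (hpn q) (hnzd _ (hpn q))
    rw [length_quot_span_eq A (p q) (length_quot_span_lt_top A _ (hpn q)),
      length_quot_span_eq A (ι (p q)) (length_quot_span_lt_top A _ (hnzd _ (hpn q))),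
      Finset.sum_eq_single q (fun q' _ hne => by
        rw [Ring.ord_of_isUnit (hpu q q' hne), mul_zero]) (by simp)] at h1
    have e1 : Ring.ord (Localization.AtPrime q.asIdeal) (algebraMap D.B _ (p q)) = (m q : ℕ∞) := by
      rw [Ring.ord_eq_of_associated (hpA q)]
      exact (ENat.natCast_toNat (ord_lt_top A q (D.π_mem q)).ne).symm
    have e2 : ∀ l, Ring.ord (Localization.AtPrime l.asIdeal) (algebraMap C _ (ι (p q))) =
        ((if j l = q then k l else 0 : ℕ) : ℕ∞) := by
      intro l
      split_ifs with h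
      · subst h
        rw [Ring.ord_eq_of_associated (hassoc l)]
        exact (ENat.natCast_toNat (ord_lt_top A l (hπn l)).ne).symm
      · rw [Nat.cast_zero]
        refine Ring.ord_of_isUnit ?_
        have := (hpu q (j l) h).map (φ l)
        rwa [show φ l (algebraMap D.B _ (p q)) = algebraMap C _ (ι (p q)) from
          Localization.localRingHom_to_map _ _ _ _ _] at this
    simp only [e1, e2, ← Nat.cast_mul, ← Nat.cast_sum, Nat.cast_inj] at h1
    refine Nat.eq_of_mul_eq_mul_left (deg_pos A q) ?_
    rw [h1, Finset.mul_sum, Finset.sum_filter]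
    refine Finset.sum_congr rfl fun l _ => ?_
    split_ifs with h
    · subst h
      rw [← mul_assoc]
      congr 1
      exact hn l
    · simp
  rw [CycAlg.TameData.value, symProd, finprod_eq_prod_of_fintype, finprod_eq_prod_of_fintype,
    ← Finset.prod_fiberwise Finset.univ j (fun l => Algebra.norm (ResidueField A) (v l))]
  refine Finset.prod_congr rfl fun q _ => ?_
  show Algebra.norm (ResidueField A) (c q) ^ m q = _
  rw [← hmult q, ← Finset.prod_pow_eq_pow_sum]
  refine Finset.prod_congr rfl fun l hl => ?_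
  rw [hveq l, map_pow, hnorm l, ← pow_mul]
  obtain rfl := (Finset.mem_filter.1 hl).2
  rfl

end TameLib
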