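import Mathlib
import Groth.Prelude.Def_Tame
import Groth.Agent.TameLib.Sym
import Groth.Agent.TameLib.Exist

/-! # The tame symbol as a product of intrinsic local symbols -/

set_option autoImplicit false
set_option linter.style.haveILetI false
set_option linter.unusedSectionVars false
set_option maxHeartbeats 1000000

universe u

open IsLocalRing

namespace TameLib

variable {A : Type u} [CommRing A] [IsLocalRing A] [IsNoetherianRing A] [Ring.KrullDimLE 1 A]

theorem finite_sup_subalgebra (B C : Subalgebra A (Tot A)) [Module.Finite A B] [Module.Finite A C] :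
    Module.Finite A (B ⊔ C : Subalgebra A (Tot A)) := by
  have h : (Subalgebra.toSubmodule B * Subalgebra.toSubmodule C).FG :=
    (Module.Finite.iff_fg.1 ‹Module.Finite A B›).mul (Module.Finite.iff_fg.1 ‹Module.Finite A C›)
  rw [Subalgebra.mul_toSubmodule] at h
  exact Module.Finite.iff_fg.2 h

theorem algebraMap_mem_nonZeroDivisors (C : Subalgebra A (Tot A)) {a : A} (ha : a ∈ nonZeroDivisors A) :
    algebraMap A C a ∈ nonZeroDivisors C :=
  mem_nonZeroDivisors_of_isUnit _ (isUnit_map a ha)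

theorem loc_algebraMap_mem {C : Type u} [CommRing C] [Algebra A C] (l : MaximalSpectrum C) {a : A}
    (ha : algebraMap A C a ∈ nonZeroDivisors C) :
    algebraMap A (Localization.AtPrime l.asIdeal) a ∈ nonZeroDivisors (Localization.AtPrime l.asIdeal) := by
  rw [IsScalarTower.algebraMap_apply A C (Localization.AtPrime l.asIdeal)]
  exact loc_mem_nonZeroDivisors l ha

theorem over_unit_mem {C : Type u} [CommRing C] [Algebra A C] (f : C →ₐ[A] Tot A) (hf : Function.Injective f)
    (x : C) (hx : IsUnit (f x)) : x ∈ nonZeroDivisors C := by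
  rw [mem_nonZeroDivisors_iff_right]
  intro y hy
  refine hf ?_
  rw [map_zero]
  exact hx.mul_left_eq_zero.1 (by rw [← map_mul, hy, map_zero])

theorem over_algebraMap_mem {C : Type u} [CommRing C] [Algebra A C] (f : C →ₐ[A] Tot A)
    (hf : Function.Injective f) {a : A} (ha : a ∈ nonZeroDivisors A) : algebraMap A C a ∈ nonZeroDivisors C :=
  over_unit_mem f hf _ (by rw [f.commutes]; exact isUnit_map a ha)

theorem over_denominator {C : Type u} [CommRing C] [Algebra A C] [Module.Finite A C] (f : C →ₐ[A] Tot A)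
    (hf : Function.Injective f) :
    ∃ s ∈ nonZeroDivisors A, ∀ c : C, ∃ a, algebraMap A C a = s • c := by
  haveI : Module.Finite A f.range :=
    Module.Finite.of_surjective f.rangeRestrict.toLinearMap f.rangeRestrict_surjective
  obtain ⟨s, hs, hden⟩ := exists_denominator f.range
  refine ⟨s, hs, fun c => ?_⟩
  obtain ⟨a, ha⟩ := hden (f c) ⟨c, rfl⟩
  exact ⟨a, hf (by rw [f.commutes, map_smul, ha])⟩

/-- Replace a finite subalgebra by an abstract algebra with an embedding. -/
theorem exists_carrier (S : Subalgebra A (Tot A)) [hS : Module.Finite A S] :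
    ∃ (C : Type u) (_ : CommRing C) (_ : Algebra A C) (_ : Module.Finite A C) (f : C →ₐ[A] Tot A),
      Function.Injective f ∧ f.range = S :=
  ⟨S, inferInstance, inferInstance, hS, S.val, Subtype.val_injective, S.range_val⟩

theorem exists_lift {B C : Type u} [CommRing B] [Algebra A B] [CommRing C] [Algebra A C] (g : B →ₐ[A] Tot A)
    (f : C →ₐ[A] Tot A) (hf : Function.Injective f) (h : g.range ≤ f.range) :
    ∃ i : B →ₐ[A] C, ∀ b, f (i b) = g b :=
  ⟨(AlgEquiv.ofInjective f hf).symm.toAlgHom.comp ((Subalgebra.inclusion h).comp g.rangeRestrict), fun b => by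
    have := (AlgEquiv.ofInjective f hf).apply_symm_apply ((Subalgebra.inclusion h) (g.rangeRestrict b))
    exact congrArg Subtype.val this⟩

theorem exists_separating (F : Multiset A) (hF : ∀ a ∈ F, a ∈ nonZeroDivisors A) :
    ∃ C : Subalgebra A (Tot A), Module.Finite A C ∧ ∀ q : MaximalSpectrum C,
      ∃ π : C, IsUnit (π : Tot A) ∧ ∀ a ∈ F,
        ∃ (v : (Localization.AtPrime q.asIdeal)ˣ) (e : ℕ), algebraMap A (Localization.AtPrime q.asIdeal) a =
          (v : Localization.AtPrime q.asIdeal) * algebraMap C (Localization.AtPrime q.asIdeal) π ^ e := by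
  obtain ⟨C, -, hC, hsep⟩ := exists_separates (⊥ : Subalgebra A (Tot A)) (F.map (algebraMap A (Tot A))) (by
    intro f hf
    obtain ⟨a, ha, rfl⟩ := Multiset.mem_map.1 hf
    exact ⟨Algebra.mem_bot.2 ⟨a, rfl⟩, isUnit_map a (hF a ha)⟩)
  refine ⟨C, hC, fun q => ?_⟩
  obtain ⟨π, hπ, hfac⟩ := hsep q
  refine ⟨π, hπ, fun a ha => ?_⟩
  obtain ⟨v, e, h⟩ := hfac _ (Multiset.mem_map_of_mem _ ha) (C.algebraMap_mem a)
  refine ⟨v, e, ?_⟩
  rw [IsScalarTower.algebraMap_apply A C (Localization.AtPrime q.asIdeal)]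
  exact h

theorem isFinExt_subalgebra (C : Subalgebra A (Tot A)) [hC : Module.Finite A C] :
    CycAlg.IsFinExt A C (maximalIdeal A) :=
  ⟨algebraMap_injective C, hC, killed_of_finite C⟩

theorem exists_data (a₁ a₂ : A) (h₁ : a₁ ∈ nonZeroDivisors A) (h₂ : a₂ ∈ nonZeroDivisors A) :
    Nonempty (CycAlg.TameData A a₁ a₂) := by
  obtain ⟨C, hC, hsep⟩ := exists_separating {a₁, a₂} (by simp [h₁, h₂])
  choose π hπ hfac using hsep
  choose u₁ e₁ f₁ using fun q => hfac q a₁ (by simp)
  choose u₂ e₂ f₂ using fun q => hfac q a₂ (by simp)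
  exact ⟨{ B := C, isFinExt := isFinExt_subalgebra C, isLocalHom := fun q => isLocalHom_atPrime A q,
           π := fun q => algebraMap C _ (π q),
           π_mem := fun q => loc_mem_nonZeroDivisors q (mem_nonZeroDivisors_of_isUnit _ (hπ q)), u₁ := u₁, u₂ := u₂, e₁ := e₁, e₂ := e₂, fac₁ := f₁, fac₂ := f₂ }⟩

theorem exists_embedding {a₁ a₂ : A} (h₁ : a₁ ∈ nonZeroDivisors A) (h₂ : a₂ ∈ nonZeroDivisors A)
    (hm : a₁ * a₂ ∈ maximalIdeal A) (D : CycAlg.TameData A a₁ a₂) :
    ∃ ι : D.B →ₐ[A] Tot A, Function.Injective ι := by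
  obtain ⟨hinj, hfin, n, hn⟩ := D.isFinExt
  have hreg : algebraMap A D.B (a₁ * a₂) ^ n ∈ nonZeroDivisors D.B := by
    refine pow_mem (mem_nonZeroDivisors_of_local _ fun q => ?_) n
    rw [← IsScalarTower.algebraMap_apply A D.B (Localization.AtPrime q.asIdeal), map_mul, D.fac₁, D.fac₂]
    exact mul_mem (mul_mem (D.u₁ q).isUnit.mem_nonZeroDivisors (pow_mem (D.π_mem q) _))
      (mul_mem (D.u₂ q).isUnit.mem_nonZeroDivisors (pow_mem (D.π_mem q) _))
  rw [← map_pow] at hreg
  set t : A := (a₁ * a₂) ^ n with htdef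
  have ht : t ∈ maximalIdeal A ^ n := Ideal.pow_mem_pow hm n
  have htn : t ∈ nonZeroDivisors A := pow_mem (mul_mem h₁ h₂) n
  choose r hr using fun b => hn t ht b
  have hr' : ∀ b, algebraMap A D.B (r b) = algebraMap A D.B t * b := fun b => (hr b).trans (Algebra.smul_def _ _)
  obtain ⟨w, hw⟩ := isUnit_map t htn
  let i : D.B → Tot A := fun b => algebraMap A (Tot A) (r b) * ↑w⁻¹
  have hi : ∀ b, i b * algebraMap A (Tot A) t = algebraMap A (Tot A) (r b) := fun b => by
    rw [← hw]; exact Units.inv_mul_cancel_right _ w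
  have hcancel : ∀ x y : Tot A, x * algebraMap A (Tot A) t = y * algebraMap A (Tot A) t → x = y := fun x y h => by
    rw [← hw] at h; exact w.mul_left_inj.1 h
  have hr1 : ∀ a : A, r (algebraMap A D.B a) = t * a := fun a => hinj (by rw [hr', map_mul])
  let ι : D.B →ₐ[A] Tot A :=
    { toFun := i
      map_one' := hcancel _ _ (by rw [hi, one_mul, ← map_one (algebraMap A D.B), hr1, mul_one])
      map_mul' := fun x y => by
        have h : r (x * y) * t = r x * r y := hinj (by rw [map_mul, map_mul, hr', hr', hr']; ring)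
        refine hcancel _ _ (hcancel _ _ ?_)
        rw [hi, ← map_mul, h, map_mul, ← hi x, ← hi y]
        ring
      map_zero' := hcancel _ _ (by rw [hi, zero_mul, ← map_zero (algebraMap A D.B), hr1, mul_zero, map_zero])
      map_add' := fun x y => by
        refine hcancel _ _ ?_
        rw [hi, add_mul, hi, hi, ← map_add]
        exact congrArg _ (hinj (by rw [map_add, hr', hr', hr', mul_add]))
      commutes' := fun a => hcancel _ _ (by rw [hi, hr1, map_mul, mul_comm]) }
  refine ⟨ι, fun x y h => ?_⟩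
  have h' : r x = r y := IsLocalization.injective (Tot A) le_rfl (by rw [← hi x, ← hi y]; exact congrArg (· * _) h)
  exact (mul_cancel_left_mem_nonZeroDivisors hreg).1 (by rw [← hr', ← hr', h'])

theorem isSym_of_isUnit {C : Type u} [CommRing C] [Algebra A C] (l : MaximalSpectrum C) {x y : A}
    (hx : IsUnit x) (hy : IsUnit y) :
    IsSym (algebraMap A (Localization.AtPrime l.asIdeal) x) (algebraMap A (Localization.AtPrime l.asIdeal) y) 1 := by
  have h1 : E (algebraMap A (Localization.AtPrime l.asIdeal) x) = 0 := by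
    rw [E, Ring.ord_of_isUnit (hx.map _), ENat.toNat_zero]
  have h2 : E (algebraMap A (Localization.AtPrime l.asIdeal) y) = 0 := by
    rw [E, Ring.ord_of_isUnit (hy.map _), ENat.toNat_zero]
  exact ⟨1, by simp [h1, h2], by simp [h1, h2]⟩

theorem sym_eq_one {C : Type u} [CommRing C] [Algebra A C] (l : MaximalSpectrum C) {x y : A}
    (hx : IsUnit x) (hy : IsUnit y) (hyn : algebraMap A C y ∈ nonZeroDivisors C)
    {v : ResidueField (Localization.AtPrime l.asIdeal)}
    (hv : IsSym (algebraMap A (Localization.AtPrime l.asIdeal) x) (algebraMap A (Localization.AtPrime l.asIdeal) y) v) :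
    v = 1 :=
  IsSym.unique (loc_algebraMap_mem l hyn) hv (isSym_of_isUnit l hx hy)

/-- The key description of the value. -/
theorem value_eventually {a₁ a₂ : A} (h₁ : a₁ ∈ nonZeroDivisors A) (h₂ : a₂ ∈ nonZeroDivisors A)
    (D : CycAlg.TameData A a₁ a₂) :
    ∃ C₀ : Subalgebra A (Tot A), Module.Finite A C₀ ∧ ∀ (C : Type u) [CommRing C] [Algebra A C] [Module.Finite A C]
      (f : C →ₐ[A] Tot A), Function.Injective f → C₀ ≤ f.range →
      (∀ l : MaximalSpectrum C, ∃ v, IsSym (algebraMap A (Localization.AtPrime l.asIdeal) a₁)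
          (algebraMap A (Localization.AtPrime l.asIdeal) a₂) v) ∧
      ∀ v : (l : MaximalSpectrum C) → ResidueField (Localization.AtPrime l.asIdeal),
        (∀ l, IsSym (algebraMap A (Localization.AtPrime l.asIdeal) a₁)
          (algebraMap A (Localization.AtPrime l.asIdeal) a₂) (v l)) → D.value = symProd v := by
  by_cases hm : a₁ * a₂ ∈ maximalIdeal A
  · obtain ⟨ι, hι⟩ := exists_embedding h₁ h₂ hm D
    haveI : Module.Finite A D.B := D.isFinExt.2.1
    haveI hfin : Module.Finite A ι.range :=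
      Module.Finite.of_surjective ι.rangeRestrict.toLinearMap ι.rangeRestrict_surjective
    refine ⟨ι.range, hfin, fun C _ _ _ f hf hle => ?_⟩
    obtain ⟨s, hs, hden⟩ := over_denominator f hf
    obtain ⟨ι', hι'⟩ := exists_lift ι f hf hle
    refine value_eq_symProd D ι' (fun x y h => hι (by rw [← hι', ← hι', h]))
      s (over_algebraMap_mem f hf hs) (fun c => ?_) (over_algebraMap_mem f hf h₂)
    obtain ⟨a, ha⟩ := hden c
    exact ⟨algebraMap A D.B a, (ι'.commutes a).trans ha⟩
  · obtain ⟨hu1, hu2⟩ := IsUnit.mul_iff.1 (not_not.1 hm)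
    refine ⟨⊥, Module.Finite.iff_fg.2 Subalgebra.fg_bot_toSubmodule, fun C _ _ _ f hf _ =>
      ⟨fun l => ⟨1, isSym_of_isUnit l hu1 hu2⟩, fun v hv => ?_⟩⟩
    rw [symProd, CycAlg.TameData.value, finprod_eq_one_of_forall_eq_one, finprod_eq_one_of_forall_eq_one]
    · intro l
      rw [sym_eq_one l hu1 hu2 (over_algebraMap_mem f hf h₂) (hv l), map_one]
    · intro q
      have key : D.e₁ q = 0 ∧ D.e₂ q = 0 ∨ IsUnit (D.π q) := by
        rcases Nat.eq_zero_or_pos (D.e₁ q) with h | h
        · rcases Nat.eq_zero_or_pos (D.e₂ q) with h' | h'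
          · exact Or.inl ⟨h, h'⟩
          · refine Or.inr ((isUnit_pow_iff h'.ne').1 (isUnit_of_mul_isUnit_right (x := (D.u₂ q : Localization.AtPrime q.asIdeal)) ?_))
            rw [← D.fac₂]; exact hu2.map _
        · refine Or.inr ((isUnit_pow_iff h.ne').1 (isUnit_of_mul_isUnit_right (x := (D.u₁ q : Localization.AtPrime q.asIdeal)) ?_))
          rw [← D.fac₁]; exact hu1.map _
      rcases key with ⟨h, h'⟩ | h
      · simp [CycAlg.TameData.localFactor, h, h']
      · simp [CycAlg.TameData.localFactor, Ring.ord_of_isUnit h]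

/-- The tame symbol is, eventually, the product of the norms of the local symbols. -/
theorem tameSymbol_eventually (a₁ a₂ : A) (h₁ : a₁ ∈ nonZeroDivisors A) (h₂ : a₂ ∈ nonZeroDivisors A) :
    ∃ C₀ : Subalgebra A (Tot A), Module.Finite A C₀ ∧ ∀ (C : Type u) [CommRing C] [Algebra A C] [Module.Finite A C]
      (f : C →ₐ[A] Tot A), Function.Injective f → C₀ ≤ f.range →
      ∃ v : (l : MaximalSpectrum C) → ResidueField (Localization.AtPrime l.asIdeal),
        (∀ l, IsSym (algebraMap A (Localization.AtPrime l.asIdeal) a₁)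
          (algebraMap A (Localization.AtPrime l.asIdeal) a₂) (v l)) ∧ CycAlg.tameSymbol A a₁ a₂ = symProd v := by
  have hne := exists_data a₁ a₂ h₁ h₂
  obtain ⟨C₀, hC₀, h⟩ := value_eventually h₁ h₂ (Classical.choice hne)
  refine ⟨C₀, hC₀, fun C _ _ _ f hf hle => ?_⟩
  obtain ⟨hex, hval⟩ := h C f hf hle
  choose v hv using hex
  refine ⟨v, hv, ?_⟩
  rw [CycAlg.tameSymbol, dif_pos hne]
  exact hval v hv

theorem symProd_mul {C : Type u} [CommRing C] [Algebra A C] [Module.Finite A C]
    (v v' : (l : MaximalSpectrum C) → ResidueField (Localization.AtPrime l.asIdeal)) :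
    symProd (A := A) (fun l => v l * v' l) = symProd v * symProd v' := by
  haveI := finite_maximalSpectrum A (B := C)
  rw [symProd, symProd, symProd, ← finprod_mul_distrib (Set.toFinite _) (Set.toFinite _)]
  exact finprod_congr fun l => map_mul _ _ _

theorem symProd_inv {C : Type u} [CommRing C] [Algebra A C] [Module.Finite A C]
    (v : (l : MaximalSpectrum C) → ResidueField (Localization.AtPrime l.asIdeal)) :
    symProd (A := A) (fun l => (v l)⁻¹) = (symProd v)⁻¹ := by
  haveI := finite_maximalSpectrum A (B := C)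
  haveI : Fintype (MaximalSpectrum C) := Fintype.ofFinite _
  rw [symProd, symProd, finprod_eq_prod_of_fintype, finprod_eq_prod_of_fintype, ← Finset.prod_inv_distrib]
  exact Finset.prod_congr rfl fun l _ => Algebra.norm_inv (v l)

theorem symProd_ne_zero {C : Type u} [CommRing C] [Algebra A C] [Module.Finite A C]
    (v : (l : MaximalSpectrum C) → ResidueField (Localization.AtPrime l.asIdeal)) (hv : ∀ l, v l ≠ 0) :
    symProd (A := A) v ≠ 0 := by
  haveI := finite_maximalSpectrum A (B := C)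
  haveI : Fintype (MaximalSpectrum C) := Fintype.ofFinite _
  rw [symProd, finprod_eq_prod_of_fintype, Finset.prod_ne_zero_iff]
  exact fun l _ => Algebra.norm_ne_zero_iff.2 (hv l)

theorem tameSymbol_ne_zero (a b : A) (ha : a ∈ nonZeroDivisors A) (hb : b ∈ nonZeroDivisors A) :
    CycAlg.tameSymbol A a b ≠ 0 := by
  obtain ⟨C₀, hC₀, h⟩ := tameSymbol_eventually a b ha hb
  obtain ⟨C, _, _, _, f, hf, hr⟩ := exists_carrier C₀
  obtain ⟨v, hv, he⟩ := h C f hf hr.ge
  rw [he]
  exact symProd_ne_zero v fun l => (hv l).ne_zero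

theorem neg_one_pow_mul_self {F : Type u} [Field F] (k : ℕ) : (-1 : F) ^ (k * k) = (-1) ^ k := by
  rcases Nat.even_or_odd k with h | h
  · rw [h.neg_one_pow, (h.mul_left k).neg_one_pow]
  · rw [h.neg_one_pow, (h.mul h).neg_one_pow]

section generic

variable {C : Type u} [CommRing C] [Algebra A C] [Module.Finite A C]

theorem symProd_swap {a b : A} (ha : algebraMap A C a ∈ nonZeroDivisors C)
    (v w : (l : MaximalSpectrum C) → ResidueField (Localization.AtPrime l.asIdeal))
    (hv : ∀ l, IsSym (algebraMap A (Localization.AtPrime l.asIdeal) a) (algebraMap A (Localization.AtPrime l.asIdeal) b) (v l))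
    (hw : ∀ l, IsSym (algebraMap A (Localization.AtPrime l.asIdeal) b) (algebraMap A (Localization.AtPrime l.asIdeal) a) (w l)) :
    symProd (A := A) w = (symProd v)⁻¹ := by
  rw [← symProd_inv]
  exact congrArg (symProd (A := A)) (funext fun l => IsSym.unique (loc_algebraMap_mem l ha) (hw l) (hv l).swap)

theorem symProd_mul_sym {a a' b : A} (ha : algebraMap A C a ∈ nonZeroDivisors C)
    (ha' : algebraMap A C a' ∈ nonZeroDivisors C) (hb : algebraMap A C b ∈ nonZeroDivisors C)
    (v v' w : (l : MaximalSpectrum C) → ResidueField (Localization.AtPrime l.asIdeal))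
    (hv : ∀ l, IsSym (algebraMap A (Localization.AtPrime l.asIdeal) a) (algebraMap A (Localization.AtPrime l.asIdeal) b) (v l))
    (hv' : ∀ l, IsSym (algebraMap A (Localization.AtPrime l.asIdeal) a') (algebraMap A (Localization.AtPrime l.asIdeal) b) (v' l))
    (hw : ∀ l, IsSym (algebraMap A (Localization.AtPrime l.asIdeal) (a * a')) (algebraMap A (Localization.AtPrime l.asIdeal) b) (w l)) :
    symProd (A := A) w = symProd v * symProd v' := by
  rw [← symProd_mul]
  refine congrArg (symProd (A := A)) (funext fun l => IsSym.unique (loc_algebraMap_mem l hb) (hw l) ?_)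
  rw [map_mul]
  exact isSym_mul_left (A := A) l (loc_algebraMap_mem l ha) (loc_algebraMap_mem l ha') (hv l) (hv' l)

theorem symProd_self [Fintype (MaximalSpectrum C)] {b : A} (hb : algebraMap A C b ∈ nonZeroDivisors C)
    (v : (l : MaximalSpectrum C) → ResidueField (Localization.AtPrime l.asIdeal))
    (hv : ∀ l, IsSym (algebraMap A (Localization.AtPrime l.asIdeal) b) (algebraMap A (Localization.AtPrime l.asIdeal) b) (v l)) :
    symProd (A := A) v =
      (-1) ^ ∑ l : MaximalSpectrum C, deg A l * E (algebraMap A (Localization.AtPrime l.asIdeal) b) := by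
  rw [symProd, finprod_eq_prod_of_fintype, ← Finset.prod_pow_eq_pow_sum]
  refine Finset.prod_congr rfl fun l _ => ?_
  rw [IsSym.unique (loc_algebraMap_mem l hb) (hv l)
    (v' := (-1) ^ (E (algebraMap A (Localization.AtPrime l.asIdeal) b) * E (algebraMap A (Localization.AtPrime l.asIdeal) b)))
    ⟨1, by simp, by simp⟩, neg_one_pow_mul_self,
    show (-1 : ResidueField (Localization.AtPrime l.asIdeal)) = algebraMap (ResidueField A) _ (-1) by simp,
    ← map_pow, Algebra.norm_algebraMap, ← pow_mul, mul_comm]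
  rfl

theorem symProd_unit [Fintype (MaximalSpectrum C)] (c : Aˣ) {b : A} (hb : algebraMap A C b ∈ nonZeroDivisors C)
    (v : (l : MaximalSpectrum C) → ResidueField (Localization.AtPrime l.asIdeal))
    (hv : ∀ l, IsSym (algebraMap A (Localization.AtPrime l.asIdeal) (c : A)) (algebraMap A (Localization.AtPrime l.asIdeal) b) (v l)) :
    symProd (A := A) v = residue A (c : A) ^
      ∑ l : MaximalSpectrum C, deg A l * E (algebraMap A (Localization.AtPrime l.asIdeal) b) := by
  rw [symProd, finprod_eq_prod_of_fintype, ← Finset.prod_pow_eq_pow_sum]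
  refine Finset.prod_congr rfl fun l _ => ?_
  let L := Localization.AtPrime l.asIdeal
  have h0 : E (algebraMap A L c) = 0 := by rw [E, Ring.ord_of_isUnit (c.isUnit.map _), ENat.toNat_zero]
  have hsym : IsSym (algebraMap A L c) (algebraMap A L b)
      (algebraMap (ResidueField A) (ResidueField L) (residue A (c : A)) ^ E (algebraMap A L b)) := by
    refine ⟨(Units.map (algebraMap A L).toMonoidHom c) ^ E (algebraMap A L b), ?_, ?_⟩
    · rw [h0, pow_zero, mul_one, Units.val_pow_eq_pow_val]; rfl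
    · rw [h0, zero_mul, pow_zero, one_mul, Units.val_pow_eq_pow_val, map_pow]; rfl
  rw [IsSym.unique (loc_algebraMap_mem l hb) (hv l) hsym, ← map_pow, Algebra.norm_algebraMap, ← pow_mul, mul_comm]
  rfl

end generic

theorem sum_deg_mul_E {C : Type u} [CommRing C] [Algebra A C] [Module.Finite A C] [Fintype (MaximalSpectrum C)]
    (f : C →ₐ[A] Tot A) (hf : Function.Injective f) {b : A} (hb : b ∈ nonZeroDivisors A) :
    ∑ l : MaximalSpectrum C, deg A l * E (algebraMap A (Localization.AtPrime l.asIdeal) b) =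
      (Module.length A (A ⧸ Ideal.span {b})).toNat := by
  have hbC := over_algebraMap_mem f hf hb
  obtain ⟨s, hs, hden⟩ := over_denominator f hf
  have hinj : Function.Injective (algebraMap A C) := fun x y h =>
    IsLocalization.injective (Tot A) le_rfl (by rw [← f.commutes x, ← f.commutes y, h])
  have h := length_quot_span_invariant A (Algebra.ofId A C) hinj
    (length_quot_range_lt_top (Algebra.ofId A C) s (over_algebraMap_mem f hf hs) (fun c => by
      obtain ⟨a, ha⟩ := hden c
      exact ⟨a, ha⟩)) b hb hbC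
  have h' := length_quot_span_eq A (algebraMap A C b) (length_quot_span_lt_top A _ hbC)
  rw [show Algebra.ofId A C b = algebraMap A C b from rfl, h'] at h
  rw [h, ENat.toNat_sum fun l _ => ?_]
  · refine Finset.sum_congr rfl fun l _ => ?_
    rw [ENat.toNat_mul, ENat.toNat_natCast, IsScalarTower.algebraMap_apply A C (Localization.AtPrime l.asIdeal)]
    rfl
  · exact WithTop.mul_ne_top (ENat.natCast_ne_top _) (ord_lt_top A l (loc_mem_nonZeroDivisors l hbC)).ne

theorem tameSymbol_swap (a b : A) (ha : a ∈ nonZeroDivisors A) (hb : b ∈ nonZeroDivisors A) :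
    CycAlg.tameSymbol A b a = (CycAlg.tameSymbol A a b)⁻¹ := by
  obtain ⟨C₁, hC₁, h₁⟩ := tameSymbol_eventually a b ha hb
  obtain ⟨C₂, hC₂, h₂⟩ := tameSymbol_eventually b a hb ha
  haveI := finite_sup_subalgebra C₁ C₂
  obtain ⟨C, _, _, _, f, hf, hr⟩ := exists_carrier (C₁ ⊔ C₂)
  obtain ⟨v, hv, he⟩ := h₁ C f hf (le_sup_left.trans hr.ge)
  obtain ⟨w, hw, he'⟩ := h₂ C f hf (le_sup_right.trans hr.ge)
  rw [he, he']
  exact symProd_swap (over_algebraMap_mem f hf ha) v w hv hw

theorem tameSymbol_mul_left (a a' b : A) (ha : a ∈ nonZeroDivisors A) (ha' : a' ∈ nonZeroDivisors A)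
    (hb : b ∈ nonZeroDivisors A) :
    CycAlg.tameSymbol A (a * a') b = CycAlg.tameSymbol A a b * CycAlg.tameSymbol A a' b := by
  obtain ⟨C₁, hC₁, h₁⟩ := tameSymbol_eventually a b ha hb
  obtain ⟨C₂, hC₂, h₂⟩ := tameSymbol_eventually a' b ha' hb
  obtain ⟨C₃, hC₃, h₃⟩ := tameSymbol_eventually (a * a') b (mul_mem ha ha') hb
  haveI := finite_sup_subalgebra C₁ C₂
  haveI := finite_sup_subalgebra (C₁ ⊔ C₂) C₃
  obtain ⟨C, _, _, _, f, hf, hr⟩ := exists_carrier (C₁ ⊔ C₂ ⊔ C₃)
  obtain ⟨v, hv, he⟩ := h₁ C f hf ((le_sup_left.trans le_sup_left).trans hr.ge)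
  obtain ⟨v', hv', he'⟩ := h₂ C f hf ((le_sup_right.trans le_sup_left).trans hr.ge)
  obtain ⟨w, hw, he''⟩ := h₃ C f hf (le_sup_right.trans hr.ge)
  rw [he, he', he'']
  exact symProd_mul_sym (over_algebraMap_mem f hf ha) (over_algebraMap_mem f hf ha')
    (over_algebraMap_mem f hf hb) v v' w hv hv' hw

theorem tameSymbol_self (b : A) (hb : b ∈ nonZeroDivisors A) :
    CycAlg.tameSymbol A b b = (-1) ^ (Module.length A (A ⧸ Ideal.span {b})).toNat := by
  obtain ⟨C₀, hC₀, h⟩ := tameSymbol_eventually b b hb hb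
  obtain ⟨C, _, _, _, f, hf, hr⟩ := exists_carrier C₀
  obtain ⟨v, hv, he⟩ := h C f hf hr.ge
  haveI := finite_maximalSpectrum A (B := C)
  haveI : Fintype (MaximalSpectrum C) := Fintype.ofFinite _
  rw [he, ← sum_deg_mul_E f hf hb]
  exact symProd_self (over_algebraMap_mem f hf hb) v hv

theorem tameSymbol_unit (c : Aˣ) (b : A) (hb : b ∈ nonZeroDivisors A) :
    CycAlg.tameSymbol A (c : A) b = residue A (c : A) ^ (Module.length A (A ⧸ Ideal.span {b})).toNat := by
  obtain ⟨C₀, hC₀, h⟩ := tameSymbol_eventually (c : A) b c.isUnit.mem_nonZeroDivisors hb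
  obtain ⟨C, _, _, _, f, hf, hr⟩ := exists_carrier C₀
  obtain ⟨v, hv, he⟩ := h C f hf hr.ge
  haveI := finite_maximalSpectrum A (B := C)
  haveI : Fintype (MaximalSpectrum C) := Fintype.ofFinite _
  rw [he, ← sum_deg_mul_E f hf hb]
  exact symProd_unit c (over_algebraMap_mem f hf hb) v hv

theorem steinberg_local {S : Type u} [CommRing S] [IsLocalRing S] {π : S} (hπ : π ∈ nonZeroDivisors S)
    (hπm : π ∈ maximalIdeal S) (u v w : Sˣ) (e f g : ℕ) (h : (v : S) * π ^ f - u * π ^ e = w * π ^ g) :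
    ((-1 : ResidueField S) ^ (e * g) * residue S u ^ g * (residue S (w : S) ^ e)⁻¹) *
        ((-1) ^ (f * f) * residue S v ^ f * (residue S (v : S) ^ f)⁻¹) =
      ((-1) ^ (f * g) * residue S v ^ g * (residue S (w : S) ^ f)⁻¹) *
        ((-1) ^ (e * f) * residue S u ^ f * (residue S (v : S) ^ e)⁻¹) := by
  have hres : residue S π = 0 := (IsLocalRing.residue_eq_zero_iff _).2 hπm
  have hu := residue_ne_zero u
  have hv := residue_ne_zero v
  have hw := residue_ne_zero w
  have hnu : ∀ (k : ℕ) (x : S), k ≠ 0 → ∀ z : Sˣ, (z : S) ≠ x * π ^ k := fun k x hk z hz => by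
    have := residue_ne_zero z
    rw [hz, map_mul, map_pow, hres, zero_pow hk, mul_zero] at this
    exact this rfl
  have cancel : ∀ (k : ℕ) (x y : S), x * π ^ k = y * π ^ k → x = y := fun k x y hxy =>
    (mul_cancel_right_mem_nonZeroDivisors (pow_mem hπ k)).1 hxy
  have sq : ∀ k : ℕ, (-1 : ResidueField S) ^ (k * k) = (-1) ^ k := neg_one_pow_mul_self
  rcases lt_trichotomy e f with hef | hef | hef
  · obtain ⟨d, rfl⟩ := Nat.exists_eq_add_of_le hef.le
    have hz : IsUnit ((v : S) * π ^ d - u) := (isUnit_iff_ne_zero.2 (by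
      rw [map_sub, map_mul, map_pow, hres, zero_pow (by omega), mul_zero, zero_sub]
      exact neg_ne_zero.2 hu)).of_map (residue S) _
    have h' : ((v : S) * π ^ d - u) * π ^ e = w * π ^ g := by rw [← h, pow_add]; ring
    have hge : g = e := by
      rcases lt_trichotomy g e with hlt | heq | hgt
      · obtain ⟨j, rfl⟩ := Nat.exists_eq_add_of_le hlt.le
        exact absurd (cancel g _ _ (by rw [mul_assoc, ← pow_add, add_comm j g]; exact h'.symm)) (hnu j _ (by omega) w)
      · exact heq
      · obtain ⟨j, rfl⟩ := Nat.exists_eq_add_of_le hgt.le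
        exact absurd (cancel e _ _ (by rw [hz.unit_spec, mul_assoc, ← pow_add, add_comm j e]; exact h')) (hnu j _ (by omega) hz.unit)
    subst hge
    have hwz := congrArg (residue S) (cancel g _ _ h')
    rw [map_sub, map_mul, map_pow, hres, zero_pow (by omega : d ≠ 0), mul_zero, zero_sub] at hwz
    rw [← hwz, sq]
    have hn : ∀ k : ℕ, (-1 : ResidueField S) ^ k * (-1) ^ k = 1 := fun k => by rw [← mul_pow]; norm_num
    have hsq' := sq (g + d)
    generalize residue S (u : S) = U at hu ⊢
    generalize residue S (v : S) = V at hv ⊢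
    generalize hf : g + d = f at hsq' ⊢
    rw [hsq', neg_pow U g, neg_pow U f, mul_comm f g, mul_inv, mul_inv, ← inv_pow (-1 : ResidueField S),
      ← inv_pow (-1 : ResidueField S), inv_neg, inv_one]
    have eg := mul_inv_cancel₀ (pow_ne_zero g hu)
    have ef := mul_inv_cancel₀ (pow_ne_zero f hu)
    have vg := mul_inv_cancel₀ (pow_ne_zero g hv)
    have vf := mul_inv_cancel₀ (pow_ne_zero f hv)
    calc _ = ((-1 : ResidueField S) ^ g * (-1) ^ g) * (-1) ^ f * (U ^ g * (U ^ g)⁻¹) * (V ^ f * (V ^ f)⁻¹) := by ring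
      _ = (-1) ^ f := by rw [hn, eg, vf]; ring
      _ = ((-1 : ResidueField S) ^ (g * f) * (-1) ^ (g * f)) * (-1) ^ f * (U ^ f * (U ^ f)⁻¹) * (V ^ g * (V ^ g)⁻¹) := by
        rw [hn, ef, vg]; ring
      _ = _ := by ring
  · subst hef
    have h' : ((v : S) - u) * π ^ e = w * π ^ g := by rw [← h]; ring
    rcases lt_trichotomy g e with hlt | heq | hgt
    · obtain ⟨j, rfl⟩ := Nat.exists_eq_add_of_le hlt.le
      exact absurd (cancel g _ _ (by rw [mul_assoc, ← pow_add, add_comm j g]; exact h'.symm)) (hnu j _ (by omega) w)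
    · subst heq
      field_simp
    · obtain ⟨j, rfl⟩ := Nat.exists_eq_add_of_le hgt.le
      have e1 := congrArg (residue S) (cancel e ((v : S) - u) ((w : S) * π ^ j) (by
        rw [mul_assoc, ← pow_add, add_comm j e]; exact h'))
      rw [map_sub, map_mul, map_pow, hres, zero_pow (by omega : j ≠ 0), mul_zero, sub_eq_zero] at e1
      rw [e1]
  · obtain ⟨d, rfl⟩ := Nat.exists_eq_add_of_le hef.le
    have hz : IsUnit ((v : S) - u * π ^ d) := (isUnit_iff_ne_zero.2 (by
      rw [map_sub, map_mul, map_pow, hres, zero_pow (by omega), mul_zero, sub_zero]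
      exact hv)).of_map (residue S) _
    have h' : ((v : S) - u * π ^ d) * π ^ f = w * π ^ g := by rw [← h, pow_add]; ring
    have hge : g = f := by
      rcases lt_trichotomy g f with hlt | heq | hgt
      · obtain ⟨j, rfl⟩ := Nat.exists_eq_add_of_le hlt.le
        exact absurd (cancel g _ _ (by rw [mul_assoc, ← pow_add, add_comm j g]; exact h'.symm)) (hnu j _ (by omega) w)
      · exact heq
      · obtain ⟨j, rfl⟩ := Nat.exists_eq_add_of_le hgt.le
        exact absurd (cancel f _ _ (by rw [hz.unit_spec, mul_assoc, ← pow_add, add_comm j f]; exact h')) (hnu j _ (by omega) hz.unit)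
    subst hge
    have hwz := congrArg (residue S) (cancel g _ _ h')
    rw [map_sub, map_mul, map_pow, hres, zero_pow (by omega : d ≠ 0), mul_zero, sub_zero] at hwz
    rw [← hwz]
    ring

theorem symProd_steinberg {C₀ C : Type u} [CommRing C₀] [Algebra A C₀] [Module.Finite A C₀] [CommRing C]
    [Algebra A C] [Module.Finite A C] (i : C₀ →ₐ[A] C) (a b : A)
    (hsep : ∀ q : MaximalSpectrum C₀, ∃ π : C₀, i π ∈ nonZeroDivisors C ∧ ∀ x ∈ ({a, b, b - a} : Multiset A),
      ∃ (v : (Localization.AtPrime q.asIdeal)ˣ) (e : ℕ), algebraMap A (Localization.AtPrime q.asIdeal) x =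
        (v : Localization.AtPrime q.asIdeal) * algebraMap C₀ (Localization.AtPrime q.asIdeal) π ^ e)
    (hb : algebraMap A C b ∈ nonZeroDivisors C) (hd : algebraMap A C (b - a) ∈ nonZeroDivisors C)
    (v₁ v₂ v₃ v₄ : (l : MaximalSpectrum C) → ResidueField (Localization.AtPrime l.asIdeal))
    (hv₁ : ∀ l, IsSym (algebraMap A (Localization.AtPrime l.asIdeal) a) (algebraMap A (Localization.AtPrime l.asIdeal) (b - a)) (v₁ l))
    (hv₂ : ∀ l, IsSym (algebraMap A (Localization.AtPrime l.asIdeal) b) (algebraMap A (Localization.AtPrime l.asIdeal) b) (v₂ l))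
    (hv₃ : ∀ l, IsSym (algebraMap A (Localization.AtPrime l.asIdeal) b) (algebraMap A (Localization.AtPrime l.asIdeal) (b - a)) (v₃ l))
    (hv₄ : ∀ l, IsSym (algebraMap A (Localization.AtPrime l.asIdeal) a) (algebraMap A (Localization.AtPrime l.asIdeal) b) (v₄ l)) :
    symProd (A := A) v₁ * symProd v₂ = symProd v₃ * symProd v₄ := by
  rw [← symProd_mul, ← symProd_mul]
  refine congrArg (symProd (A := A)) (funext fun l => ?_)
  haveI := l.isMaximal
  let L := Localization.AtPrime l.asIdeal
  haveI : Algebra.IsIntegral A C₀ := Algebra.IsIntegral.of_finite A C₀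
  have hmax : (l.asIdeal.comap i.toRingHom).IsMaximal := by
    refine Ideal.isMaximal_of_isIntegral_of_isMaximal_comap (R := A) _ ?_
    rw [Ideal.comap_comap, AlgHom.toRingHom_eq_coe, i.comp_algebraMap, comap_max A l.asIdeal]
    exact maximalIdeal.isMaximal A
  obtain ⟨π₀, hπ₀, hfac⟩ := hsep ⟨_, hmax⟩
  let φ := Localization.localRingHom (l.asIdeal.comap i.toRingHom) l.asIdeal i.toRingHom rfl
  have hφA : ∀ x : A, φ (algebraMap A _ x) = algebraMap A L x := fun x => by
    rw [IsScalarTower.algebraMap_apply A C₀ (Localization.AtPrime (l.asIdeal.comap i.toRingHom))]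
    show φ (algebraMap C₀ _ (algebraMap A C₀ x)) = _
    rw [Localization.localRingHom_to_map]
    exact (congrArg (algebraMap C L) (i.commutes x)).trans (IsScalarTower.algebraMap_apply A C L x).symm
  obtain ⟨u, e, hau⟩ := hfac a (by simp)
  obtain ⟨v, f, hbv⟩ := hfac b (by simp)
  obtain ⟨w, g, hdw⟩ := hfac (b - a) (by simp)
  let π : L := algebraMap C L (i π₀)
  have hπ : π ∈ nonZeroDivisors L := loc_mem_nonZeroDivisors l hπ₀
  have hφπ : φ (algebraMap C₀ _ π₀) = π := Localization.localRingHom_to_map _ _ _ _ _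
  let U := Units.map φ.toMonoidHom u
  let V := Units.map φ.toMonoidHom v
  let W := Units.map φ.toMonoidHom w
  have hA : algebraMap A L a = (U : L) * π ^ e := by rw [← hφA, hau, map_mul, map_pow, hφπ]; rfl
  have hB : algebraMap A L b = (V : L) * π ^ f := by rw [← hφA, hbv, map_mul, map_pow, hφπ]; rfl
  have hD : algebraMap A L (b - a) = (W : L) * π ^ g := by rw [← hφA, hdw, map_mul, map_pow, hφπ]; rfl
  have hk : Ring.ord L π ≠ ⊤ := (ord_lt_top A l hπ).ne
  have S : ∀ (x y : A) (X Y : Lˣ) (m n : ℕ) (val : ResidueField L), algebraMap A L x = (X : L) * π ^ m →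
      algebraMap A L y = (Y : L) * π ^ n → algebraMap A C y ∈ nonZeroDivisors C →
      IsSym (algebraMap A L x) (algebraMap A L y) val →
      val = ((-1 : ResidueField L) ^ (m * n) * residue L (X : L) ^ n * (residue L (Y : L) ^ m)⁻¹) ^ E π := by
    intro x y X Y m n val hx hy hyn hval
    refine IsSym.unique (loc_algebraMap_mem l hyn) hval ?_
    rw [hx, hy]
    exact isSym_of_fac hπ hk X Y m n
  rw [S a (b - a) U W e g _ hA hD hd (hv₁ l), S b b V V f f _ hB hB hb (hv₂ l),
    S b (b - a) V W f g _ hB hD hd (hv₃ l), S a b U V e f _ hA hB hb (hv₄ l), ← mul_pow, ← mul_pow]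
  by_cases hπm : π ∈ maximalIdeal L
  · rw [steinberg_local hπ hπm U V W e f g (by rw [← hA, ← hB, ← hD, map_sub])]
  · rw [show E π = 0 by rw [E, Ring.ord_of_isUnit (not_not.1 hπm), ENat.toNat_zero], pow_zero, pow_zero]

theorem tameSymbol_steinberg (a b : A) (ha : a ∈ nonZeroDivisors A) (hb : b ∈ nonZeroDivisors A)
    (hd : b - a ∈ nonZeroDivisors A) :
    CycAlg.tameSymbol A a (b - a) * CycAlg.tameSymbol A b b =
      CycAlg.tameSymbol A b (b - a) * CycAlg.tameSymbol A a b := by
  obtain ⟨S₀, hS₀, hsep⟩ := exists_separating {a, b, b - a} (by simp [ha, hb, hd])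
  obtain ⟨C₁, hC₁, h₁⟩ := tameSymbol_eventually a (b - a) ha hd
  obtain ⟨C₂, hC₂, h₂⟩ := tameSymbol_eventually b b hb hb
  obtain ⟨C₃, hC₃, h₃⟩ := tameSymbol_eventually b (b - a) hb hd
  obtain ⟨C₄, hC₄, h₄⟩ := tameSymbol_eventually a b ha hb
  haveI := finite_sup_subalgebra C₁ C₂
  haveI := finite_sup_subalgebra C₃ C₄
  haveI := finite_sup_subalgebra (C₁ ⊔ C₂) (C₃ ⊔ C₄)
  haveI := finite_sup_subalgebra S₀ (C₁ ⊔ C₂ ⊔ (C₃ ⊔ C₄))
  obtain ⟨C, _, _, _, f, hf, hr⟩ := exists_carrier (S₀ ⊔ (C₁ ⊔ C₂ ⊔ (C₃ ⊔ C₄)))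
  obtain ⟨v₁, hv₁, he₁⟩ := h₁ C f hf ((le_sup_of_le_right (le_sup_of_le_left le_sup_left)).trans hr.ge)
  obtain ⟨v₂, hv₂, he₂⟩ := h₂ C f hf ((le_sup_of_le_right (le_sup_of_le_left le_sup_right)).trans hr.ge)
  obtain ⟨v₃, hv₃, he₃⟩ := h₃ C f hf ((le_sup_of_le_right (le_sup_of_le_right le_sup_left)).trans hr.ge)
  obtain ⟨v₄, hv₄, he₄⟩ := h₄ C f hf ((le_sup_of_le_right (le_sup_of_le_right le_sup_right)).trans hr.ge)
  obtain ⟨i, hi⟩ := exists_lift S₀.val f hf (S₀.range_val.trans_le (le_sup_left.trans hr.ge))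
  rw [he₁, he₂, he₃, he₄]
  refine symProd_steinberg i a b (fun q => ?_)
    (over_algebraMap_mem f hf hb) (over_algebraMap_mem f hf hd) v₁ v₂ v₃ v₄ hv₁ hv₂ hv₃ hv₄
  obtain ⟨π, hπ, hfac⟩ := hsep q
  exact ⟨π, over_unit_mem f hf _ (by rw [hi]; exact hπ), hfac⟩

end TameLib
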