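import Mathlib
import Groth.Agent.TameLib.Len
import Groth.Agent.S6312

/-!
# The determinant on a module killed by the maximal ideal

If `M` is a module over a finite `A`-algebra `B` which is killed by the maximal ideal of `A`, then the
determinant over the residue field of multiplication by `z` is the product over the maximal ideals of
the norms of the residues of `z`, raised to the local lengths.
-/

set_option autoImplicit false
set_option linter.style.haveILetI false
set_option linter.unusedSectionVars false

universe u

open IsLocalRing

namespace TameLib

variable (A : Type u) [CommRing A] [IsLocalRing A] {B : Type u} [CommRing B] [Algebra A B] [Module.Finite A B]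

/-- Multiplication by `z`, linear over the residue field. -/
def mulK (z : B) (M : Type u) [AddCommGroup M] [Module B M] [Module A M] [IsScalarTower A B M]
    [Module (ResidueField A) M] [IsScalarTower A (ResidueField A) M] : M →ₗ[ResidueField A] M where
  toFun x := z • x
  map_add' := smul_add z
  map_smul' k x := by
    obtain ⟨a, rfl⟩ := IsLocalRing.residue_surjective k
    show z • (algebraMap A (ResidueField A) a • x) = algebraMap A (ResidueField A) a • (z • x)
    rw [algebraMap_smul, algebraMap_smul, smul_comm]

/-- A linear map over `A` between vector spaces over the residue field. -/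
def toLinK {M N : Type u} [AddCommGroup M] [Module A M] [Module (ResidueField A) M]
    [IsScalarTower A (ResidueField A) M] [AddCommGroup N] [Module A N] [Module (ResidueField A) N]
    [IsScalarTower A (ResidueField A) N] (f : M →ₗ[A] N) : M →ₗ[ResidueField A] N where
  toFun := f
  map_add' := map_add f
  map_smul' k x := by
    obtain ⟨a, rfl⟩ := IsLocalRing.residue_surjective k
    show f (algebraMap A (ResidueField A) a • x) = algebraMap A (ResidueField A) a • f x
    rw [algebraMap_smul, algebraMap_smul, map_smul]

variable [IsNoetherianRing A]

theorem det_smul_eq_prod [Fintype (MaximalSpectrum B)] (z : B) (M : Type u) [AddCommGroup M] [Module B M]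
    [Module A M] [IsScalarTower A B M] [Module (ResidueField A) M] [IsScalarTower A (ResidueField A) M]
    [Module.Finite (ResidueField A) M] :
    LinearMap.det (mulK A z M) = ∏ q : MaximalSpectrum B,
      Algebra.norm (ResidueField A) (residue (Localization.AtPrime q.asIdeal) (algebraMap B _ z)) ^
        (Module.length (Localization.AtPrime q.asIdeal) (LocalizedModule q.asIdeal.primeCompl M)).toNat := by
  classical
  have hFL : IsFiniteLength B M := by
    haveI : IsArtinian A M :=
      isArtinian_of_surjective_algebraMap (R := ResidueField A) (S := A) IsLocalRing.residue_surjective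
    haveI : Module.Finite A M := Module.Finite.trans (ResidueField A) M
    haveI : IsArtinian B M := isArtinian_of_tower A inferInstance
    haveI : IsNoetherian B M := isNoetherian_of_tower A inferInstance
    exact isFiniteLength_iff_isNoetherian_isArtinian.2 ⟨inferInstance, inferInstance⟩
  rename_i instA instT instK instTK instF
  revert instA instT instK instTK instF
  induction hFL with
  | @of_subsingleton M _ _ _ =>
    intro _ _ _ _ _
    rw [show mulK A z M = LinearMap.id from LinearMap.ext fun x => Subsingleton.elim _ _, LinearMap.det_id]
    refine (Finset.prod_eq_one fun q _ => ?_).symm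
    haveI : Subsingleton (LocalizedModule q.asIdeal.primeCompl M) := ⟨fun a b => by
      induction a using LocalizedModule.induction_on with
      | h m s =>
        induction b using LocalizedModule.induction_on with
        | h m' s' => rw [Subsingleton.elim m 0, Subsingleton.elim m' 0, LocalizedModule.zero_mk, LocalizedModule.zero_mk]⟩
    rw [Module.length_eq_zero, ENat.toNat_zero, pow_zero]
  | @of_simple_quotient M _ _ N hS hN ih =>
    intro _ _ _ _ _
    obtain ⟨I, hI, ⟨e⟩⟩ := isSimpleModule_iff_quot_maximal.1 hS
    let q' : MaximalSpectrum B := ⟨I, hI⟩
    let W : Submodule (ResidueField A) M :=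
      { N.toAddSubmonoid with
        smul_mem' := fun k x hx => by
          obtain ⟨a, rfl⟩ := IsLocalRing.residue_surjective k
          show algebraMap A (ResidueField A) a • x ∈ N
          rw [algebraMap_smul, ← algebraMap_smul B a x]
          exact N.smul_mem _ hx }
    letI : Module (ResidueField A) N := inferInstanceAs (Module (ResidueField A) W)
    haveI : IsScalarTower A (ResidueField A) N := ⟨fun a k x => Subtype.ext (smul_assoc a k x.1)⟩
    haveI : Module.Finite (ResidueField A) N := inferInstanceAs (Module.Finite (ResidueField A) W)
    let ψA : M →ₗ[A] (ResidueField (Localization.AtPrime q'.asIdeal)) := (resEquiv A q').toLinearMap ∘ₗ ((e.toLinearMap ∘ₗ N.mkQ).restrictScalars A)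
    haveI : IsLocalHom (algebraMap A (Localization.AtPrime q'.asIdeal)) := isLocalHom_atPrime A q'
    let ψ : M →ₗ[ResidueField A] (ResidueField (Localization.AtPrime q'.asIdeal)) := toLinK A ψA
    have hψ : Function.Surjective ψ :=
      (resEquiv A q').surjective.comp (e.surjective.comp (Submodule.mkQ_surjective _))
    have hψk : LinearMap.ker ψ = W := by
      ext x
      show resEquiv A q' (e (N.mkQ x)) = 0 ↔ x ∈ N
      rw [EmbeddingLike.map_eq_zero_iff, LinearEquiv.map_eq_zero_iff, Submodule.mkQ_apply, Submodule.Quotient.mk_eq_zero]
    have hW : W ≤ W.comap (mulK A z M) := fun x hx => N.smul_mem z hx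
    have hq : LinearMap.det (W.mapQ W (mulK A z M) hW) =
        Algebra.norm (ResidueField A) (residue (Localization.AtPrime q'.asIdeal) (algebraMap B _ z)) := by
      let ε : (M ⧸ W) ≃ₗ[ResidueField A] (ResidueField (Localization.AtPrime q'.asIdeal)) :=
        (Submodule.quotEquivOfEq _ _ hψk.symm).trans (ψ.quotKerEquivOfSurjective hψ)
      rw [← LinearMap.det_conj _ ε, Algebra.norm_apply]
      refine congrArg _ (LinearMap.ext fun y => ?_)
      obtain ⟨x, rfl⟩ := ε.surjective y
      obtain ⟨x, rfl⟩ := Submodule.Quotient.mk_surjective _ x
      rw [LinearMap.comp_apply, LinearMap.comp_apply, LinearEquiv.coe_coe, LinearEquiv.coe_coe,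
        LinearEquiv.symm_apply_apply, Submodule.mapQ_apply]
      show resEquiv A q' (e (N.mkQ (z • x))) = residue _ (algebraMap B _ z) * resEquiv A q' (e (N.mkQ x))
      have hres : resEquiv A q' (Ideal.Quotient.mk I z) = residue (Localization.AtPrime q'.asIdeal) (algebraMap B _ z) := rfl
      rw [map_smul, map_smul, Algebra.smul_def, map_mul, ← hres]
      rfl
    rw [LinearMap.det_eq_det_mul_det W _ hW, hq,
      show LinearMap.det ((mulK A z M).restrict hW) = LinearMap.det (mulK A z N) from rfl, ih]
    have hsum : ∀ q : MaximalSpectrum B,
        Module.length (Localization.AtPrime q.asIdeal) (LocalizedModule q.asIdeal.primeCompl M) =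
          Module.length (Localization.AtPrime q.asIdeal) (LocalizedModule q.asIdeal.primeCompl N) +
            (if q' = q then 1 else 0) := fun q => by
      rw [← localized_max_length q q']
      exact Module.length_eq_add_of_exact (LocalizedModule.map q.asIdeal.primeCompl N.subtype)
        (LocalizedModule.map q.asIdeal.primeCompl (e.toLinearMap ∘ₗ N.mkQ))
        (LocalizedModule.map_injective _ _ (Submodule.subtype_injective _))
        (LocalizedModule.map_surjective _ _ (e.surjective.comp (Submodule.mkQ_surjective _)))
        (LocalizedModule.map_exact _ _ _ (LinearMap.exact_iff.mpr (by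
          rw [LinearEquiv.ker_comp, Submodule.ker_mkQ, Submodule.range_subtype])))
    have hlt : ∀ q : MaximalSpectrum B,
        Module.length (Localization.AtPrime q.asIdeal) (LocalizedModule q.asIdeal.primeCompl N) < ⊤ := fun q =>
      lt_of_le_of_lt (Groth.Agent.S6312.result q.asIdeal.primeCompl N) (Module.length_ne_top_iff.2 hN).lt_top
    have hexp : ∀ q : MaximalSpectrum B,
        (Module.length (Localization.AtPrime q.asIdeal) (LocalizedModule q.asIdeal.primeCompl M)).toNat =
          (Module.length (Localization.AtPrime q.asIdeal) (LocalizedModule q.asIdeal.primeCompl N)).toNat +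
            (if q' = q then 1 else 0) := fun q => by
      rw [hsum q, ENat.toNat_add (hlt q).ne (by split_ifs <;> simp)]
      split_ifs <;> rfl
    simp only [hexp, pow_add, Finset.prod_mul_distrib, pow_ite, pow_one, pow_zero, Finset.prod_ite_eq,
      Finset.mem_univ, if_true]

end TameLib
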