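import Mathlib
import Groth.Agent.TameLib.Main
import Groth.Agent.TameLib.Gap
import Groth.Agent.TameLib.ArtNorm
import Groth.Agent.S0612

/-!
# Compatibility of the tame symbol with the norm

For a finite free extension `B` of a discrete valuation ring `A` which is a principal ideal domain
with trivial residue extensions, the product of the tame symbols of `(f, g)` is the symbol of `(N f, g)`.
-/

set_option autoImplicit false
set_option linter.style.haveILetI false
set_option linter.unusedSectionVars false
set_option maxHeartbeats 1000000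

universe u

open IsLocalRing Polynomial

namespace TameLib

theorem length_quot_maximalIdeal (R : Type u) [CommRing R] [IsLocalRing R] :
    Module.length R (R ⧸ maximalIdeal R) = 1 := by
  haveI : IsSimpleModule R (R ⧸ maximalIdeal R) := isSimpleModule_iff_isCoatom.2 (maximalIdeal.isMaximal R).out
  exact Module.length_eq_one R _

section basic

variable {A : Type u} [CommRing A] [IsLocalRing A] [IsNoetherianRing A] [Ring.KrullDimLE 1 A]

theorem tameSymbol_mul_right (a b b' : A) (ha : a ∈ nonZeroDivisors A) (hb : b ∈ nonZeroDivisors A)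
    (hb' : b' ∈ nonZeroDivisors A) :
    CycAlg.tameSymbol A a (b * b') = CycAlg.tameSymbol A a b * CycAlg.tameSymbol A a b' := by
  rw [tameSymbol_swap (b * b') a (mul_mem hb hb') ha, tameSymbol_mul_left b b' a hb hb' ha, mul_inv,
    ← tameSymbol_swap b a hb ha, ← tameSymbol_swap b' a hb' ha]

theorem tameSymbol_unit_right (a : A) (c : Aˣ) (ha : a ∈ nonZeroDivisors A) :
    CycAlg.tameSymbol A a (c : A) = (residue A (c : A) ^ (Module.length A (A ⧸ Ideal.span {a})).toNat)⁻¹ := by
  rw [tameSymbol_swap (c : A) a c.isUnit.mem_nonZeroDivisors ha, tameSymbol_unit c a ha]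

theorem tameSymbol_pow_right (a b : A) (ha : a ∈ nonZeroDivisors A) (hb : b ∈ nonZeroDivisors A) (m : ℕ) :
    CycAlg.tameSymbol A a (b ^ m) = CycAlg.tameSymbol A a b ^ m := by
  induction m with
  | zero =>
    rw [pow_zero, pow_zero, ← Units.val_one, tameSymbol_unit_right a 1 ha, Units.val_one, map_one, one_pow, inv_one]
  | succ m ih => rw [pow_succ, pow_succ, tameSymbol_mul_right a _ b ha (pow_mem hb m) hb, ih]

end basic

variable (A : Type u) [CommRing A] [IsDomain A] [IsDiscreteValuationRing A] {B : Type u} [CommRing B]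
  [IsDomain B] [Algebra A B] [Module.Finite A B] [Module.Free A B]

instance krullDimLE_dvr : Ring.KrullDimLE 1 A := inferInstance

/-- The norm of the residue at `q`. -/
noncomputable def Nres (q : MaximalSpectrum B) (z : B) : ResidueField A :=
  Algebra.norm (ResidueField A) (residue (Localization.AtPrime q.asIdeal) (algebraMap B _ z))

theorem norm_ne_zero' {z : B} (hz : z ≠ 0) : Algebra.norm A z ≠ 0 := by
  intro h
  exact hz ((Algebra.norm_eq_zero_iff_of_basis (Module.Free.chooseBasis A B)).1 h)

theorem ord_norm {z : B} (hz : z ≠ 0) :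
    Ring.ord A (Algebra.norm A z) = Module.length A (B ⧸ Ideal.span {z}) := by
  classical
  let b := (Module.Free.chooseBasis A B).reindex (Fintype.equivFin _)
  let φ := b.equivFun.toLinearMap ∘ₗ LinearMap.mulLeft A z ∘ₗ b.equivFun.symm.toLinearMap
  have hdet : LinearMap.det φ = Algebra.norm A z := by
    rw [Algebra.norm_apply]
    exact LinearMap.det_conj _ b.equivFun
  have h := Groth.Agent.S0612.result φ (by rw [hdet]; exact mem_nonZeroDivisors_of_ne_zero (norm_ne_zero' A hz))
  rw [hdet] at h
  rw [← h]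
  refine (LinearEquiv.length_eq (Submodule.Quotient.equiv _ ((Ideal.span {z}).restrictScalars A) b.equivFun.symm ?_)).trans
    (Submodule.Quotient.restrictScalarsEquiv A (Ideal.span {z})).length_eq
  ext x
  constructor
  · rintro ⟨_, ⟨y, rfl⟩, rfl⟩
    simp only [φ, LinearMap.comp_apply, LinearEquiv.coe_coe, LinearEquiv.symm_apply_apply]
    exact Ideal.mem_span_singleton'.2 ⟨_, mul_comm _ _⟩
  · intro hx
    obtain ⟨w, rfl⟩ := Ideal.mem_span_singleton'.1 hx
    exact ⟨b.equivFun (z * w), ⟨b.equivFun w, by simp [φ]⟩, by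
      rw [LinearEquiv.coe_coe, LinearEquiv.symm_apply_apply, mul_comm]⟩

theorem length_quot_eq_sum [Fintype (MaximalSpectrum B)] {z : B} (hz : z ≠ 0) :
    (Ring.ord A (Algebra.norm A z)).toNat = ∑ q : MaximalSpectrum B,
      deg A q * (Ring.ord (Localization.AtPrime q.asIdeal) (algebraMap B (Localization.AtPrime q.asIdeal) z)).toNat := by
  rw [ord_norm A hz, length_quot_span_eq A z (length_quot_span_lt_top A z (mem_nonZeroDivisors_of_ne_zero hz))]
  refine Eq.trans (ENat.toNat_sum ?_) (Finset.sum_congr rfl fun q _ => by rw [ENat.toNat_mul, ENat.toNat_natCast])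
  exact fun q _ => WithTop.mul_ne_top (ENat.natCast_ne_top _)
      (ord_lt_top A q (loc_mem_nonZeroDivisors q (mem_nonZeroDivisors_of_ne_zero hz))).ne

/-- The residue of the norm. -/
theorem residue_norm [Fintype (MaximalSpectrum B)] {ϖ : A} (hϖ : maximalIdeal A = Ideal.span {ϖ}) (z : B) :
    residue A (Algebra.norm A z) = ∏ q : MaximalSpectrum B, Nres A q z ^
      (Ring.ord (Localization.AtPrime q.asIdeal)
        (algebraMap B (Localization.AtPrime q.asIdeal) (algebraMap A B ϖ))).toNat := by
  classical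
  let J := (maximalIdeal A).map (algebraMap A B)
  letI : Algebra (ResidueField A) (B ⧸ J) := (show Algebra (A ⧸ maximalIdeal A) (B ⧸ J) from inferInstance)
  haveI : IsScalarTower A (ResidueField A) (B ⧸ J) := IsScalarTower.of_algebraMap_eq fun _ => rfl
  haveI : Module.Finite (ResidueField A) (B ⧸ J) := Module.Finite.of_restrictScalars_finite A _ _
  let b := Module.Free.chooseBasis A B
  let bQ : Module.Basis _ (ResidueField A) (B ⧸ J) := IsLocalRing.basisQuotient b
  have hbQ : ∀ i, bQ i = Ideal.Quotient.mk J (b i) := IsLocalRing.basisQuotient_apply b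
  have hrepr : ∀ x i, bQ.repr (Ideal.Quotient.mk J x) i = residue A (b.repr x i) :=
    fun x i => IsLocalRing.basisQuotient_repr b x i
  have hdet : LinearMap.det (mulK A z (B ⧸ J)) = residue A (Algebra.norm A z) := by
    rw [← LinearMap.det_toMatrix bQ, Algebra.norm_eq_matrix_det b, RingHom.map_det]
    refine congrArg _ ?_
    ext i j
    rw [LinearMap.toMatrix_apply, RingHom.mapMatrix_apply, Matrix.map_apply, Algebra.leftMulMatrix_eq_repr_mul, hbQ]
    exact hrepr (z * b j) i
  rw [← hdet, det_smul_eq_prod A z (B ⧸ J)]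
  refine Finset.prod_congr rfl fun q _ => ?_
  rw [Nres]
  congr 2
  rw [localizedQuot_length, Ring.ord]
  exact (Submodule.quotEquivOfEq _ _ (by simp only [J, hϖ, Ideal.map_span, Set.image_singleton])).length_eq

variable {A}

theorem Nres_algebraMap (q : MaximalSpectrum B) (hdeg : deg A q = 1) (x : A) :
    Nres A q (algebraMap A B x) = residue A x := by
  have h : residue (Localization.AtPrime q.asIdeal) (algebraMap B _ (algebraMap A B x)) =
      algebraMap (ResidueField A) _ (residue A x) := by
    rw [← IsScalarTower.algebraMap_apply A B (Localization.AtPrime q.asIdeal)]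
    rfl
  rw [Nres, h, Algebra.norm_algebraMap, show Module.finrank (ResidueField A) _ = 1 from hdeg, pow_one]

variable (A) in
/-- The product of the norms of the symbols over the maximal ideals. -/
noncomputable def upSym [Fintype (MaximalSpectrum B)] (f : B) (g : A) : ResidueField A :=
  ∏ q : MaximalSpectrum B, Algebra.norm (ResidueField A)
    (CycAlg.tameSymbol (Localization.AtPrime q.asIdeal) (algebraMap B _ f) (algebraMap B _ (algebraMap A B g)))

theorem compat_unit [Fintype (MaximalSpectrum B)] (hdeg : ∀ q : MaximalSpectrum B, deg A q = 1) {f : B} (hf : f ≠ 0)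
    (c : Aˣ) : upSym A f (c : A) = CycAlg.tameSymbol A (Algebra.norm A f) (c : A) := by
  rw [tameSymbol_unit_right _ c (mem_nonZeroDivisors_of_ne_zero (norm_ne_zero' A hf)),
    show Module.length A (A ⧸ Ideal.span {Algebra.norm A f}) = Ring.ord A (Algebra.norm A f) from rfl,
    length_quot_eq_sum A hf, ← Finset.prod_pow_eq_pow_sum, ← Finset.prod_inv_distrib]
  refine Finset.prod_congr rfl fun q _ => ?_
  haveI : IsNoetherianRing B := isNoetherian_of_tower A inferInstance
  haveI := krullDimLE_atPrime A q
  obtain ⟨cu, hcu⟩ := (c.isUnit.map (algebraMap A B)).map (algebraMap B (Localization.AtPrime q.asIdeal))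
  rw [← hcu, tameSymbol_unit_right _ cu (loc_mem_nonZeroDivisors q (mem_nonZeroDivisors_of_ne_zero hf)), hcu,
    Algebra.norm_inv, map_pow, hdeg q, one_mul]
  congr 2
  exact Nres_algebraMap q (hdeg q) _

theorem compat_uniformizer_unit [Fintype (MaximalSpectrum B)] {ϖ : A} (hϖ : maximalIdeal A = Ideal.span {ϖ})
    (hϖ0 : ϖ ≠ 0) (hinj : Function.Injective (algebraMap A B)) {f : B} (hf : IsUnit f) :
    upSym A f ϖ = CycAlg.tameSymbol A (Algebra.norm A f) ϖ := by
  obtain ⟨N, hN⟩ := hf.map (Algebra.norm A)
  rw [← hN, tameSymbol_unit N ϖ (mem_nonZeroDivisors_of_ne_zero hϖ0), hN, ← hϖ,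
    length_quot_maximalIdeal A,
    ENat.toNat_one, pow_one, residue_norm A hϖ f]
  refine Finset.prod_congr rfl fun q _ => ?_
  haveI : IsNoetherianRing B := isNoetherian_of_tower A inferInstance
  haveI := krullDimLE_atPrime A q
  obtain ⟨fu, hfu⟩ := hf.map (algebraMap B (Localization.AtPrime q.asIdeal))
  rw [← hfu, tameSymbol_unit fu _ (loc_mem_nonZeroDivisors q (mem_nonZeroDivisors_of_ne_zero fun h => hϖ0 (hinj (h.trans (map_zero _).symm)))),
    hfu, map_pow]
  rfl

theorem compat_uniformizer_prime [Fintype (MaximalSpectrum B)] [Infinite (ResidueField A)]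
    (hdeg : ∀ q : MaximalSpectrum B, deg A q = 1) {ϖ : A} (hϖ : maximalIdeal A = Ideal.span {ϖ})
    (hϖ0 : ϖ ≠ 0) (hinj : Function.Injective (algebraMap A B)) {p : B} (q₀ : MaximalSpectrum B)
    (hp : q₀.asIdeal = Ideal.span {p}) :
    upSym A p ϖ = CycAlg.tameSymbol A (Algebra.norm A p) ϖ := by
  classical
  haveI : IsNoetherianRing B := isNoetherian_of_tower A inferInstance
  haveI := fun q : MaximalSpectrum B => krullDimLE_atPrime A q
  have hϖn := mem_nonZeroDivisors_of_ne_zero hϖ0
  have hϖB : algebraMap A B ϖ ≠ 0 := fun h => hϖ0 (hinj (h.trans (map_zero _).symm))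
  have hϖmax : ∀ q : MaximalSpectrum B, algebraMap A B ϖ ∈ q.asIdeal := fun q => by
    haveI := q.isMaximal
    exact algebraMap_mem_max A q.asIdeal (by rw [hϖ]; exact Ideal.mem_span_singleton_self ϖ)
  have hp0 : p ≠ 0 := fun h => hϖB (by
    have := hϖmax q₀
    rw [hp, h, Ideal.span_singleton_zero, Ideal.mem_bot] at this
    exact this)
  have hpq : ∀ q, q ≠ q₀ → IsUnit (algebraMap B (Localization.AtPrime q.asIdeal) p) := fun q hq => by
    haveI := q.isMaximal
    refine (IsLocalization.AtPrime.isUnit_to_map_iff (Localization.AtPrime q.asIdeal) q.asIdeal p).2 fun h => hq ?_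
    exact MaximalSpectrum.ext (q₀.isMaximal.eq_of_le q.isMaximal.ne_top
      (by rw [hp]; exact (Ideal.span_singleton_le_iff_mem _).2 h)).symm
  let S := Localization.AtPrime q₀.asIdeal
  set π := algebraMap B S p with hπdef
  have hπn : π ∈ nonZeroDivisors S := loc_mem_nonZeroDivisors q₀ (mem_nonZeroDivisors_of_ne_zero hp0)
  have hπmax : maximalIdeal S = Ideal.span {π} := by
    rw [← Localization.AtPrime.map_eq_maximalIdeal (I := q₀.asIdeal), hπdef, ← Set.image_singleton, ← Ideal.map_span, ← hp]
  have hordπ : Ring.ord S π = 1 := by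
    rw [Ring.ord, ← hπmax, length_quot_maximalIdeal S]
  let E : MaximalSpectrum B → ℕ := fun q =>
    (Ring.ord (Localization.AtPrime q.asIdeal) (algebraMap B _ (algebraMap A B ϖ))).toNat
  -- the value at `q₀`
  have hfin : Ring.ord S (algebraMap B S (algebraMap A B ϖ)) < ⊤ :=
    ord_lt_top A q₀ (loc_mem_nonZeroDivisors q₀ (mem_nonZeroDivisors_of_ne_zero hϖB))
  have hfac : ∀ (n : ℕ) (x : S), Ring.ord S x = n → ∃ u : Sˣ, x = (u : S) * π ^ n := by
    intro n
    induction n with
    | zero =>
      intro x hx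
      rw [Nat.cast_zero, Ring.ord, Module.length_eq_zero_iff, Submodule.Quotient.subsingleton_iff,
        Ideal.span_singleton_eq_top] at hx
      exact ⟨hx.unit, by rw [pow_zero, mul_one]; rfl⟩
    | succ n ih =>
      intro x hx
      have hxm : x ∈ maximalIdeal S := fun hu => by
        rw [Ring.ord_of_isUnit hu] at hx
        exact Nat.succ_ne_zero n (by exact_mod_cast hx.symm)
      rw [hπmax] at hxm
      obtain ⟨y, rfl⟩ := Ideal.mem_span_singleton'.1 hxm
      rw [Ring.ord_mul S hπn, hordπ, Nat.cast_succ] at hx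
      obtain ⟨u, rfl⟩ := ih y ((WithTop.add_right_inj ENat.one_ne_top).1 hx)
      exact ⟨u, by rw [pow_succ, mul_assoc]⟩
  obtain ⟨c, hc⟩ := hfac (E q₀) _ (ENat.natCast_toNat hfin.ne).symm
  set e := E q₀ with hedef
  have he : 0 < e := by
    refine Nat.pos_of_ne_zero fun h0 => ?_
    rw [h0, pow_zero, mul_one] at hc
    haveI := q₀.isMaximal
    exact (IsLocalization.AtPrime.isUnit_to_map_iff S q₀.asIdeal _).1 (hc ▸ c.isUnit) (hϖmax q₀)
  -- the characteristic polynomial modulo `ϖ`
  let b := Module.Free.chooseBasis A B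
  let P : A[X] := (Algebra.leftMulMatrix b p).charpoly
  have hPeval : ∀ t : A, P.eval t = Algebra.norm A (algebraMap A B t - p) := fun t => by
    rw [Matrix.eval_charpoly, Algebra.norm_eq_matrix_det b, map_sub, AlgHom.commutes, Matrix.algebraMap_eq_diagonal]
    rfl
  let w : MaximalSpectrum B → ResidueField A := fun q => Nres A q p
  have hlin : ∀ (q : MaximalSpectrum B) (t : A), Nres A q (algebraMap A B t - p) = residue A t - w q := by
    intro q t
    haveI : IsLocalHom (algebraMap A (Localization.AtPrime q.asIdeal)) := isLocalHom_atPrime A q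
    have hsurj : Function.Surjective (algebraMap (ResidueField A) (ResidueField (Localization.AtPrime q.asIdeal))) :=
      (bijective_algebraMap_of_linearEquiv
        (LinearEquiv.ofFinrankEq (ResidueField A) _ ((Module.finrank_self _).trans (hdeg q).symm))).2
    obtain ⟨k, hk⟩ := hsurj (residue (Localization.AtPrime q.asIdeal) (algebraMap B _ p))
    have hw : w q = k := by
      show Algebra.norm (ResidueField A) _ = k
      rw [← hk, Algebra.norm_algebraMap, show Module.finrank (ResidueField A) _ = 1 from hdeg q, pow_one]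
    rw [hw, Nres, map_sub, map_sub, ← hk,
      show residue (Localization.AtPrime q.asIdeal) (algebraMap B _ (algebraMap A B t)) =
        algebraMap (ResidueField A) _ (residue A t) by
          rw [← IsScalarTower.algebraMap_apply A B (Localization.AtPrime q.asIdeal)]; rfl,
      ← map_sub, Algebra.norm_algebraMap, show Module.finrank (ResidueField A) _ = 1 from hdeg q, pow_one]
  have hw₀ : w q₀ = 0 := by
    haveI : IsLocalHom (algebraMap A S) := isLocalHom_atPrime A q₀
    show Algebra.norm (ResidueField A) (residue S π) = 0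
    rw [(IsLocalRing.residue_eq_zero_iff π).2 (by rw [hπmax]; exact Ideal.mem_span_singleton_self π), Algebra.norm_zero]
  let R : (ResidueField A)[X] := ∏ q ∈ Finset.univ.erase q₀, (X - C (w q)) ^ E q
  have hPbar : P.map (residue A) = X ^ e * R := by
    refine Polynomial.funext fun s => ?_
    obtain ⟨t, rfl⟩ := IsLocalRing.residue_surjective s
    rw [Polynomial.eval_map, Polynomial.eval₂_at_apply, hPeval, residue_norm A hϖ,
      ← Finset.mul_prod_erase Finset.univ _ (Finset.mem_univ q₀), eval_mul, eval_pow, eval_X, eval_prod]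
    congr 1
    · rw [hlin, hw₀, sub_zero]
    · exact Finset.prod_congr rfl fun q _ => by rw [hlin, eval_pow, eval_sub, eval_X, eval_C]
  -- split `P`
  set L := P %ₘ X ^ e with hLdef
  set H := P /ₘ X ^ e with hHdef
  have hXm : (X ^ e : A[X]).Monic := monic_X_pow e
  have hPsplit : L + X ^ e * H = P := Polynomial.modByMonic_add_div P _
  have hLbar : L.map (residue A) = 0 := by
    rw [hLdef, Polynomial.map_modByMonic _ hXm, Polynomial.map_pow, map_X, hPbar]
    exact (Polynomial.modByMonic_eq_zero_iff_dvd (monic_X_pow e)).2 (dvd_mul_right _ _)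
  have hHbar : H.map (residue A) = R := by
    rw [hHdef, Polynomial.map_divByMonic _ hXm, Polynomial.map_pow, map_X, hPbar]
    exact Polynomial.mul_divByMonic_cancel_left _ (monic_X_pow e)
  obtain ⟨L', hL'⟩ : C ϖ ∣ L := by
    rw [Polynomial.C_dvd_iff_dvd_coeff]
    intro i
    have h : residue A (L.coeff i) = 0 := by rw [← Polynomial.coeff_map, hLbar, Polynomial.coeff_zero]
    rw [IsLocalRing.residue_eq_zero_iff, hϖ] at h
    exact Ideal.mem_span_singleton.1 h
  set b₀ := L'.coeff 0 with hb₀
  have hP0 : P.coeff 0 = ϖ * b₀ := by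
    rw [← hPsplit, coeff_add, hL', coeff_C_mul, coeff_X_pow_mul', if_neg (by omega), add_zero]
  set n := Fintype.card (Module.Free.ChooseBasisIndex A B)
  have hnorm : Algebra.norm A p = ϖ * ((-1) ^ n * b₀) := by
    rw [Algebra.norm_eq_matrix_det b, Matrix.det_eq_sign_charpoly_coeff]
    show (-1) ^ n * P.coeff 0 = _
    rw [hP0]; ring
  have hordN : (Ring.ord A (Algebra.norm A p)).toNat = 1 := by
    rw [length_quot_eq_sum A hp0, Finset.sum_eq_single q₀ (fun q _ hq => by
      rw [Ring.ord_of_isUnit (hpq q hq), ENat.toNat_zero, mul_zero]) (by simp), hdeg q₀, one_mul]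
    show (Ring.ord S π).toNat = 1
    rw [hordπ, ENat.toNat_one]
  have hordϖ : Ring.ord A ϖ = 1 := by
    rw [Ring.ord, ← hϖ, length_quot_maximalIdeal A]
  have hb₀n : (-1) ^ n * b₀ ∈ nonZeroDivisors A := mem_nonZeroDivisors_of_ne_zero fun h => by
    rw [hnorm, h, mul_zero] at hordN
    exact norm_ne_zero' A hp0 (by rw [hnorm, h, mul_zero])
  have hvu : IsUnit ((-1) ^ n * b₀) := by
    have h := hordN
    rw [hnorm, Ring.ord_mul A hb₀n, hordϖ, ENat.toNat_add ENat.one_ne_top (Ring.ord_ne_top hb₀n), ENat.toNat_one] at h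
    have h0 : Ring.ord A ((-1) ^ n * b₀) = 0 := by
      rw [← ENat.natCast_toNat (Ring.ord_ne_top hb₀n), Nat.cast_eq_zero]; omega
    rw [Ring.ord, Module.length_eq_zero_iff, Submodule.Quotient.subsingleton_iff, Ideal.span_singleton_eq_top] at h0
    exact h0
  -- the relation at `q₀`
  have hroot : Polynomial.aeval p P = 0 :=
    (Algebra.leftMulMatrix_injective b) (by
      rw [← Polynomial.aeval_algHom_apply, Matrix.aeval_self_charpoly, map_zero])
  have hrel : algebraMap B S (algebraMap A B ϖ) * algebraMap B S (aeval p L') +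
      π ^ e * algebraMap B S (aeval p H) = 0 := by
    have h := congrArg (algebraMap B S) hroot
    rw [map_zero, ← hPsplit, hL', map_add, map_mul, map_mul, map_pow, aeval_C, aeval_X, map_add, map_mul, map_mul,
      map_pow] at h
    exact h
  have hrel' : (c : S) * algebraMap B S (aeval p L') + algebraMap B S (aeval p H) = 0 := by
    refine (mul_cancel_left_mem_nonZeroDivisors (pow_mem hπn e)).1 ?_
    rw [mul_zero, ← hrel, hc]; ring
  haveI : IsLocalHom (algebraMap A S) := isLocalHom_atPrime A q₀
  have hres : ∀ G : A[X], residue S (algebraMap B S (aeval p G)) =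
      algebraMap (ResidueField A) (ResidueField S) (residue A (G.coeff 0)) := by
    intro G
    have h1 : residue S (algebraMap B S (aeval p G)) = aeval (residue S π) G := by
      rw [← Polynomial.aeval_algebraMap_apply]
      exact (Polynomial.aeval_algebraMap_apply (ResidueField S) π G).symm
    rw [h1, (IsLocalRing.residue_eq_zero_iff π).2 (by rw [hπmax]; exact Ideal.mem_span_singleton_self π),
      ← Polynomial.coeff_zero_eq_aeval_zero']
    rfl
  set Nc := Algebra.norm (ResidueField A) (residue S (c : S)) with hNc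
  have hrel'' : Nc * residue A b₀ = - residue A (H.coeff 0) := by
    have h := congrArg (residue S) (eq_neg_of_add_eq_zero_left hrel')
    rw [map_mul, map_neg, hres, hres, ← map_neg] at h
    have h' := congrArg (Algebra.norm (ResidueField A)) h
    rw [map_mul, Algebra.norm_algebraMap, Algebra.norm_algebraMap, show Module.finrank (ResidueField A) _ = 1 from hdeg q₀,
      pow_one, pow_one] at h'
    exact h'
  have hH0 : residue A (H.coeff 0) = ∏ q ∈ Finset.univ.erase q₀, (-w q) ^ E q := by
    rw [← Polynomial.coeff_map, hHbar, Polynomial.coeff_zero_eq_eval_zero, eval_prod]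
    exact Finset.prod_congr rfl fun q _ => by rw [eval_pow, eval_sub, eval_X, eval_C, zero_sub]
  have hn : n = e + ∑ q ∈ Finset.univ.erase q₀, E q := by
    have h := congrArg Polynomial.natDegree hPbar
    rw [(Matrix.charpoly_monic _).natDegree_map, Matrix.charpoly_natDegree_eq_dim] at h
    refine Eq.trans h ?_
    rw [Polynomial.natDegree_mul (pow_ne_zero e X_ne_zero), Polynomial.natDegree_X_pow,
      Polynomial.natDegree_prod_of_monic _ _ fun q _ => (monic_X_sub_C (w q)).pow _]
    · exact congrArg _ (Finset.sum_congr rfl fun q _ => by rw [natDegree_pow, natDegree_X_sub_C, mul_one])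
    · exact (Polynomial.monic_prod_of_monic _ _ fun q _ => (monic_X_sub_C (w q)).pow _).ne_zero
  -- right side
  obtain ⟨v, hv⟩ := hvu
  have hR : CycAlg.tameSymbol A (Algebra.norm A p) ϖ = (-1) ^ n * residue A b₀ * -1 := by
    rw [hnorm, ← hv, mul_comm ϖ, tameSymbol_mul_left (v : A) ϖ ϖ v.isUnit.mem_nonZeroDivisors hϖn hϖn,
      tameSymbol_unit v ϖ hϖn, tameSymbol_self ϖ hϖn,
      show Module.length A (A ⧸ Ideal.span {ϖ}) = 1 from hordϖ, ENat.toNat_one, pow_one, pow_one, hv, map_mul,
      map_pow, map_neg, map_one]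
  -- left side
  have hL : ∀ q ∈ Finset.univ.erase q₀, Algebra.norm (ResidueField A)
      (CycAlg.tameSymbol (Localization.AtPrime q.asIdeal) (algebraMap B _ p) (algebraMap B _ (algebraMap A B ϖ))) =
      w q ^ E q := by
    intro q hq
    obtain ⟨pu, hpu⟩ := hpq q (Finset.ne_of_mem_erase hq)
    rw [← hpu, tameSymbol_unit pu _ (loc_mem_nonZeroDivisors q (mem_nonZeroDivisors_of_ne_zero hϖB)), hpu, map_pow]
    rfl
  have hL₀ : Algebra.norm (ResidueField A) (CycAlg.tameSymbol S π (algebraMap B S (algebraMap A B ϖ))) =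
      Nc⁻¹ * (-1) ^ e := by
    rw [hc, tameSymbol_mul_right π (c : S) (π ^ e) hπn c.isUnit.mem_nonZeroDivisors (pow_mem hπn e),
      tameSymbol_unit_right π c hπn, tameSymbol_pow_right π π hπn hπn, tameSymbol_self π hπn,
      show Module.length S (S ⧸ Ideal.span {π}) = 1 from hordπ, ENat.toNat_one, pow_one, pow_one, map_mul,
      Algebra.norm_inv, map_pow, show (-1 : ResidueField S) = algebraMap (ResidueField A) _ (-1) by simp,
      Algebra.norm_algebraMap, show Module.finrank (ResidueField A) _ = 1 from hdeg q₀, pow_one]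
  rw [upSym, ← Finset.mul_prod_erase Finset.univ _ (Finset.mem_univ q₀), Finset.prod_congr rfl hL, hR]
  show Algebra.norm (ResidueField A) (CycAlg.tameSymbol S π _) * _ = _
  rw [hL₀]
  have hc0 : Nc ≠ 0 := Algebra.norm_ne_zero_iff.2 (residue_ne_zero c)
  have hW : ∏ q ∈ Finset.univ.erase q₀, (-w q) ^ E q =
      (-1) ^ (∑ q ∈ Finset.univ.erase q₀, E q) * ∏ q ∈ Finset.univ.erase q₀, w q ^ E q := by
    rw [← Finset.prod_pow_eq_pow_sum, ← Finset.prod_mul_distrib]
    exact Finset.prod_congr rfl fun q _ => by rw [← mul_pow, neg_one_mul]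
  rw [hH0, hW] at hrel''
  rw [hn, pow_add]
  set s : ResidueField A := (-1) ^ (∑ q ∈ Finset.univ.erase q₀, E q) with hs
  have hs2 : s * s = 1 := by rw [hs, ← mul_pow, neg_mul_neg, one_mul, one_pow]
  field_simp
  linear_combination s * hrel'' - (∏ q ∈ Finset.univ.erase q₀, w q ^ E q) * hs2

/-- Norm compatibility. -/
theorem tameSymbol_norm_compat [Fintype (MaximalSpectrum B)] [IsPrincipalIdealRing B] [Infinite (ResidueField A)]
    (hdeg : ∀ q : MaximalSpectrum B, deg A q = 1) (hinj : Function.Injective (algebraMap A B))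
    {f : B} (hf : f ≠ 0) {g : A} (hg : g ≠ 0) :
    upSym A f g = CycAlg.tameSymbol A (Algebra.norm A f) g := by
  classical
  haveI : IsNoetherianRing B := isNoetherian_of_tower A inferInstance
  haveI := fun q : MaximalSpectrum B => krullDimLE_atPrime A q
  obtain ⟨ϖ, hϖirr⟩ := IsDiscreteValuationRing.exists_irreducible A
  have hϖ := hϖirr.maximalIdeal_eq
  have hϖ0 := hϖirr.ne_zero
  have hup : ∀ {f₁ f₂ : B}, f₁ ≠ 0 → f₂ ≠ 0 → upSym A (f₁ * f₂) ϖ = upSym A f₁ ϖ * upSym A f₂ ϖ := by
    intro f₁ f₂ h₁ h₂
    rw [upSym, upSym, upSym, ← Finset.prod_mul_distrib]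
    refine Finset.prod_congr rfl fun q _ => ?_
    rw [map_mul, tameSymbol_mul_left _ _ _ (loc_mem_nonZeroDivisors q (mem_nonZeroDivisors_of_ne_zero h₁))
      (loc_mem_nonZeroDivisors q (mem_nonZeroDivisors_of_ne_zero h₂))
      (loc_mem_nonZeroDivisors q (mem_nonZeroDivisors_of_ne_zero fun h => hϖ0 (hinj (h.trans (map_zero _).symm)))),
      map_mul]
  have hunif : upSym A f ϖ = CycAlg.tameSymbol A (Algebra.norm A f) ϖ := by
    revert hf
    induction f using UniqueFactorizationMonoid.induction_on_prime with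
    | h₁ => exact fun h => absurd rfl h
    | h₂ x hx => exact fun _ => compat_uniformizer_unit hϖ hϖ0 hinj hx
    | h₃ a p ha hp ih =>
      intro _
      haveI hpp : (Ideal.span {p}).IsPrime := (Ideal.span_singleton_prime hp.ne_zero).2 hp
      have hm : (Ideal.span {p}).IsMaximal :=
        IsPrime.to_maximal_ideal (mt Ideal.span_singleton_eq_bot.1 hp.ne_zero)
      rw [hup hp.ne_zero ha, map_mul, tameSymbol_mul_left _ _ _
          (mem_nonZeroDivisors_of_ne_zero (norm_ne_zero' A hp.ne_zero))
          (mem_nonZeroDivisors_of_ne_zero (norm_ne_zero' A ha)) (mem_nonZeroDivisors_of_ne_zero hϖ0),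
        ih ha, compat_uniformizer_prime hdeg hϖ hϖ0 hinj ⟨_, hm⟩ rfl]
  obtain ⟨m, c, rfl⟩ := IsDiscreteValuationRing.eq_unit_mul_pow_irreducible hg hϖirr
  have hN := mem_nonZeroDivisors_of_ne_zero (norm_ne_zero' A hf)
  rw [tameSymbol_mul_right _ (c : A) (ϖ ^ m) hN c.isUnit.mem_nonZeroDivisors
      (pow_mem (mem_nonZeroDivisors_of_ne_zero hϖ0) m),
    tameSymbol_pow_right _ ϖ hN (mem_nonZeroDivisors_of_ne_zero hϖ0), ← compat_unit hdeg hf c, ← hunif,
    upSym, upSym, upSym, ← Finset.prod_pow, ← Finset.prod_mul_distrib]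
  refine Finset.prod_congr rfl fun q _ => ?_
  have hfq := loc_mem_nonZeroDivisors q (mem_nonZeroDivisors_of_ne_zero hf)
  have hϖq := loc_mem_nonZeroDivisors q
    (mem_nonZeroDivisors_of_ne_zero fun h : algebraMap A B ϖ = 0 => hϖ0 (hinj (h.trans (map_zero _).symm)))
  rw [map_mul, map_mul, map_pow, map_pow,
    tameSymbol_mul_right _ _ _ hfq ((c.isUnit.map (algebraMap A B)).map _).mem_nonZeroDivisors (pow_mem hϖq m),
    tameSymbol_pow_right _ _ hfq hϖq, map_mul, map_pow]

end TameLib
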