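import Mathlib
import Groth.Prelude.Def_Tame
import Groth.Agent.TameLib.Main

/-! # The tame symbol of `A` through the localisations of a finite extension -/

set_option autoImplicit false
set_option linter.style.haveILetI false
set_option linter.unusedSectionVars false
set_option maxHeartbeats 1000000

universe u

open IsLocalRing

namespace TameLib

theorem ord_ringEquiv {R S : Type u} [CommRing R] [CommRing S] (e : R ≃+* S) (a : R) :
    Ring.ord S (e a) = Ring.ord R a := by
  letI := e.toRingHom.toAlgebra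
  let f : R ≃ₗ[R] S := LinearEquiv.ofBijective (Algebra.linearMap R S) e.bijective
  have hmap : Submodule.map (f : R →ₗ[R] S) (Ideal.span {a}) = (Ideal.span {e a}).restrictScalars R := by
    refine le_antisymm (Submodule.map_le_iff_le_comap.2 fun r hr => ?_) fun s hs' => ?_
    · obtain ⟨c, rfl⟩ := Ideal.mem_span_singleton'.1 hr
      exact Ideal.mem_span_singleton'.2 ⟨e c, (map_mul e c a).symm⟩
    · obtain ⟨c, rfl⟩ := Ideal.mem_span_singleton'.1 (show s ∈ Ideal.span {e a} from hs')
      exact ⟨e.symm c * a, Ideal.mem_span_singleton'.2 ⟨_, rfl⟩,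
        (map_mul e _ a).trans (by rw [e.apply_symm_apply])⟩
  have q := (Submodule.Quotient.equiv _ _ f hmap).trans
    (Submodule.Quotient.restrictScalarsEquiv R (Ideal.span {e a}))
  rw [Ring.ord, Ring.ord]
  exact (Module.length_eq_of_surjective (show Function.Surjective (algebraMap R S) from e.surjective)).symm.trans q.length_eq.symm

theorem tameSymbol_eq_value {A : Type u} [CommRing A] [IsLocalRing A] [IsNoetherianRing A] [Ring.KrullDimLE 1 A]
    {a₁ a₂ : A} (h₁ : a₁ ∈ nonZeroDivisors A) (h₂ : a₂ ∈ nonZeroDivisors A) (D : CycAlg.TameData A a₁ a₂) :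
    CycAlg.tameSymbol A a₁ a₂ = D.value := by
  obtain ⟨C₁, hC₁, e₁⟩ := tameSymbol_eventually a₁ a₂ h₁ h₂
  obtain ⟨C₂, hC₂, e₂⟩ := value_eventually h₁ h₂ D
  haveI := finite_sup_subalgebra C₁ C₂
  obtain ⟨C, _, _, _, f, hf, hr⟩ := exists_carrier (C₁ ⊔ C₂)
  obtain ⟨v, hv, he⟩ := e₁ C f hf (le_sup_left.trans hr.ge)
  rw [he, (e₂ C f hf (le_sup_right.trans hr.ge)).2 v hv]

/-- A finite extension with coherent cokernel on which `t₀` is regular embeds in the total fraction ring. -/
theorem embed_of_isFinExt {A B : Type u} [CommRing A] [IsLocalRing A] [IsNoetherianRing A] [Ring.KrullDimLE 1 A]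
    [CommRing B] [Algebra A B] (hB : CycAlg.IsFinExt A B (maximalIdeal A)) (t₀ : A) (ht₀ : t₀ ∈ nonZeroDivisors A)
    (htm : t₀ ∈ maximalIdeal A) (htB : algebraMap A B t₀ ∈ nonZeroDivisors B) :
    ∃ ι : B →ₐ[A] Tot A, Function.Injective ι := by
  obtain ⟨hinj, -, n, hn⟩ := hB
  have hreg : algebraMap A B t₀ ^ n ∈ nonZeroDivisors B := pow_mem htB n
  rw [← map_pow] at hreg
  set t : A := t₀ ^ n with htdef
  have ht : t ∈ maximalIdeal A ^ n := Ideal.pow_mem_pow htm n
  have htn : t ∈ nonZeroDivisors A := pow_mem ht₀ n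
  choose r hr using fun b => hn t ht b
  have hr' : ∀ b, algebraMap A B (r b) = algebraMap A B t * b := fun b => (hr b).trans (Algebra.smul_def _ _)
  obtain ⟨w, hw⟩ := isUnit_map t htn
  let i : B → Tot A := fun b => algebraMap A (Tot A) (r b) * ↑w⁻¹
  have hi : ∀ b, i b * algebraMap A (Tot A) t = algebraMap A (Tot A) (r b) := fun b => by
    rw [← hw]; exact Units.inv_mul_cancel_right _ w
  have hcancel : ∀ x y : Tot A, x * algebraMap A (Tot A) t = y * algebraMap A (Tot A) t → x = y := fun x y h => by
    rw [← hw] at h; exact w.mul_left_inj.1 h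
  have hr1 : ∀ a : A, r (algebraMap A B a) = t * a := fun a => hinj (by rw [hr', map_mul])
  let ι : B →ₐ[A] Tot A :=
    { toFun := i
      map_one' := hcancel _ _ (by rw [hi, one_mul, ← map_one (algebraMap A B), hr1, mul_one])
      map_mul' := fun x y => by
        have h : r (x * y) * t = r x * r y := hinj (by rw [map_mul, map_mul, hr', hr', hr']; ring)
        refine hcancel _ _ (hcancel _ _ ?_)
        rw [hi, ← map_mul, h, map_mul, ← hi x, ← hi y]
        ring
      map_zero' := hcancel _ _ (by rw [hi, zero_mul, ← map_zero (algebraMap A B), hr1, mul_zero, map_zero])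
      map_add' := fun x y => by
        refine hcancel _ _ ?_
        rw [hi, add_mul, hi, hi, ← map_add]
        exact congrArg _ (hinj (by rw [map_add, hr', hr', hr', mul_add]))
      commutes' := fun a => hcancel _ _ (by rw [hi, hr1, map_mul, mul_comm]) }
  refine ⟨ι, fun x y h => ?_⟩
  have h' : r x = r y := IsLocalization.injective (Tot A) le_rfl (by rw [← hi x, ← hi y]; exact congrArg (· * _) h)
  exact (mul_cancel_left_mem_nonZeroDivisors hreg).1 (by rw [← hr', ← hr', h'])

variable {A : Type u} [CommRing A] [IsLocalRing A] [IsNoetherianRing A] [Ring.KrullDimLE 1 A]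
  {B C : Type u} [CommRing B] [Algebra A B] [Module.Finite A B] [CommRing C] [Algebra A C] [Module.Finite A C]
  [Algebra B C] [IsScalarTower A B C]

/-- The norm to `A` of the symbol at one localisation of `B`, computed in `C`. -/
theorem norm_tameSymbol_atPrime (j : MaximalSpectrum B) (hinj : Function.Injective (algebraMap B C)) (s : A)
    (hsB : algebraMap A B s ∈ nonZeroDivisors B) (hsC : ∀ c : C, ∃ b, algebraMap B C b = s • c) (a₁ a₂ : A)
    (h₁ : algebraMap A B a₁ ∈ nonZeroDivisors B) (h₂ : algebraMap A B a₂ ∈ nonZeroDivisors B)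
    (hsep : ∀ l : MaximalSpectrum C, ∃ π : C, π ∈ nonZeroDivisors C ∧ ∀ x ∈ ({a₁, a₂} : Multiset A),
      ∃ (u : (Localization.AtPrime l.asIdeal)ˣ) (e : ℕ), algebraMap A (Localization.AtPrime l.asIdeal) x =
        (u : Localization.AtPrime l.asIdeal) * algebraMap C (Localization.AtPrime l.asIdeal) π ^ e)
    (h₂C : algebraMap A C a₂ ∈ nonZeroDivisors C)
    (v : (l : MaximalSpectrum C) → ResidueField (Localization.AtPrime l.asIdeal))
    (hv : ∀ l, IsSym (algebraMap A (Localization.AtPrime l.asIdeal) a₁)
      (algebraMap A (Localization.AtPrime l.asIdeal) a₂) (v l))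
    [Fintype (MaximalSpectrum C)] [DecidableEq (Ideal B)] :
    Algebra.norm (ResidueField A) (CycAlg.tameSymbol (Localization.AtPrime j.asIdeal)
        (algebraMap A (Localization.AtPrime j.asIdeal) a₁) (algebraMap A (Localization.AtPrime j.asIdeal) a₂)) =
      ∏ l ∈ Finset.univ.filter (fun l : MaximalSpectrum C => l.asIdeal.comap (algebraMap B C) = j.asIdeal),
        Algebra.norm (ResidueField A) (v l) := by
  classical
  haveI := j.isMaximal
  let Bj := Localization.AtPrime j.asIdeal
  let Sj := Localization (Algebra.algebraMapSubmonoid C j.asIdeal.primeCompl)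
  haveI : IsNoetherianRing B := isNoetherian_of_tower A inferInstance
  haveI : Module.Finite B C := Module.Finite.of_restrictScalars_finite A B C
  haveI : Algebra.IsIntegral B C := Algebra.IsIntegral.of_finite B C
  haveI : Ring.KrullDimLE 1 Bj := krullDimLE_atPrime A j
  haveI hfinS : Module.Finite Bj Sj := Module.Finite.of_isLocalization B C j.asIdeal.primeCompl
  haveI : Algebra.IsIntegral Bj Sj := Algebra.IsIntegral.of_finite Bj Sj
  haveI := finite_maximalSpectrum Bj (B := Sj)
  haveI : Fintype (MaximalSpectrum Sj) := Fintype.ofFinite _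
  have hAS : ∀ x : A, algebraMap Bj Sj (algebraMap A Bj x) = algebraMap C Sj (algebraMap A C x) := fun x => by
    rw [IsScalarTower.algebraMap_apply A B Bj, ← IsScalarTower.algebraMap_apply B Bj Sj,
      IsScalarTower.algebraMap_apply B C Sj, ← IsScalarTower.algebraMap_apply A B C]
  -- maximal ideals of `Sj` are the maximal ideals of `C` over `j`
  have hcomapB : ∀ L : MaximalSpectrum Sj, (L.asIdeal.comap (algebraMap C Sj)).comap (algebraMap B C) = j.asIdeal := by
    intro L
    haveI := L.isMaximal
    rw [Ideal.comap_comap, ← IsScalarTower.algebraMap_eq, IsScalarTower.algebraMap_eq B Bj Sj, ← Ideal.comap_comap,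
      comap_max Bj L.asIdeal]
    exact IsLocalization.AtPrime.comap_maximalIdeal Bj j.asIdeal
  have hmaxC : ∀ L : MaximalSpectrum Sj, (L.asIdeal.comap (algebraMap C Sj)).IsMaximal := fun L => by
    refine Ideal.isMaximal_of_isIntegral_of_isMaximal_comap (R := B) _ ?_
    rw [hcomapB L]
    exact j.isMaximal
  let lOf : MaximalSpectrum Sj → MaximalSpectrum C := fun L => ⟨L.asIdeal.comap (algebraMap C Sj), hmaxC L⟩
  have hmu : ∀ J : Ideal Sj, Ideal.map (algebraMap C Sj) (J.comap (algebraMap C Sj)) = J := fun J =>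
    IsLocalization.map_under (Algebra.algebraMapSubmonoid C j.asIdeal.primeCompl) Sj J
  have hlinj : Function.Injective lOf := by
    intro L L' h
    have h' : L.asIdeal.comap (algebraMap C Sj) = L'.asIdeal.comap (algebraMap C Sj) :=
      congrArg MaximalSpectrum.asIdeal h
    refine MaximalSpectrum.ext ?_
    rw [← hmu L.asIdeal, ← hmu L'.asIdeal, h']
  have hlsurj : ∀ l : MaximalSpectrum C, l.asIdeal.comap (algebraMap B C) = j.asIdeal → ∃ L, lOf L = l := by
    intro l hl
    haveI := l.isMaximal
    have hd : Disjoint (Algebra.algebraMapSubmonoid C j.asIdeal.primeCompl : Set C) (l.asIdeal : Set C) := by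
      rw [Set.disjoint_left]
      rintro _ ⟨x, hx, rfl⟩ hxl
      exact hx (show x ∈ j.asIdeal by rw [← hl]; exact hxl)
    have hP := IsLocalization.isPrime_of_isPrime_disjoint (Algebra.algebraMapSubmonoid C j.asIdeal.primeCompl) Sj
      l.asIdeal inferInstance hd
    have hc : (l.asIdeal.map (algebraMap C Sj)).comap (algebraMap C Sj) = l.asIdeal :=
      IsLocalization.under_map_of_isPrime_disjoint (Algebra.algebraMapSubmonoid C j.asIdeal.primeCompl) Sj
        (I := l.asIdeal) inferInstance hd
    obtain ⟨L, hL, hle⟩ := Ideal.exists_le_maximal _ hP.ne_top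
    refine ⟨⟨L, hL⟩, MaximalSpectrum.ext ?_⟩
    refine (l.isMaximal.eq_of_le (Ideal.IsPrime.comap (algebraMap C Sj) (hK := hL.isPrime)).ne_top ?_).symm
    rw [← hc]
    exact Ideal.comap_mono hle
  -- the local identifications
  let φ : ∀ L : MaximalSpectrum Sj,
      Localization.AtPrime (lOf L).asIdeal ≃ₐ[C] Localization.AtPrime L.asIdeal := fun L =>
    IsLocalization.localizationLocalizationAtPrimeIsoLocalization _ L.asIdeal
  choose π₀ hπ₀ hfac using fun L => hsep (lOf L)
  choose u₁ e₁ f₁ using fun L => hfac L a₁ (by simp)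
  choose u₂ e₂ f₂ using fun L => hfac L a₂ (by simp)
  have hφA : ∀ L (x : A), φ L (algebraMap A _ x) = algebraMap Bj (Localization.AtPrime L.asIdeal) (algebraMap A Bj x) :=
    fun L x => by
    rw [IsScalarTower.algebraMap_apply A C (Localization.AtPrime (lOf L).asIdeal), AlgEquiv.commutes,
      IsScalarTower.algebraMap_apply Bj Sj (Localization.AtPrime L.asIdeal), hAS,
      ← IsScalarTower.algebraMap_apply C Sj (Localization.AtPrime L.asIdeal)]
  have hnzdA : ∀ x : A, algebraMap A B x ∈ nonZeroDivisors B → algebraMap A Bj x ∈ nonZeroDivisors Bj := fun x hx => by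
    rw [IsScalarTower.algebraMap_apply A B Bj]
    exact loc_mem_nonZeroDivisors j hx
  let D : CycAlg.TameData Bj (algebraMap A Bj a₁) (algebraMap A Bj a₂) :=
    { B := Sj
      isFinExt := by
        refine ⟨localizationAlgebra_injective (M := j.asIdeal.primeCompl) Bj Sj hinj, hfinS, ?_⟩
        obtain ⟨N, hN⟩ := exists_pow_le_span (hnzdA s hsB)
        refine ⟨N, fun r hr x => ?_⟩
        obtain ⟨w, rfl⟩ := Ideal.mem_span_singleton'.1 (hN hr)
        obtain ⟨c, ⟨_, m, hm, rfl⟩, rfl⟩ := IsLocalization.exists_mk'_eq (Algebra.algebraMapSubmonoid C j.asIdeal.primeCompl) x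
        obtain ⟨b, hb⟩ := hsC c
        refine ⟨w * IsLocalization.mk' Bj b ⟨m, hm⟩, ?_⟩
        rw [map_mul, IsLocalization.algebraMap_mk' C Bj Sj b ⟨m, hm⟩, Algebra.smul_def, map_mul, mul_assoc]
        congr 1
        rw [hAS s, IsLocalization.mul_mk'_eq_mk'_of_mul, hb, Algebra.smul_def]
      isLocalHom := fun L => isLocalHom_atPrime Bj L
      π := fun L => φ L (algebraMap C _ (π₀ L))
      π_mem := fun L => by
        have h := loc_mem_nonZeroDivisors (lOf L) (hπ₀ L)
        rw [mem_nonZeroDivisors_iff_right]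
        intro x hx
        have h0 : (φ L).symm x * algebraMap C (Localization.AtPrime (lOf L).asIdeal) (π₀ L) = 0 := by
          refine (φ L).injective ?_
          rw [map_mul, AlgEquiv.apply_symm_apply, map_zero]
          exact hx
        rw [← (φ L).apply_symm_apply x, mem_nonZeroDivisors_iff_right.1 h _ h0, map_zero]
      u₁ := fun L => Units.map (φ L).toRingEquiv.toRingHom.toMonoidHom (u₁ L)
      u₂ := fun L => Units.map (φ L).toRingEquiv.toRingHom.toMonoidHom (u₂ L)
      e₁ := e₁
      e₂ := e₂
      fac₁ := fun L => by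
        rw [← hφA, f₁, map_mul, map_pow]; rfl
      fac₂ := fun L => by
        rw [← hφA, f₂, map_mul, map_pow]; rfl }
  rw [tameSymbol_eq_value (hnzdA _ h₁) (hnzdA _ h₂) D, CycAlg.TameData.value, finprod_eq_prod_of_fintype, map_prod]
  refine Finset.prod_bij (fun L _ => lOf L) (fun L _ => Finset.mem_filter.2 ⟨Finset.mem_univ _, hcomapB L⟩)
    (fun L _ L' _ h => hlinj h) (fun l hl => ?_) (fun L _ => ?_)
  · obtain ⟨L, hL⟩ := hlsurj l (Finset.mem_filter.1 hl).2
    exact ⟨L, Finset.mem_univ _, hL⟩
  -- one maximal ideal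
  haveI : IsLocalHom (algebraMap Bj (Localization.AtPrime L.asIdeal)) := isLocalHom_atPrime Bj L
  let l := lOf L
  let Cl := Localization.AtPrime l.asIdeal
  haveI : IsLocalHom (algebraMap A Cl) := isLocalHom_atPrime A l
  haveI : Module.Finite (ResidueField A) (ResidueField Cl) := finite_residueField A l
  let ψ : Bj →+* Cl := Localization.localRingHom j.asIdeal l.asIdeal (algebraMap B C) (hcomapB L).symm
  haveI : IsLocalHom ψ := Localization.isLocalHom_localRingHom _ _ _ _
  letI : Algebra (ResidueField Bj) (ResidueField Cl) := (ResidueField.map ψ).toAlgebra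
  have hψA : ∀ x : A, ψ (algebraMap A Bj x) = algebraMap A Cl x := fun x => by
    rw [IsScalarTower.algebraMap_apply A B Bj]
    show ψ (algebraMap B Bj (algebraMap A B x)) = _
    rw [Localization.localRingHom_to_map, ← IsScalarTower.algebraMap_apply A B C,
      ← IsScalarTower.algebraMap_apply A C Cl]
  haveI : IsScalarTower (ResidueField A) (ResidueField Bj) (ResidueField Cl) :=
    IsScalarTower.of_algebraMap_eq fun r => by
      obtain ⟨x, rfl⟩ := IsLocalRing.residue_surjective r
      show residue Cl (algebraMap A Cl x) = ResidueField.map ψ (residue Bj (algebraMap A Bj x))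
      rw [ResidueField.map_residue, hψA]
  haveI : Module.Finite (ResidueField Bj) (ResidueField Cl) :=
    Module.Finite.of_restrictScalars_finite (ResidueField A) _ _
  let π : Cl := algebraMap C Cl (π₀ L)
  have hπ : π ∈ nonZeroDivisors Cl := loc_mem_nonZeroDivisors l (hπ₀ L)
  let c : ResidueField Cl := (-1) ^ (e₁ L * e₂ L) * residue Cl (u₁ L : Cl) ^ e₂ L * (residue Cl (u₂ L : Cl) ^ e₁ L)⁻¹
  have hvl : v l = c ^ E π := by
    refine IsSym.unique (loc_algebraMap_mem l h₂C) (hv l) ?_
    rw [f₁ L, f₂ L]
    exact isSym_of_fac hπ (ord_lt_top A l hπ).ne (u₁ L) (u₂ L) (e₁ L) (e₂ L)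
  let σ : ResidueField Cl ≃+* ResidueField (Localization.AtPrime L.asIdeal) :=
    ResidueField.mapEquiv (φ L).toRingEquiv
  have hσ : RingHom.comp (algebraMap (ResidueField Bj) (ResidueField (Localization.AtPrime L.asIdeal))) (RingEquiv.refl _ : ResidueField Bj ≃+* ResidueField Bj) =
      RingHom.comp (σ : ResidueField Cl →+* _) (algebraMap (ResidueField Bj) (ResidueField Cl)) := by
    have key : algebraMap Bj (Localization.AtPrime L.asIdeal) = (φ L).toRingEquiv.toRingHom.comp ψ := by
      refine IsLocalization.ringHom_ext j.asIdeal.primeCompl (RingHom.ext fun b => ?_)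
      show algebraMap Bj (Localization.AtPrime L.asIdeal) (algebraMap B Bj b) = φ L (ψ (algebraMap B Bj b))
      rw [Localization.localRingHom_to_map, AlgEquiv.commutes, IsScalarTower.algebraMap_apply Bj Sj (Localization.AtPrime L.asIdeal),
        ← IsScalarTower.algebraMap_apply B Bj Sj, IsScalarTower.algebraMap_apply B C Sj,
        ← IsScalarTower.algebraMap_apply C Sj (Localization.AtPrime L.asIdeal)]
    refine RingHom.ext fun r => ?_
    obtain ⟨x, rfl⟩ := IsLocalRing.residue_surjective r
    exact congrArg (residue _) (RingHom.congr_fun key x)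
  have hnorm : Algebra.norm (ResidueField Bj) c = Algebra.norm (ResidueField Bj) (σ c) :=
    Algebra.norm_eq_of_equiv_equiv (RingEquiv.refl _) σ hσ c
  have hσc : σ c = (-1) ^ (e₁ L * e₂ L) * residue _ (φ L (u₁ L)) ^ e₂ L * (residue _ (φ L (u₂ L)) ^ e₁ L)⁻¹ := by
    simp only [c, map_mul, map_pow, map_inv₀, map_neg, map_one]
    rfl
  show Algebra.norm (ResidueField A) (D.localFactor L) = Algebra.norm (ResidueField A) (v l)
  rw [hvl, show D.localFactor L = Algebra.norm (ResidueField Bj) (σ c) ^
      (Ring.ord (Localization.AtPrime L.asIdeal) (φ L π)).toNat by rw [hσc]; rfl,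
    show (φ L) π = (φ L).toRingEquiv π from rfl, ord_ringEquiv (φ L).toRingEquiv π, ← hnorm, ← map_pow, Algebra.norm_norm]
  rfl

end TameLib
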