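import Mathlib
import Groth.Agent.TameLib.Gap

/-!
# The cokernel of a unit on the first piece

At a prime `Q` where `ρ` has order `m`, multiplication by `r ∉ Q` on `C` modulo the saturation of
`(ρ)` has cokernel of length `m` times the length of `C / (Q + (r))`.
-/

set_option autoImplicit false
set_option linter.style.haveILetI false
set_option linter.unusedSectionVars false

universe u

open IsLocalRing

namespace TameLib.Gap

variable (A : Type u) [CommRing A] [IsLocalRing A] [IsNoetherianRing A] {C : Type u} [CommRing C] [Algebra A C]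
  [Module.Finite A C]

/-- One step up in the lattice of ideals containing a power of the maximal ideal. -/
theorem exists_succ_ideal {S : Type u} [CommRing S] [IsLocalRing S] {J : Ideal S} (hJ : J ≠ ⊤) {k : ℕ}
    (hk : maximalIdeal S ^ k ≤ J) :
    ∃ y ∉ J, (∀ x ∈ maximalIdeal S, x * y ∈ J) ∧
      Module.length S (S ⧸ J) = 1 + Module.length S (S ⧸ (J ⊔ Ideal.span {y})) := by
  induction k with
  | zero => exact absurd (eq_top_iff.2 (by simpa using hk)) hJ
  | succ k ih =>
    by_cases hk' : maximalIdeal S ^ k ≤ J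
    · exact ih hk'
    obtain ⟨y, hy, hyJ⟩ := SetLike.not_le_iff_exists.1 hk'
    have hmul : ∀ x ∈ maximalIdeal S, x * y ∈ J := fun x hx => hk (by
      rw [pow_succ']; exact Ideal.mul_mem_mul hx hy)
    refine ⟨y, hyJ, hmul, ?_⟩
    let f : (S ⧸ maximalIdeal S) →ₗ[S] S ⧸ J :=
      (maximalIdeal S).liftQ (LinearMap.toSpanSingleton S (S ⧸ J) (Submodule.Quotient.mk y)) fun x hx => by
        rw [LinearMap.mem_ker, LinearMap.toSpanSingleton_apply, ← Submodule.Quotient.mk_smul,
          Submodule.Quotient.mk_eq_zero]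
        exact hmul x hx
    have hf : Function.Injective f := by
      rw [injective_iff_map_eq_zero]
      intro z hz
      obtain ⟨x, rfl⟩ := Submodule.Quotient.mk_surjective _ z
      rw [Submodule.liftQ_apply, LinearMap.toSpanSingleton_apply, ← Submodule.Quotient.mk_smul,
        Submodule.Quotient.mk_eq_zero] at hz
      rw [Submodule.Quotient.mk_eq_zero]
      intro hu
      exact hyJ ((Ideal.unit_mul_mem_iff_mem J hu).1 hz)
    have hex : Function.Exact f (Submodule.factor (le_sup_left : J ≤ J ⊔ Ideal.span {y})) := by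
      intro z
      obtain ⟨x, rfl⟩ := Submodule.Quotient.mk_surjective _ z
      show Submodule.Quotient.mk x = 0 ↔ _
      rw [Submodule.Quotient.mk_eq_zero]
      constructor
      · intro hx
        obtain ⟨j, hj, w, hw, rfl⟩ := Submodule.mem_sup.1 hx
        obtain ⟨t, rfl⟩ := Ideal.mem_span_singleton'.1 hw
        refine ⟨Submodule.Quotient.mk t, (Submodule.Quotient.eq J).2 ?_⟩
        simpa using J.neg_mem hj
      · rintro ⟨t, ht⟩
        obtain ⟨t, rfl⟩ := Submodule.Quotient.mk_surjective _ t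
        have h' := (Submodule.Quotient.eq J).1 ht
        refine Submodule.mem_sup.2 ⟨x - t * y, by simpa using J.neg_mem h', t * y,
          Ideal.mem_span_singleton'.2 ⟨t, rfl⟩, sub_add_cancel x (t * y)⟩
    rw [Module.length_eq_add_of_exact f _ hf (Submodule.factor_surjective _) hex]
    congr 1
    letI : Field (S ⧸ maximalIdeal S) := Ideal.Quotient.field _
    rw [Module.length_eq_of_surjective (R := S ⧸ maximalIdeal S) (S := S) Ideal.Quotient.mk_surjective]
    exact Module.length_eq_one _ _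

theorem clP_top_eq (r : C) (J : Ideal C) :
    clP A r ⊤ ⊤ J = Module.length A (C ⧸ (Ideal.span {r} ⊔ J)) := by
  rw [clP]
  refine ((Submodule.Quotient.equiv _ _ (Submodule.topEquiv) ?_).restrictScalars A).length_eq
  ext x
  constructor
  · rintro ⟨z, hz, rfl⟩
    have hz' : z.1 ∈ (Submodule.map (LinearMap.mulLeft C r) ⊤ ⊔ J : Ideal C) := hz
    obtain ⟨_, ⟨w, -, rfl⟩, j, hj, he⟩ := Submodule.mem_sup.1 hz'
    exact Submodule.mem_sup.2 ⟨r * w, Ideal.mem_span_singleton'.2 ⟨w, mul_comm _ _⟩, j, hj, he⟩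
  · intro hx
    obtain ⟨_, hw, j, hj, he⟩ := Submodule.mem_sup.1 hx
    obtain ⟨w, rfl⟩ := Ideal.mem_span_singleton'.1 hw
    exact ⟨⟨x, trivial⟩, Submodule.mem_sup.2 ⟨r * w, ⟨w, trivial, rfl⟩, j, hj, by rw [mul_comm r w]; exact he⟩, rfl⟩

variable {Q : Ideal C} [Q.IsPrime] {ρ : C}

theorem weight_aux (hout : ∀ P : Ideal C, P.IsPrime → ¬ P.IsMaximal → P ≠ Q → ∃ y ∈ Xp Q ρ 1, y ∉ P)
    {k : ℕ} (hk : maximalIdeal (Localization.AtPrime Q) ^ k ≤ Ideal.span {algebraMap C (Localization.AtPrime Q) ρ})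
    {r : C} (hr : r ∉ Q) : ∀ (n : ℕ) (J : Ideal (Localization.AtPrime Q)),
      Ideal.span {algebraMap C (Localization.AtPrime Q) ρ} ≤ J →
      Module.length (Localization.AtPrime Q) (Localization.AtPrime Q ⧸ J) = n →
      clP A r ⊤ ⊤ (J.comap (algebraMap C (Localization.AtPrime Q))) = (n : ℕ∞) * clP A r ⊤ ⊤ Q := by
  intro n
  induction n with
  | zero =>
    intro J _ hlen
    rw [Nat.cast_zero, Module.length_eq_zero_iff, Submodule.Quotient.subsingleton_iff] at hlen
    rw [clP_top_eq, hlen, Ideal.comap_top, sup_top_eq, Nat.cast_zero, zero_mul, Module.length_eq_zero_iff,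
      Submodule.Quotient.subsingleton_iff]
  | succ n ih =>
    intro J hρJ hlen
    let S := Localization.AtPrime Q
    have hJ : J ≠ ⊤ := fun h => by
      have h0 : Module.length S (S ⧸ J) = 0 :=
        Module.length_eq_zero_iff.2 (Submodule.Quotient.subsingleton_iff.2 h)
      rw [h0] at hlen
      exact absurd hlen.symm (by exact_mod_cast Nat.succ_ne_zero n)
    obtain ⟨y, hyJ, hmax, hsucc⟩ := exists_succ_ideal hJ (hk.trans hρJ)
    obtain ⟨c, ⟨t, ht⟩, rfl⟩ := IsLocalization.exists_mk'_eq Q.primeCompl y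
    set J' := J ⊔ Ideal.span {IsLocalization.mk' S c (⟨t, ht⟩ : Q.primeCompl)} with hJ'
    have hlen' : Module.length S (S ⧸ J') = n := by
      rw [hlen, Nat.cast_succ, add_comm (n : ℕ∞) 1] at hsucc
      exact ((WithTop.add_left_inj ENat.one_ne_top).1 hsucc).symm
    have hc' : algebraMap C S c = IsLocalization.mk' S c (⟨t, ht⟩ : Q.primeCompl) * algebraMap C S t :=
      (IsLocalization.mk'_spec S c (⟨t, ht⟩ : Q.primeCompl)).symm
    have hcJ' : c ∈ J'.comap (algebraMap C S) := by
      rw [Ideal.mem_comap, hc']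
      exact Ideal.mul_mem_right _ _ (Submodule.mem_sup_right (Ideal.mem_span_singleton_self _))
    have htu : IsUnit (algebraMap C S t) := IsLocalization.map_units S (⟨t, ht⟩ : Q.primeCompl)
    have hcJ : c ∉ J.comap (algebraMap C S) := by
      rw [Ideal.mem_comap, hc', Ideal.mul_unit_mem_iff_mem J htu]
      exact hyJ
    have hQ : ∀ x ∈ Q, algebraMap C S x ∈ maximalIdeal S := fun x hx =>
      (IsLocalization.AtPrime.to_map_mem_maximal_iff S Q x).2 hx
    have hQJ : ∀ x ∈ Q, c * x ∈ J.comap (algebraMap C S) := fun x hx => by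
      rw [Ideal.mem_comap, map_mul, hc', mul_comm _ (algebraMap C S x), ← mul_assoc]
      exact Ideal.mul_mem_right _ _ (hmax _ (hQ x hx))
    set U := J.comap (algebraMap C S) with hU
    set V := J'.comap (algebraMap C S) with hV
    have hUV : U ≤ V := Ideal.comap_mono le_sup_left
    have hru : IsUnit (algebraMap C S r) := IsLocalization.map_units S (⟨r, hr⟩ : Q.primeCompl)
    have hrV : ∀ x, r * x ∈ V → x ∈ V := fun x hx => by
      rw [hV, Ideal.mem_comap, map_mul, Ideal.unit_mul_mem_iff_mem J' hru] at hx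
      exact hx
    have hrU : ∀ x, r * x ∈ U → x ∈ U := fun x hx => by
      rw [hU, Ideal.mem_comap, map_mul, Ideal.unit_mul_mem_iff_mem J hru] at hx
      exact hx
    have hchain : clP A r ⊤ ⊤ U = clP A r V V U + clP A r ⊤ ⊤ V :=
      clP_chain A r ⊤ V U ⊤ V U le_top hUV le_top hUV (fun x _ => trivial) (fun x hx => Ideal.mul_mem_left _ _ hx)
        (fun x hx => Ideal.mul_mem_left _ _ hx) (fun x _ => hrV x)
    have hcinj : ∀ x ∈ (⊤ : Ideal C), c * x ∈ U → x ∈ Q := fun x _ hx => by
      by_contra hxQ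
      have hxu : IsUnit (algebraMap C S x) := IsLocalization.map_units S (⟨x, hxQ⟩ : Q.primeCompl)
      rw [hU, Ideal.mem_comap, map_mul, Ideal.mul_unit_mem_iff_mem J hxu] at hx
      exact hcJ hx
    have h1 : clP A (c * r) ⊤ V U = clP A c ⊤ V U + clP A r ⊤ ⊤ Q :=
      clP_mul A r c ⊤ Q ⊤ Q V U le_top hUV (fun x _ => trivial) (fun x hx => Q.mul_mem_left _ hx)
        (fun x _ => Ideal.mul_mem_right _ _ hcJ') hQJ hcinj
    have h2 : clP A (r * c) ⊤ V U = clP A r V V U + clP A c ⊤ V U :=
      clP_mul A c r ⊤ Q V U V U hUV hUV (fun x _ => Ideal.mul_mem_right _ _ hcJ') hQJ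
        (fun x hx => Ideal.mul_mem_left _ _ hx) (fun x hx => Ideal.mul_mem_left _ _ hx) (fun x _ => hrU x)
    have hfin : clP A c ⊤ V U < ⊤ := by
      refine clP_lt_top A c _ _ _ fun P hP hne z hz => ?_
      by_cases hPQ : P = Q
      · subst hPQ
        obtain ⟨j, hj, w, hw, he⟩ := Submodule.mem_sup.1 hz
        obtain ⟨w, rfl⟩ := Ideal.mem_span_singleton'.1 hw
        obtain ⟨x, ⟨t', ht'⟩, rfl⟩ := IsLocalization.exists_mk'_eq P.primeCompl w
        refine ⟨t * t', hP.mul_notMem ht ht', x, trivial, t * t' * z - c * x, ?_, by ring⟩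
        rw [hU, Ideal.mem_comap, map_sub, map_mul, map_mul, map_mul, ← he, mul_add,
          show algebraMap C S t * algebraMap C S t' * (IsLocalization.mk' S x (⟨t', ht'⟩ : P.primeCompl) *
            IsLocalization.mk' S c (⟨t, ht⟩ : P.primeCompl)) = algebraMap C S c * algebraMap C S x by
              rw [← IsLocalization.mk'_spec S c (⟨t, ht⟩ : P.primeCompl),
                ← IsLocalization.mk'_spec S x (⟨t', ht'⟩ : P.primeCompl)]; ring, add_sub_cancel_right]
        exact J.mul_mem_left _ hj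
      · obtain ⟨y, hy, hyP⟩ := hout P hP hne hPQ
        refine ⟨y, hyP, 0, trivial, y * z, Ideal.mul_mem_right _ _ ?_, by ring⟩
        rw [Xp, pow_one] at hy
        exact Ideal.comap_mono hρJ hy
    rw [mul_comm c r, h2] at h1
    have heq : clP A r V V U = clP A r ⊤ ⊤ Q := by
      rw [add_comm] at h1
      exact (WithTop.add_left_inj hfin.ne).1 h1
    rw [hchain, heq, ih J' (hρJ.trans le_sup_left) hlen', Nat.cast_succ, add_mul, one_mul, add_comm]

/-- Weight of a unit. -/
theorem step_unit_eq (hout : ∀ P : Ideal C, P.IsPrime → ¬ P.IsMaximal → P ≠ Q → ∃ y ∈ Xp Q ρ 1, y ∉ P)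
    {k : ℕ} (hk : maximalIdeal (Localization.AtPrime Q) ^ k ≤ Ideal.span {algebraMap C (Localization.AtPrime Q) ρ})
    (hfin : Ring.ord (Localization.AtPrime Q) (algebraMap C (Localization.AtPrime Q) ρ) < ⊤)
    {r : C} (hr : r ∉ Q) :
    step A Q ρ r 0 0 =
      ((Ring.ord (Localization.AtPrime Q) (algebraMap C (Localization.AtPrime Q) ρ)).toNat : ℕ∞) *
        Module.length A (C ⧸ (Ideal.span {r} ⊔ Q)) := by
  rw [step, Xp_zero, zero_add, Xp, pow_one,
    weight_aux A hout hk hr _ _ le_rfl (ENat.natCast_toNat hfin.ne).symm, clP_top_eq]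

end TameLib.Gap
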