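import Mathlib
import Groth.Agent.TameLib.ArtNorm
import Groth.Agent.TameLib.GapWeight

/-!
# The fibre of a finite algebra under a local base change

For `C` finite over `A`, a residue field `L` of `C` and a local homomorphism `A → A'`, the local
lengths of `A'/𝔪A' ⊗ L` are `length (A'/𝔪A')` times those of `κ' ⊗ L`, and the norm from `L`
becomes a product of norms of residues.
-/

set_option autoImplicit false
set_option linter.style.haveILetI false
set_option linter.unusedSectionVars false
set_option maxHeartbeats 1000000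

universe u

open IsLocalRing TensorProduct

namespace TameLib

variable {A A' : Type u} [CommRing A] [IsLocalRing A] [CommRing A'] [IsLocalRing A'] [Algebra A A']
  {C L : Type u} [CommRing C] [Algebra A C] [Field L] [Algebra A L] [Algebra (ResidueField A) L]
  [IsScalarTower A (ResidueField A) L] (g : C →ₐ[A] L)

/-- The kernel of `A' ⊗ C → A'/J ⊗ L`. -/
noncomputable def fibreKer (J : Ideal A') : Ideal (A' ⊗[A] C) :=
  RingHom.ker (Algebra.TensorProduct.map (Ideal.Quotient.mkₐ A' J) g)

/-- The kernel of `A' ⊗ C → κ' ⊗ L`. -/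
noncomputable def fibreKer₀ : Ideal (A' ⊗[A] C) :=
  RingHom.ker (Algebra.TensorProduct.map (Algebra.ofId A' (ResidueField A')) g)

variable {g} (hg : Function.Surjective g)

include hg in
theorem fibreKer_eq (J : Ideal A') :
    fibreKer g J = J.map (Algebra.TensorProduct.includeLeft : A' →ₐ[A] A' ⊗[A] C) ⊔
      (RingHom.ker g).map (Algebra.TensorProduct.includeRight : C →ₐ[A] A' ⊗[A] C) := by
  rw [fibreKer, Algebra.TensorProduct.map_ker _ _ Ideal.Quotient.mk_surjective hg]
  congr 2
  exact Ideal.mk_ker

variable [IsLocalHom (algebraMap A A')]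

include hg in
theorem fibreKer_map_max (hm : (maximalIdeal A).map (algebraMap A C) ≤ RingHom.ker g) :
    fibreKer g ((maximalIdeal A).map (algebraMap A A')) =
      (RingHom.ker g).map (Algebra.TensorProduct.includeRight : C →ₐ[A] A' ⊗[A] C) := by
  rw [fibreKer_eq hg, sup_eq_right, Ideal.map_le_iff_le_comap, Ideal.map_le_iff_le_comap]
  intro a ha
  show algebraMap A A' a ⊗ₜ[A] (1 : C) ∈ (RingHom.ker g).map (Algebra.TensorProduct.includeRight : C →ₐ[A] A' ⊗[A] C)
  rw [Algebra.TensorProduct.tmul_one_eq_one_tmul]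
  exact Ideal.mem_map_of_mem _ (hm (Ideal.mem_map_of_mem _ ha))

theorem algebraMap_eq_zero_of_mem {N : Type u} [CommRing N] [Algebra A N] [Algebra (ResidueField A) N]
    [IsScalarTower A (ResidueField A) N] {a : A} (ha : a ∈ maximalIdeal A) : algebraMap A N a = 0 := by
  rw [IsScalarTower.algebraMap_apply A (ResidueField A) N,
    show algebraMap A (ResidueField A) a = 0 from (IsLocalRing.residue_eq_zero_iff a).2 ha, map_zero]

theorem killed_quot {J : Ideal A'} (hJ : (maximalIdeal A).map (algebraMap A A') ≤ J) :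
    Module.IsTorsionBySet A (A' ⧸ J) (maximalIdeal A : Set A) := by
  intro x ⟨a, ha⟩
  obtain ⟨x, rfl⟩ := Submodule.Quotient.mk_surjective _ x
  show a • Submodule.Quotient.mk x = 0
  rw [← Submodule.Quotient.mk_smul, Submodule.Quotient.mk_eq_zero, Algebra.smul_def]
  exact J.mul_mem_right _ (hJ (Ideal.mem_map_of_mem _ ha))

theorem killed_residue : Module.IsTorsionBySet A (ResidueField A') (maximalIdeal A : Set A) := by
  intro x ⟨a, ha⟩
  show a • x = 0
  rw [Algebra.smul_def, IsScalarTower.algebraMap_apply A A' (ResidueField A'),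
    show algebraMap A' (ResidueField A') (algebraMap A A' a) = 0 from
      (IsLocalRing.residue_eq_zero_iff _).2 (map_nonunit (algebraMap A A') a ha), zero_mul]

include hg in
theorem fibre_step {J : Ideal A'} (hJ : (maximalIdeal A).map (algebraMap A A') ≤ J) {y : A'} (hy : y ∉ J)
    (hym : ∀ x ∈ maximalIdeal A', x * y ∈ J) (L' : MaximalSpectrum (A' ⊗[A] C)) :
    Module.length (Localization.AtPrime L'.asIdeal)
        (Localization.AtPrime L'.asIdeal ⧸ (fibreKer g J).map (algebraMap _ (Localization.AtPrime L'.asIdeal))) =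
      Module.length (Localization.AtPrime L'.asIdeal)
          (Localization.AtPrime L'.asIdeal ⧸ (fibreKer₀ (A' := A') g).map (algebraMap _ (Localization.AtPrime L'.asIdeal))) +
        Module.length (Localization.AtPrime L'.asIdeal)
          (Localization.AtPrime L'.asIdeal ⧸
            (fibreKer g (J ⊔ Ideal.span {y})).map (algebraMap _ (Localization.AtPrime L'.asIdeal))) := by
  -- multiplication by `y` from `κ'`
  let fA' : ResidueField A' →ₗ[A'] A' ⧸ J :=
    (maximalIdeal A').liftQ (LinearMap.toSpanSingleton A' (A' ⧸ J) (Submodule.Quotient.mk y)) fun x hx => by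
      rw [LinearMap.mem_ker, LinearMap.toSpanSingleton_apply, ← Submodule.Quotient.mk_smul,
        Submodule.Quotient.mk_eq_zero]
      exact hym x hx
  let f : ResidueField A' →ₗ[A] A' ⧸ J := fA'.restrictScalars A
  have hf : Function.Injective f := by
    rw [injective_iff_map_eq_zero]
    intro z hz
    obtain ⟨x, rfl⟩ := IsLocalRing.residue_surjective z
    have hz' : Submodule.Quotient.mk (p := J) (x * y) = 0 := hz
    rw [Submodule.Quotient.mk_eq_zero] at hz'
    rw [IsLocalRing.residue_eq_zero_iff]
    intro hu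
    exact hy ((Ideal.unit_mul_mem_iff_mem J hu).1 hz')
  have hfT : Function.Injective (LinearMap.rTensor L f) := by
    letI : Field (A ⧸ maximalIdeal A) := Ideal.Quotient.field _
    letI : Module (A ⧸ maximalIdeal A) (A' ⧸ J) := (killed_quot hJ).module
    letI : Module (A ⧸ maximalIdeal A) (ResidueField A') := (killed_residue (A := A) (A' := A')).module
    haveI : IsScalarTower A (A ⧸ maximalIdeal A) (A' ⧸ J) := (killed_quot hJ).isScalarTower
    haveI : IsScalarTower A (A ⧸ maximalIdeal A) (ResidueField A') := (killed_residue (A := A) (A' := A')).isScalarTower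
    let f' : ResidueField A' →ₗ[A ⧸ maximalIdeal A] A' ⧸ J :=
      { toFun := f
        map_add' := map_add f
        map_smul' := fun k x => by
          obtain ⟨a, rfl⟩ := Ideal.Quotient.mk_surjective k
          show f (algebraMap A (A ⧸ maximalIdeal A) a • x) = algebraMap A (A ⧸ maximalIdeal A) a • f x
          rw [algebraMap_smul, algebraMap_smul, map_smul] }
    obtain ⟨r, hr⟩ := f'.exists_leftInverse_of_injective (LinearMap.ker_eq_bot.2 hf)
    have hrf : r.restrictScalars A ∘ₗ f = LinearMap.id := LinearMap.ext fun x => LinearMap.congr_fun hr x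
    exact Function.LeftInverse.injective (g := LinearMap.rTensor L (r.restrictScalars A)) fun z => by
      rw [← LinearMap.rTensor_comp_apply, hrf, LinearMap.rTensor_id_apply]
  set π₀ := Algebra.TensorProduct.map (Algebra.ofId A' (ResidueField A')) g with hπ₀
  set πJ := Algebra.TensorProduct.map (Ideal.Quotient.mkₐ A' J) g with hπJ
  have key : ∀ z : A' ⊗[A] C, πJ ((y ⊗ₜ[A] (1 : C)) * z) = LinearMap.rTensor L f (π₀ z) := by
    intro z
    induction z using TensorProduct.induction_on with
    | zero => rw [mul_zero, map_zero, map_zero, map_zero]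
    | add a b ha hb => rw [mul_add, map_add, map_add, map_add, ha, hb]
    | tmul x c =>
      rw [Algebra.TensorProduct.tmul_mul_tmul, one_mul, hπJ, hπ₀, Algebra.TensorProduct.map_tmul,
        Algebra.TensorProduct.map_tmul, LinearMap.rTensor_tmul]
      congr 1
      show Submodule.Quotient.mk (p := J) (y * x) = Submodule.Quotient.mk (p := J) (x * y)
      rw [mul_comm]
  have hle : fibreKer g J ≤ fibreKer g (J ⊔ Ideal.span {y}) := by
    rw [fibreKer_eq hg, fibreKer_eq hg]
    exact sup_le_sup (Ideal.map_mono le_sup_left) le_rfl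
  let θ : (A' ⊗[A] C) ⧸ fibreKer₀ (A' := A') g →ₗ[A' ⊗[A] C] (A' ⊗[A] C) ⧸ fibreKer g J :=
    Submodule.mapQ _ _ (LinearMap.mulLeft _ (y ⊗ₜ[A] (1 : C))) fun z hz => by
      rw [fibreKer₀, RingHom.mem_ker] at hz
      rw [Submodule.mem_comap, LinearMap.mulLeft_apply, fibreKer, RingHom.mem_ker]
      exact (key z).trans (by rw [hπ₀, hz, map_zero])
  have hθ : Function.Injective θ := by
    rw [injective_iff_map_eq_zero]
    intro z hz
    obtain ⟨z, rfl⟩ := Submodule.Quotient.mk_surjective _ z
    rw [Submodule.mapQ_apply, Submodule.Quotient.mk_eq_zero, LinearMap.mulLeft_apply, fibreKer, RingHom.mem_ker] at hz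
    rw [Submodule.Quotient.mk_eq_zero, fibreKer₀, RingHom.mem_ker]
    exact hfT ((key z).symm.trans (hz.trans (map_zero _).symm))
  have hex : Function.Exact θ (Submodule.factor hle) := by
    intro z
    obtain ⟨z, rfl⟩ := Submodule.Quotient.mk_surjective _ z
    show Submodule.Quotient.mk z = 0 ↔ _
    rw [Submodule.Quotient.mk_eq_zero]
    constructor
    · intro hz
      rw [fibreKer_eq hg, Ideal.map_sup, Ideal.map_span, Set.image_singleton, sup_right_comm, ← fibreKer_eq hg,
        Submodule.mem_sup] at hz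
      obtain ⟨k, hk, w, hw, rfl⟩ := hz
      obtain ⟨t, rfl⟩ := Ideal.mem_span_singleton'.1 hw
      refine ⟨Submodule.Quotient.mk t, (Submodule.Quotient.eq _).2 ?_⟩
      show (y ⊗ₜ[A] (1 : C)) * t - (k + t * (y ⊗ₜ[A] (1 : C))) ∈ fibreKer g J
      rw [mul_comm _ t, sub_add_cancel_right]
      exact neg_mem hk
    · rintro ⟨w, hw⟩
      obtain ⟨w, rfl⟩ := Submodule.Quotient.mk_surjective _ w
      have h := hle ((Submodule.Quotient.eq _).1 hw)
      have hy' : (y ⊗ₜ[A] (1 : C)) * w ∈ fibreKer g (J ⊔ Ideal.span {y}) := by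
        refine Ideal.mul_mem_right _ _ ?_
        rw [fibreKer_eq hg]
        exact Submodule.mem_sup_left (Ideal.mem_map_of_mem
          (Algebra.TensorProduct.includeLeft : A' →ₐ[A] A' ⊗[A] C) (Submodule.mem_sup_right (Ideal.mem_span_singleton_self y)))
      have := sub_mem hy' h
      rwa [LinearMap.mulLeft_apply, sub_sub_cancel] at this
  have h := Module.length_eq_add_of_exact (LocalizedModule.map L'.asIdeal.primeCompl θ)
    (LocalizedModule.map L'.asIdeal.primeCompl (Submodule.factor hle)) (LocalizedModule.map_injective _ _ hθ)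
    (LocalizedModule.map_surjective _ _ (Submodule.factor_surjective hle)) (LocalizedModule.map_exact _ _ _ hex)
  rwa [localizedQuot_length, localizedQuot_length, localizedQuot_length] at h

include hg in
theorem fibre_length {k : ℕ} (hk : maximalIdeal A' ^ k ≤ (maximalIdeal A).map (algebraMap A A'))
    (L' : MaximalSpectrum (A' ⊗[A] C)) : ∀ (n : ℕ) (J : Ideal A'), (maximalIdeal A).map (algebraMap A A') ≤ J →
      Module.length A' (A' ⧸ J) = n →
      Module.length (Localization.AtPrime L'.asIdeal)
          (Localization.AtPrime L'.asIdeal ⧸ (fibreKer g J).map (algebraMap _ (Localization.AtPrime L'.asIdeal))) =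
        (n : ℕ∞) * Module.length (Localization.AtPrime L'.asIdeal)
          (Localization.AtPrime L'.asIdeal ⧸ (fibreKer₀ (A' := A') g).map (algebraMap _ (Localization.AtPrime L'.asIdeal))) := by
  intro n
  induction n with
  | zero =>
    intro J _ hlen
    rw [Nat.cast_zero, Module.length_eq_zero_iff, Submodule.Quotient.subsingleton_iff] at hlen
    rw [Nat.cast_zero, zero_mul, Module.length_eq_zero_iff, Submodule.Quotient.subsingleton_iff, hlen,
      fibreKer_eq hg, Ideal.eq_top_iff_one]
    have h1 := Ideal.mem_map_of_mem (algebraMap (A' ⊗[A] C) (Localization.AtPrime L'.asIdeal))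
      ((le_sup_left : (⊤ : Ideal A').map (Algebra.TensorProduct.includeLeft : A' →ₐ[A] A' ⊗[A] C) ≤ _ ⊔
          (RingHom.ker g).map (Algebra.TensorProduct.includeRight : C →ₐ[A] A' ⊗[A] C))
        (Ideal.mem_map_of_mem (Algebra.TensorProduct.includeLeft : A' →ₐ[A] A' ⊗[A] C)
          (Submodule.mem_top : (1 : A') ∈ (⊤ : Ideal A'))))
    rwa [map_one, map_one] at h1
  | succ n ih =>
    intro J hJ hlen
    have hJt : J ≠ ⊤ := fun h => by
      have h0 : Module.length A' (A' ⧸ J) = 0 :=
        Module.length_eq_zero_iff.2 (Submodule.Quotient.subsingleton_iff.2 h)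
      rw [h0] at hlen
      exact absurd hlen.symm (by exact_mod_cast Nat.succ_ne_zero n)
    obtain ⟨y, hy, hym, hsucc⟩ := Gap.exists_succ_ideal hJt (hk.trans hJ)
    have hlen' : Module.length A' (A' ⧸ (J ⊔ Ideal.span {y})) = n := by
      rw [hlen, Nat.cast_succ, add_comm (n : ℕ∞) 1] at hsucc
      exact ((WithTop.add_left_inj ENat.one_ne_top).1 hsucc).symm
    rw [fibre_step hg hJ hy hym, ih _ (hJ.trans le_sup_left) hlen', Nat.cast_succ, add_mul, one_mul, add_comm]

include hg in
theorem fibre_norm [IsNoetherianRing A'] [Module.Finite A C] [Module.Finite (ResidueField A) L]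
    [Fintype (MaximalSpectrum (A' ⊗[A] C))] (c : C) :
    ResidueField.map (algebraMap A A') (Algebra.norm (ResidueField A) (g c)) =
      ∏ L' : MaximalSpectrum (A' ⊗[A] C),
        Algebra.norm (ResidueField A') (residue (Localization.AtPrime L'.asIdeal)
          (algebraMap (A' ⊗[A] C) (Localization.AtPrime L'.asIdeal) ((1 : A') ⊗ₜ[A] c))) ^
        (Module.length (Localization.AtPrime L'.asIdeal)
          (Localization.AtPrime L'.asIdeal ⧸
            (fibreKer₀ (A' := A') g).map (algebraMap _ (Localization.AtPrime L'.asIdeal)))).toNat := by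
  classical
  let π₀ := Algebra.TensorProduct.map (Algebra.ofId A' (ResidueField A')) g
  have hπ : Function.Surjective π₀ :=
    Algebra.TensorProduct.map_surjective _ _ (fun z => IsLocalRing.residue_surjective z) hg
  letI : Algebra (A' ⊗[A] C) (ResidueField A' ⊗[A] L) := π₀.toRingHom.toAlgebra
  haveI : IsScalarTower A' (A' ⊗[A] C) (ResidueField A' ⊗[A] L) :=
    IsScalarTower.of_algebraMap_eq fun x => (π₀.commutes x).symm
  let ι : ResidueField A →+* ResidueField A' := ResidueField.map (algebraMap A A')
  have hι : ∀ a : A, ι (residue A a) = algebraMap A (ResidueField A') a := fun a => by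
    rw [IsScalarTower.algebraMap_apply A A' (ResidueField A')]
    rfl
  let b := Module.finBasis (ResidueField A) L
  let Φ : (Fin (Module.finrank (ResidueField A) L) → ResidueField A') →ₗ[ResidueField A']
      ResidueField A' ⊗[A] L :=
    ∑ i, (LinearMap.toSpanSingleton (ResidueField A') (ResidueField A' ⊗[A] L) (1 ⊗ₜ[A] b i)) ∘ₗ LinearMap.proj i
  have hΦ : ∀ v, Φ v = ∑ i, v i ⊗ₜ[A] b i := fun v => by
    simp only [Φ, LinearMap.sum_apply, LinearMap.comp_apply, LinearMap.proj_apply, LinearMap.toSpanSingleton_apply,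
      TensorProduct.smul_tmul', smul_eq_mul, mul_one]
  let co : L →ₗ[A] (Fin (Module.finrank (ResidueField A) L) → ResidueField A') :=
    { toFun := fun z i => ι (b.repr z i)
      map_add' := fun z w => funext fun i => by simp
      map_smul' := fun a z => funext fun i => by
        rw [RingHom.id_apply, Pi.smul_apply, ← algebraMap_smul (ResidueField A) a z, map_smul, Finsupp.smul_apply,
          smul_eq_mul, map_mul, Algebra.smul_def]
        congr 1 }
  let Ψ : ResidueField A' ⊗[A] L →ₗ[ResidueField A'] (Fin (Module.finrank (ResidueField A) L) → ResidueField A') :=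
    TensorProduct.AlgebraTensorModule.lift
      ((LinearMap.lsmul (ResidueField A') ((Fin (Module.finrank (ResidueField A) L) → ResidueField A'))).flip.restrictScalars A
        ∘ₗ co).flip
  have hΨ : ∀ (x : ResidueField A') (z : L) i, Ψ (x ⊗ₜ[A] z) i = x * ι (b.repr z i) := fun x z i => rfl
  have hmove : ∀ (x : ResidueField A') (k : ResidueField A) (z : L),
      (x * ι k) ⊗ₜ[A] z = x ⊗ₜ[A] (k • z) := fun x k z => by
    obtain ⟨a, rfl⟩ := IsLocalRing.residue_surjective k
    rw [hι, mul_comm x, ← Algebra.smul_def, TensorProduct.smul_tmul, ← algebraMap_smul (ResidueField A) a z]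
    rfl
  have hΦΨ : ∀ w, Φ (Ψ w) = w := by
    intro w
    induction w using TensorProduct.induction_on with
    | zero => rw [map_zero, map_zero]
    | add p q hp hq => rw [map_add, map_add, hp, hq]
    | tmul x z =>
      rw [hΦ]
      simp only [hΨ, hmove]
      rw [← TensorProduct.tmul_sum, b.sum_repr z]
  have hΨΦ : ∀ v, Ψ (Φ v) = v := fun v => funext fun j => by
    rw [hΦ, map_sum, Finset.sum_apply, Finset.sum_eq_single j (fun i _ hij => by
      rw [hΨ, b.repr_self, Finsupp.single_eq_of_ne (Ne.symm hij), map_zero, mul_zero]) (by simp),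
      hΨ, b.repr_self, Finsupp.single_eq_same, map_one, mul_one]
  let B' := Module.Basis.ofEquivFun (LinearEquiv.ofLinear Ψ Φ (LinearMap.ext hΨΦ) (LinearMap.ext hΦΨ))
  have hB' : ∀ j, B' j = 1 ⊗ₜ[A] b j := fun j => by
    rw [Module.Basis.coe_ofEquivFun]
    show Φ (Function.update 0 j 1) = _
    rw [hΦ, Finset.sum_eq_single j (fun i _ hij => by rw [Function.update_of_ne hij, Pi.zero_apply, TensorProduct.zero_tmul])
      (by simp), Function.update_self]
  haveI : Module.Finite (ResidueField A') (ResidueField A' ⊗[A] L) := Module.Finite.of_basis B'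
  have hdet : LinearMap.det (mulK A' ((1 : A') ⊗ₜ[A] c) (ResidueField A' ⊗[A] L)) =
      ι (Algebra.norm (ResidueField A) (g c)) := by
    rw [← LinearMap.det_toMatrix B', Algebra.norm_eq_matrix_det b, RingHom.map_det]
    refine congrArg _ ?_
    ext i j
    rw [LinearMap.toMatrix_apply, RingHom.mapMatrix_apply, Matrix.map_apply, Algebra.leftMulMatrix_eq_repr_mul, hB']
    show Ψ (π₀ ((1 : A') ⊗ₜ[A] c) * (1 ⊗ₜ[A] b j)) i = _
    rw [show π₀ ((1 : A') ⊗ₜ[A] c) = Algebra.ofId A' (ResidueField A') 1 ⊗ₜ[A] g c from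
        Algebra.TensorProduct.map_tmul _ _ _ _, map_one, Algebra.TensorProduct.tmul_mul_tmul, one_mul, hΨ, one_mul]
  show ι (Algebra.norm (ResidueField A) (g c)) = _
  rw [← hdet, det_smul_eq_prod A' ((1 : A') ⊗ₜ[A] c) (ResidueField A' ⊗[A] L)]
  refine Finset.prod_congr rfl fun L' _ => ?_
  congr 2
  rw [← localizedQuot_length]
  let εA : ((A' ⊗[A] C) ⧸ fibreKer₀ (A' := A') g) ≃ₗ[A' ⊗[A] C] ResidueField A' ⊗[A] L :=
    (Submodule.quotEquivOfEq _ _ (by
      ext z
      show π₀ z = 0 ↔ z • (1 : ResidueField A' ⊗[A] L) = 0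
      rw [Algebra.smul_def, mul_one]
      rfl : fibreKer₀ (A' := A') g = LinearMap.ker (LinearMap.toSpanSingleton (A' ⊗[A] C) (ResidueField A' ⊗[A] L) 1))).trans
      (LinearMap.quotKerEquivOfSurjective _ fun w => by
        obtain ⟨z, rfl⟩ := hπ w
        exact ⟨z, by rw [LinearMap.toSpanSingleton_apply, Algebra.smul_def, mul_one]; rfl⟩)
  exact (LinearEquiv.length_eq (LinearEquiv.ofBijective (LocalizedModule.map L'.asIdeal.primeCompl εA.toLinearMap)
    ⟨LocalizedModule.map_injective _ _ εA.injective, LocalizedModule.map_surjective _ _ εA.surjective⟩)).symm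

end TameLib
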