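import Mathlib
import Groth.Agent.TameLib.Down
import Groth.Agent.TameLib.FibreLen

/-! # The tame symbol under a flat local homomorphism -/

set_option autoImplicit false
set_option linter.style.haveILetI false
set_option linter.unusedSectionVars false
set_option maxHeartbeats 1000000

universe u

open IsLocalRing TensorProduct

namespace TameLib

variable {A A' : Type u} [CommRing A] [CommRing A'] [IsNoetherianRing A] [IsNoetherianRing A'] [IsLocalRing A]
  [IsLocalRing A'] [Algebra A A'] [IsLocalHom (algebraMap A A')] [Module.Flat A A'] [Ring.KrullDimLE 1 A]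
  [Ring.KrullDimLE 1 A']

theorem nonZeroDivisors_of_flat {a : A} (ha : a ∈ nonZeroDivisors A) : algebraMap A A' a ∈ nonZeroDivisors A' := by
  have hreg : IsSMulRegular A' a :=
    IsSMulRegular.of_flat_of_isBaseChange (IsBaseChange.linearMap A A')
      (show IsSMulRegular A a from fun x y h => (mul_cancel_left_mem_nonZeroDivisors ha).1 h) |> fun h => by
        intro x y hxy
        exact h (by simpa only [algebraMap_smul] using hxy)
  rw [mem_nonZeroDivisors_iff_right]
  intro x hx
  refine hreg ?_
  show a • x = a • (0 : A')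
  rw [smul_zero, Algebra.smul_def, mul_comm]
  exact hx

theorem tameSymbol_flat_of_data {C : Type u} [CommRing C] [Algebra A C] [Module.Finite A C] (f : C →ₐ[A] Tot A)
    (hf : Function.Injective f) (a₁ a₂ : A) (h₁ : a₁ ∈ nonZeroDivisors A) (h₂ : a₂ ∈ nonZeroDivisors A)
    (hmem : a₁ * a₂ ∈ maximalIdeal A)
    (π : MaximalSpectrum C → C) (hπ : ∀ l, IsUnit (f (π l)))
    (u₁ u₂ : (l : MaximalSpectrum C) → (Localization.AtPrime l.asIdeal)ˣ) (e₁ e₂ : MaximalSpectrum C → ℕ)
    (f₁ : ∀ l, algebraMap A (Localization.AtPrime l.asIdeal) a₁ =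
      (u₁ l : Localization.AtPrime l.asIdeal) * algebraMap C (Localization.AtPrime l.asIdeal) (π l) ^ e₁ l)
    (f₂ : ∀ l, algebraMap A (Localization.AtPrime l.asIdeal) a₂ =
      (u₂ l : Localization.AtPrime l.asIdeal) * algebraMap C (Localization.AtPrime l.asIdeal) (π l) ^ e₂ l) :
    ResidueField.map (algebraMap A A') (CycAlg.tameSymbol A a₁ a₂) ^
        (Module.length A' (A' ⧸ Ideal.map (algebraMap A A') (maximalIdeal A))).toNat =
      CycAlg.tameSymbol A' (algebraMap A A' a₁) (algebraMap A A' a₂) := by
  classical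
  obtain ⟨s, hs, hden⟩ := over_denominator f hf
  obtain ⟨N, hN⟩ := exists_pow_le_span hs
  have hinjA : Function.Injective (algebraMap A C) := fun x y h =>
    IsLocalization.injective (Tot A) le_rfl (by rw [← f.commutes x, ← f.commutes y, h])
  let D : CycAlg.TameData A a₁ a₂ :=
    { B := C
      isFinExt := ⟨hinjA, inferInstance, N, fun r hr c => by
        obtain ⟨w, rfl⟩ := Ideal.mem_span_singleton'.1 (hN hr)
        obtain ⟨a, ha⟩ := hden c
        exact ⟨w * a, by rw [map_mul, ha, mul_smul, Algebra.smul_def w (s • c)]⟩⟩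
      isLocalHom := fun l => isLocalHom_atPrime A l
      π := fun l => algebraMap C _ (π l)
      π_mem := fun l => loc_mem_nonZeroDivisors l (over_unit_mem f hf _ (hπ l))
      u₁ := u₁, u₂ := u₂, e₁ := e₁, e₂ := e₂, fac₁ := f₁, fac₂ := f₂ }
  let C' := A' ⊗[A] C
  let τ : Tot A →ₐ[A] Tot A' :=
    IsLocalization.liftAlgHom (M := nonZeroDivisors A) (f := Algebra.ofId A (Tot A')) fun y => by
      show IsUnit (algebraMap A (Tot A') y)
      rw [IsScalarTower.algebraMap_apply A A' (Tot A')]
      exact isUnit_map _ (nonZeroDivisors_of_flat y.2)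
  let f' : C' →ₐ[A'] Tot A' := Algebra.TensorProduct.lift (Algebra.ofId A' (Tot A')) (τ.comp f) fun _ _ => Commute.all _ _
  have hf'1 : ∀ c : C, f' ((1 : A') ⊗ₜ[A] c) = τ (f c) := fun c => by
    rw [Algebra.TensorProduct.lift_tmul, map_one, one_mul, AlgHom.comp_apply]
  have hsz : ∀ z : C', ∃ a' : A', algebraMap A' C' a' = s • z := by
    intro z
    induction z using TensorProduct.induction_on with
    | zero => exact ⟨0, by rw [map_zero, smul_zero]⟩
    | add p q hp hq =>
      obtain ⟨a, ha⟩ := hp
      obtain ⟨b, hb⟩ := hq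
      exact ⟨a + b, by rw [map_add, ha, hb, smul_add]⟩
    | tmul x c =>
      obtain ⟨a, ha⟩ := hden c
      exact ⟨a • x, by rw [← TensorProduct.tmul_smul, ← ha, Algebra.TensorProduct.algebraMap_apply,
        Algebra.algebraMap_self_apply, TensorProduct.smul_tmul, ← Algebra.algebraMap_eq_smul_one]⟩
  have hsreg : IsSMulRegular C' s := by
    have h : IsSMulRegular C s := fun x y hxy =>
      (mul_cancel_left_mem_nonZeroDivisors (over_algebraMap_mem f hf hs)).1 (by
        rwa [← Algebra.smul_def, ← Algebra.smul_def])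
    have hl := Module.Flat.lTensor_preserves_injective_linearMap (M := A') (LinearMap.lsmul A C s) h
    intro x y hxy
    refine hl ?_
    have key : ∀ z : C', LinearMap.lTensor A' (LinearMap.lsmul A C s) z = s • z := fun z => by
      induction z using TensorProduct.induction_on with
      | zero => rw [map_zero, smul_zero]
      | add p q hp hq => rw [map_add, hp, hq, smul_add]
      | tmul x c => rw [LinearMap.lTensor_tmul, LinearMap.lsmul_apply, TensorProduct.tmul_smul]
    rw [key, key]; exact hxy
  have hf'inj : Function.Injective f' := by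
    rw [injective_iff_map_eq_zero]
    intro z hz
    obtain ⟨a', ha'⟩ := hsz z
    have h0 : f' (algebraMap A' C' a') = 0 := by rw [ha', Algebra.smul_def, map_mul, hz, mul_zero]
    rw [AlgHom.commutes] at h0
    rw [(injective_iff_map_eq_zero _).1 (IsLocalization.injective (Tot A') le_rfl) a' h0, map_zero] at ha'
    exact hsreg (ha'.symm.trans (smul_zero s).symm)
  haveI : IsNoetherianRing C' := isNoetherian_of_tower A' inferInstance
  haveI : IsNoetherianRing C := isNoetherian_of_tower A inferInstance
  haveI : Algebra.IsIntegral A C := Algebra.IsIntegral.of_finite A C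
  -- maximal ideals below
  let iR : C →ₐ[A] C' := Algebra.TensorProduct.includeRight
  have hjmax : ∀ L : MaximalSpectrum C', (L.asIdeal.comap iR.toRingHom).IsMaximal := fun L => by
    haveI := L.isMaximal
    refine Ideal.isMaximal_of_isIntegral_of_isMaximal_comap (R := A) _ ?_
    rw [Ideal.comap_comap, AlgHom.toRingHom_eq_coe, iR.comp_algebraMap, IsScalarTower.algebraMap_eq A A' C',
      ← Ideal.comap_comap, comap_max A' L.asIdeal]
    rw [IsLocalRing.maximalIdeal_comap]
    exact maximalIdeal.isMaximal A
  let j : MaximalSpectrum C' → MaximalSpectrum C := fun L => ⟨_, hjmax L⟩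
  let φ : ∀ L, Localization.AtPrime (j L).asIdeal →+* Localization.AtPrime L.asIdeal := fun L =>
    Localization.localRingHom (j L).asIdeal L.asIdeal iR.toRingHom rfl
  haveI : ∀ L, IsLocalHom (φ L) := fun L => Localization.isLocalHom_localRingHom _ _ _ _
  have hφC : ∀ L (c : C), φ L (algebraMap C _ c) = algebraMap C' _ ((1 : A') ⊗ₜ[A] c) := fun L c =>
    Localization.localRingHom_to_map _ _ _ _ _
  have hφA : ∀ L (a : A), φ L (algebraMap A _ a) = algebraMap A' _ (algebraMap A A' a) := fun L a => by
    rw [IsScalarTower.algebraMap_apply A C (Localization.AtPrime (j L).asIdeal), hφC,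
      show (1 : A') ⊗ₜ[A] algebraMap A C a = algebraMap A C' a from iR.commutes a,
      IsScalarTower.algebraMap_apply A A' C', ← IsScalarTower.algebraMap_apply A' C' (Localization.AtPrime L.asIdeal)]
  obtain ⟨N', hN'⟩ := exists_pow_le_span (nonZeroDivisors_of_flat (A' := A') hs)
  have hπ' : ∀ L, φ L (algebraMap C _ (π (j L))) ∈ nonZeroDivisors (Localization.AtPrime L.asIdeal) := fun L => by
    rw [hφC]
    exact loc_mem_nonZeroDivisors L (over_unit_mem f' hf'inj _ (by rw [hf'1]; exact (hπ _).map τ))
  let D' : CycAlg.TameData A' (algebraMap A A' a₁) (algebraMap A A' a₂) :=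
    { B := C'
      isFinExt := ⟨fun x y h => IsLocalization.injective (Tot A') le_rfl (by rw [← f'.commutes x, ← f'.commutes y, h]),
        inferInstance, N', fun r hr z => by
          obtain ⟨w, rfl⟩ := Ideal.mem_span_singleton'.1 (hN' hr)
          obtain ⟨a', ha'⟩ := hsz z
          exact ⟨w * a', by rw [map_mul, ha', mul_smul, algebraMap_smul, Algebra.smul_def w (s • z)]⟩⟩
      isLocalHom := fun L => isLocalHom_atPrime A' L
      π := fun L => φ L (algebraMap C _ (π (j L)))
      π_mem := hπ'
      u₁ := fun L => Units.map (φ L).toMonoidHom (u₁ (j L))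
      u₂ := fun L => Units.map (φ L).toMonoidHom (u₂ (j L))
      e₁ := fun L => e₁ (j L)
      e₂ := fun L => e₂ (j L)
      fac₁ := fun L => by rw [← hφA, f₁, map_mul, map_pow]; rfl
      fac₂ := fun L => by rw [← hφA, f₂, map_mul, map_pow]; rfl }
  rw [tameSymbol_eq_value h₁ h₂ D, tameSymbol_eq_value (nonZeroDivisors_of_flat h₁) (nonZeroDivisors_of_flat h₂) D',
    CycAlg.TameData.value, CycAlg.TameData.value]
  haveI := finite_maximalSpectrum A (B := C)
  haveI : Fintype (MaximalSpectrum C) := Fintype.ofFinite _
  haveI := finite_maximalSpectrum A' (B := C')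
  haveI : Fintype (MaximalSpectrum C') := Fintype.ofFinite _
  rw [finprod_eq_prod_of_fintype, finprod_eq_prod_of_fintype, map_prod, ← Finset.prod_pow]
  -- representatives
  let cl : ∀ l : MaximalSpectrum C, ResidueField (Localization.AtPrime l.asIdeal) := fun l =>
    (-1 : ResidueField (Localization.AtPrime l.asIdeal)) ^ (e₁ l * e₂ l) *
      residue _ (u₁ l : Localization.AtPrime l.asIdeal) ^ e₂ l *
      (residue _ (u₂ l : Localization.AtPrime l.asIdeal) ^ e₁ l)⁻¹
  let g : ∀ l : MaximalSpectrum C, C →ₐ[A] ResidueField (Localization.AtPrime l.asIdeal) := fun l =>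
    IsScalarTower.toAlgHom A C _
  have hg : ∀ l, Function.Surjective (g l) := fun l z => by
    obtain ⟨w, rfl⟩ := (resEquiv A l).surjective z
    obtain ⟨c, rfl⟩ := Ideal.Quotient.mk_surjective w
    exact ⟨c, rfl⟩
  have hgk : ∀ l, RingHom.ker (g l) = l.asIdeal := fun l => by
    ext c
    show residue (Localization.AtPrime l.asIdeal) (algebraMap C _ c) = 0 ↔ _
    rw [IsLocalRing.residue_eq_zero_iff]
    haveI := l.isMaximal
    exact IsLocalization.AtPrime.to_map_mem_maximal_iff _ l.asIdeal c
  choose cR hcR using fun l => hg l (cl l)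
  let m := (Module.length A' (A' ⧸ Ideal.map (algebraMap A A') (maximalIdeal A))).toNat
  let nfib : MaximalSpectrum C → MaximalSpectrum C' → ℕ := fun l L =>
    (Module.length (Localization.AtPrime L.asIdeal) (Localization.AtPrime L.asIdeal ⧸
      (fibreKer₀ (A' := A') (g l)).map (algebraMap C' (Localization.AtPrime L.asIdeal)))).toNat
  let z : MaximalSpectrum C → MaximalSpectrum C' → ResidueField A' := fun l L =>
    Algebra.norm (ResidueField A') (residue (Localization.AtPrime L.asIdeal)
      (algebraMap C' (Localization.AtPrime L.asIdeal) ((1 : A') ⊗ₜ[A] cR l)))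
  let ml : MaximalSpectrum C → ℕ := fun l =>
    (Ring.ord (Localization.AtPrime l.asIdeal) (algebraMap C _ (π l))).toNat
  have hzero : ∀ l L, l ≠ j L → nfib l L = 0 := by
    intro l L hne
    obtain ⟨x, hxl, hxj⟩ := SetLike.not_le_iff_exists.1 fun hle : l.asIdeal ≤ (j L).asIdeal =>
      hne (MaximalSpectrum.ext (l.isMaximal.eq_of_le (j L).isMaximal.ne_top hle))
    haveI := L.isMaximal
    have hx : (1 : A') ⊗ₜ[A] x ∈ fibreKer₀ (A' := A') (g l) := by
      rw [fibreKer₀, RingHom.mem_ker, Algebra.TensorProduct.map_tmul,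
        RingHom.mem_ker.1 (show x ∈ RingHom.ker (g l) by rw [hgk]; exact hxl), TensorProduct.tmul_zero]
    have hu : IsUnit (algebraMap C' (Localization.AtPrime L.asIdeal) ((1 : A') ⊗ₜ[A] x)) :=
      IsLocalization.map_units _ (⟨_, hxj⟩ : L.asIdeal.primeCompl)
    have htop := Ideal.eq_top_of_isUnit_mem _ (Ideal.mem_map_of_mem _ hx) hu
    show (Module.length _ _).toNat = 0
    rw [Module.length_eq_zero_iff.2 (Submodule.Quotient.subsingleton_iff.2 htop), ENat.toNat_zero]
  have hmA' : ∃ k, maximalIdeal A' ^ k ≤ (maximalIdeal A).map (algebraMap A A') := by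
    obtain ⟨k, hk⟩ := exists_pow_le_span (nonZeroDivisors_of_flat (A' := A') (mul_mem h₁ h₂))
    exact ⟨k, hk.trans ((Ideal.span_singleton_le_iff_mem _).2 (Ideal.mem_map_of_mem _ hmem))⟩
  obtain ⟨k, hk⟩ := hmA'
  have hmfin : Module.length A' (A' ⧸ Ideal.map (algebraMap A A') (maximalIdeal A)) ≠ ⊤ := by
    have h := length_quot_span_lt_top A' (B := A') _ (nonZeroDivisors_of_flat (A' := A') (mul_mem h₁ h₂))
    exact (lt_of_le_of_lt (Module.length_le_of_surjective (Submodule.factor (show Ideal.span {algebraMap A A' (a₁ * a₂)} ≤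
      (maximalIdeal A).map (algebraMap A A') from (Ideal.span_singleton_le_iff_mem _).2 (Ideal.mem_map_of_mem _ hmem)))
      (Submodule.factor_surjective _)) h).ne
  have hord : ∀ L, (Ring.ord (Localization.AtPrime L.asIdeal) (φ L (algebraMap C _ (π (j L))))).toNat =
      ml (j L) * (m * nfib (j L) L) := by
    intro L
    haveI := L.isMaximal
    haveI := (j L).isMaximal
    letI : Algebra (Localization.AtPrime (j L).asIdeal) (Localization.AtPrime L.asIdeal) := (φ L).toAlgebra
    haveI : IsLocalHom (algebraMap (Localization.AtPrime (j L).asIdeal) (Localization.AtPrime L.asIdeal)) :=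
      inferInstanceAs (IsLocalHom (φ L))
    haveI : Module.Flat (Localization.AtPrime (j L).asIdeal) (Localization.AtPrime L.asIdeal) := by
      letI : Algebra C C' := Algebra.TensorProduct.rightAlgebra
      haveI : Module.Flat C C' := Module.Flat.isBaseChange (R := A) (S := C) (M := A') C'
        ((TensorProduct.isPushout' (R := A) (S := A') (T := C)).out)
      have hflat : (algebraMap C C').Flat := RingHom.flat_algebraMap_iff.2 inferInstance
      exact RingHom.Flat.localRingHom hflat L.asIdeal (j L).asIdeal rfl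
    have h := IsLocalRing.length_baseChange (Localization.AtPrime (j L).asIdeal) (Localization.AtPrime L.asIdeal)
      (Localization.AtPrime (j L).asIdeal ⧸ Ideal.span {algebraMap C (Localization.AtPrime (j L).asIdeal) (π (j L))})
    rw [← (Algebra.TensorProduct.quotIdealMapEquivTensorQuot (Localization.AtPrime L.asIdeal)
        (Ideal.span {algebraMap C (Localization.AtPrime (j L).asIdeal) (π (j L))})).toLinearEquiv.length_eq,
      Ideal.map_span, Set.image_singleton] at h
    have hmax : (maximalIdeal (Localization.AtPrime (j L).asIdeal)).map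
        (algebraMap (Localization.AtPrime (j L).asIdeal) (Localization.AtPrime L.asIdeal)) =
        (fibreKer (g (j L)) ((maximalIdeal A).map (algebraMap A A'))).map
          (algebraMap C' (Localization.AtPrime L.asIdeal)) := by
      rw [fibreKer_map_max (hg _) (by rw [hgk]; exact Ideal.map_le_iff_le_comap.2 (comap_max A (j L).asIdeal).ge), hgk,
        ← Localization.AtPrime.map_eq_maximalIdeal (I := (j L).asIdeal), Ideal.map_map]
      refine Eq.trans (congrArg (fun F => Ideal.map F (j L).asIdeal)
        (RingHom.ext (fun c => hφC L c) : _ = (algebraMap C' (Localization.AtPrime L.asIdeal)).comp iR.toRingHom)) ?_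
      exact (Ideal.map_map iR.toRingHom _).symm
    rw [hmax, fibre_length (hg _) hk L m _ le_rfl (ENat.natCast_toNat hmfin).symm] at h
    have h' := congrArg ENat.toNat h
    rw [ENat.toNat_mul, ENat.toNat_mul, ENat.toNat_natCast] at h'
    exact h'
  have hloc : ∀ L, D'.localFactor L = z (j L) L ^ (ml (j L) * (m * nfib (j L) L)) := by
    intro L
    haveI : IsLocalHom (algebraMap A' (Localization.AtPrime L.asIdeal)) := isLocalHom_atPrime A' L
    rw [← hord L]
    show _ ^ _ = _ ^ _
    congr 1
    refine congrArg (Algebra.norm (ResidueField A')) ?_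
    rw [← hφC, ← ResidueField.map_residue (φ L), show residue _ (algebraMap C _ (cR (j L))) = cl (j L) from hcR (j L)]
    simp only [cl, map_mul, map_pow, map_inv₀, map_neg, map_one]
    rfl
  rw [Finset.prod_congr rfl fun L _ => hloc L]
  have hlA : ∀ l : MaximalSpectrum C, ResidueField.map (algebraMap A A') (D.localFactor l) ^ m =
      ∏ L : MaximalSpectrum C', z l L ^ (ml l * (m * nfib l L)) := by
    intro l
    haveI := isLocalHom_atPrime A l
    have hD : D.localFactor l = Algebra.norm (ResidueField A) (g l (cR l)) ^ ml l := by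
      rw [hcR]; rfl
    rw [hD, map_pow, fibre_norm (hg l), ← pow_mul, ← Finset.prod_pow]
    refine Finset.prod_congr rfl fun L _ => ?_
    rw [← pow_mul]
    show z l L ^ (nfib l L * (ml l * m)) = _
    ring_nf
  rw [Finset.prod_congr rfl fun l _ => hlA l, Finset.prod_comm]
  refine Finset.prod_congr rfl fun L _ => ?_
  exact Finset.prod_eq_single (j L) (fun l _ hne => by rw [hzero l L hne, mul_zero, mul_zero, pow_zero]) (by simp)

end TameLib
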