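import Mathlib
import Groth.Agent.TameLib.Gap

/-! # The global identity: the local contributions cancel -/

set_option autoImplicit false
set_option linter.style.haveILetI false
set_option linter.unusedSectionVars false

universe u

open scoped BigOperators

namespace TameLib.Gap

variable (A : Type u) [CommRing A] [IsLocalRing A] [IsNoetherianRing A]
  {C : Type u} [CommRing C] [Algebra A C] [Module.Finite A C]
variable {ι : Type u} [Fintype ι]

/-- From a piece to a product of pieces. -/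
def piP (X Y : Ideal C) (U V : ι → Ideal C) (hX : ∀ i, X ≤ U i) (hY : ∀ i, Y ≤ V i) :
    Pc X Y →ₗ[C] ((i : ι) → Pc (U i) (V i)) :=
  LinearMap.pi fun i => mulP 1 X Y (U i) (V i) (fun x hx => by rw [one_mul]; exact hX i hx)
    (fun y hy => by rw [one_mul]; exact hY i hy)

theorem piP_mk (X Y : Ideal C) (U V : ι → Ideal C) (hX : ∀ i, X ≤ U i) (hY : ∀ i, Y ≤ V i) (x : X) (i : ι) :
    piP X Y U V hX hY (Submodule.Quotient.mk x) i = Submodule.Quotient.mk ⟨x.1, hX i x.2⟩ :=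
  congrArg Submodule.Quotient.mk (Subtype.ext (one_mul x.1))

theorem piP_injective (X Y : Ideal C) (U V : ι → Ideal C) (hX : ∀ i, X ≤ U i) (hY : ∀ i, Y ≤ V i)
    (hr : ∀ x ∈ X, (∀ i, x ∈ V i) → x ∈ Y) : Function.Injective (piP X Y U V hX hY) := by
  rw [injective_iff_map_eq_zero]
  intro z hz
  obtain ⟨x, rfl⟩ := Submodule.Quotient.mk_surjective _ z
  rw [Submodule.Quotient.mk_eq_zero]
  refine hr x.1 x.2 fun i => ?_
  have := congrFun hz i
  rw [piP_mk, Pi.zero_apply, Submodule.Quotient.mk_eq_zero] at this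
  exact this

variable {Q : ι → Ideal C} [∀ i, (Q i).IsPrime] {ρ : ι → C}

variable (Q ρ) in
/-- Elements lying in the given symbolic power at every `Q i`. -/
def Iv (v : ι → ℕ) : Ideal C := ⨅ i, Xp (Q i) (ρ i) (v i)

theorem mem_Iv {v : ι → ℕ} {x : C} : x ∈ Iv Q ρ v ↔ ∀ i, x ∈ Xp (Q i) (ρ i) (v i) := by
  simp [Iv, Submodule.mem_iInf]

theorem Iv_le (v : ι → ℕ) (i : ι) : Iv Q ρ v ≤ Xp (Q i) (ρ i) (v i) := iInf_le _ i

theorem Iv_anti {v w : ι → ℕ} (h : ∀ i, v i ≤ w i) : Iv Q ρ w ≤ Iv Q ρ v :=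
  iInf_mono fun i => Xp_anti (h i)

theorem Iv_zero : Iv Q ρ (fun _ => 0) = ⊤ := by simp [Iv, Xp_zero]

variable (Q ρ) in
/-- The map from `I_v / I_w` to the product of the local pieces. -/
def tauMap (v w : ι → ℕ) :
    Pc (Iv Q ρ v) (Iv Q ρ w) →ₗ[C] ((i : ι) → Pc (Xp (Q i) (ρ i) (v i)) (Xp (Q i) (ρ i) (w i))) :=
  piP _ _ _ _ (fun i => Iv_le v i) (fun i => Iv_le w i)

theorem tauMap_injective (v w : ι → ℕ) : Function.Injective (tauMap Q ρ v w) :=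
  piP_injective _ _ _ _ _ _ fun _ _ h => mem_Iv.2 h

theorem cl_tauMap_add {u' v w : ι → ℕ} (huv : ∀ i, u' i ≤ v i) (hvw : ∀ i, v i ≤ w i) :
    cl A (tauMap Q ρ u' w) = cl A (tauMap Q ρ v w) + cl A (tauMap Q ρ u' v) := by
  classical
  have one : ∀ {U V : Ideal C}, U ≤ V → ∀ x ∈ U, (1 : C) * x ∈ V := fun h x hx => by rw [one_mul]; exact h hx
  let X : ι → ℕ → Ideal C := fun i k => Xp (Q i) (ρ i) k
  let J : ∀ i, Pc (X i (v i)) (X i (w i)) →ₗ[C] Pc (X i (u' i)) (X i (w i)) := fun i =>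
    mulP 1 _ _ _ _ (one (Xp_anti (huv i))) (one le_rfl)
  let R : ∀ i, Pc (X i (u' i)) (X i (w i)) →ₗ[C] Pc (X i (u' i)) (X i (v i)) := fun i =>
    mulP 1 _ _ _ _ (one le_rfl) (one (Xp_anti (hvw i)))
  refine cl_shortExact A
    (mulP 1 (Iv Q ρ v) (Iv Q ρ w) (Iv Q ρ u') (Iv Q ρ w) (one (Iv_anti huv)) (one le_rfl))
    (mulP 1 (Iv Q ρ u') (Iv Q ρ w) (Iv Q ρ u') (Iv Q ρ v) (one le_rfl) (one (Iv_anti hvw)))
    (LinearMap.pi fun i => J i ∘ₗ LinearMap.proj i) (LinearMap.pi fun i => R i ∘ₗ LinearMap.proj i)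
    _ _ _ ?_ ?_ ?_ ?_ ?_ ?_ ?_ (tauMap_injective u' v)
  · intro z
    obtain ⟨x, rfl⟩ := Submodule.Quotient.mk_surjective _ z
    exact ⟨Submodule.Quotient.mk x, congrArg Submodule.Quotient.mk (Subtype.ext (one_mul x.1))⟩
  · intro z
    obtain ⟨x, rfl⟩ := Submodule.Quotient.mk_surjective _ z
    rw [mulP_mk, Submodule.Quotient.mk_eq_zero]
    show 1 * x.1 ∈ Iv Q ρ v ↔ _
    rw [one_mul]
    constructor
    · intro hx
      exact ⟨Submodule.Quotient.mk ⟨x.1, hx⟩, congrArg Submodule.Quotient.mk (Subtype.ext (one_mul x.1))⟩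
    · rintro ⟨y, hy⟩
      obtain ⟨y, rfl⟩ := Submodule.Quotient.mk_surjective _ y
      rw [mulP_mk] at hy
      have h0' := (Submodule.Quotient.eq _).1 hy
      have h0 : 1 * y.1 - x.1 ∈ Iv Q ρ w := h0'
      rw [one_mul] at h0
      simpa using (Iv Q ρ v).sub_mem y.2 (Iv_anti hvw h0)
  · intro x y hxy
    funext i
    exact mulP_injective 1 _ _ _ _ (one (Xp_anti (huv i))) (one le_rfl) (fun z _ hz => by rwa [one_mul] at hz) (congrFun hxy i)
  · intro y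
    have hs : ∀ i, Function.Surjective (R i) := fun i z => by
      obtain ⟨x, rfl⟩ := Submodule.Quotient.mk_surjective _ z
      exact ⟨Submodule.Quotient.mk x, congrArg Submodule.Quotient.mk (Subtype.ext (one_mul x.1))⟩
    choose x hx using fun i => hs i (y i)
    exact ⟨x, funext hx⟩
  · intro y
    have hex : ∀ i z, R i z = 0 → ∃ t, J i t = z := fun i z hz => by
      obtain ⟨x, rfl⟩ := Submodule.Quotient.mk_surjective _ z
      rw [mulP_mk, Submodule.Quotient.mk_eq_zero] at hz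
      have hz' : 1 * x.1 ∈ X i (v i) := hz
      rw [one_mul] at hz'
      exact ⟨Submodule.Quotient.mk ⟨x.1, hz'⟩, congrArg Submodule.Quotient.mk (Subtype.ext (one_mul x.1))⟩
    have hex' : ∀ i t, R i (J i t) = 0 := fun i t => by
      obtain ⟨x, rfl⟩ := Submodule.Quotient.mk_surjective _ t
      rw [mulP_mk, mulP_mk, Submodule.Quotient.mk_eq_zero]
      show 1 * (1 * x.1) ∈ X i (v i)
      rw [one_mul, one_mul]
      exact x.2
    constructor
    · intro hy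
      choose t ht using fun i => hex i (y i) (congrFun hy i)
      exact ⟨t, funext ht⟩
    · rintro ⟨t, rfl⟩
      exact funext fun i => hex' i (t i)
  · intro z
    obtain ⟨x, rfl⟩ := Submodule.Quotient.mk_surjective _ z
    funext i
    exact congrArg Submodule.Quotient.mk (Subtype.ext rfl)
  · intro z
    obtain ⟨x, rfl⟩ := Submodule.Quotient.mk_surjective _ z
    funext i
    exact congrArg Submodule.Quotient.mk (Subtype.ext rfl)

variable (hout : ∀ i, ∀ P : Ideal C, P.IsPrime → ¬ P.IsMaximal → P ≠ Q i → ∃ y ∈ Xp (Q i) (ρ i) 1, y ∉ P)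

variable (hinj : Function.Injective Q)

include hout hinj in
theorem cl_tauMap_zero_lt_top (v : ι → ℕ) : cl A (tauMap Q ρ (fun _ => 0) v) < ⊤ := by
  classical
  haveI : IsNoetherianRing C := isNoetherian_of_tower A inferInstance
  refine length_lt_top_of_locally_zero (C := C) A
    (((i : ι) → Pc (Xp (Q i) (ρ i) 0) (Xp (Q i) (ρ i) (v i))) ⧸ LinearMap.range (tauMap Q ρ (fun _ => 0) v)) ?_
  intro P hP hne z
  obtain ⟨z, rfl⟩ := Submodule.Quotient.mk_surjective _ z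
  choose x hx using fun i => Submodule.Quotient.mk_surjective _ (z i)
  -- an element outside `P` killing every component away from `P`
  have hc : ∀ i, ∃ c ∉ P, Q i ≠ P → c ∈ Xp (Q i) (ρ i) (v i) := fun i => by
    by_cases h : Q i = P
    · exact ⟨1, fun h1 => hP.ne_top ((Ideal.eq_top_iff_one _).2 h1), fun h' => absurd h h'⟩
    · obtain ⟨y, hy, hyP⟩ := hout i P hP hne (Ne.symm h)
      exact ⟨y ^ v i, fun h1 => hyP (hP.mem_of_pow_mem _ h1), fun _ => pow_mem_Xp hy (v i)⟩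
  choose c hcP hcX using hc
  refine ⟨∏ i, c i, fun h => ?_, ?_⟩
  · obtain ⟨i, -, hi⟩ := (Ideal.IsPrime.prod_mem_iff (hp := hP)).1 h
    exact hcP i hi
  rw [← Submodule.Quotient.mk_smul, Submodule.Quotient.mk_eq_zero]
  by_cases hi₀ : ∃ i, Q i = P
  · obtain ⟨i₀, hi₀⟩ := hi₀
    refine ⟨(∏ i, c i) • Submodule.Quotient.mk ⟨(x i₀).1, by rw [Iv_zero]; trivial⟩, funext fun i => ?_⟩
    rw [map_smul, Pi.smul_apply, tauMap, piP_mk, Pi.smul_apply, ← hx i, ← Submodule.Quotient.mk_smul,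
      ← Submodule.Quotient.mk_smul, Submodule.Quotient.eq]
    show (∏ i, c i) * (x i₀).1 - (∏ i, c i) * (x i).1 ∈ Xp (Q i) (ρ i) (v i)
    by_cases hi : Q i = P
    · obtain rfl : i = i₀ := hinj (hi.trans hi₀.symm)
      rw [sub_self]; exact Submodule.zero_mem _
    · rw [← mul_sub]
      exact Ideal.mul_mem_right _ _ (Ideal.mem_of_dvd _ (Finset.dvd_prod_of_mem c (Finset.mem_univ i)) (hcX i hi))
  · refine ⟨0, funext fun i => ?_⟩
    rw [map_zero, Pi.zero_apply, Pi.smul_apply, ← hx i, ← Submodule.Quotient.mk_smul, eq_comm,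
      Submodule.Quotient.mk_eq_zero]
    show (∏ i, c i) * (x i).1 ∈ Xp (Q i) (ρ i) (v i)
    exact Ideal.mul_mem_right _ _ (Ideal.mem_of_dvd _ (Finset.dvd_prod_of_mem c (Finset.mem_univ i)) (hcX i fun h => hi₀ ⟨i, h⟩))

variable {a b : C} {e f : ι → ℕ}
variable (hρ : ∀ i, algebraMap C (Localization.AtPrime (Q i)) (ρ i) ∈ nonZeroDivisors (Localization.AtPrime (Q i)))

include hout hρ hinj in
/-- The local contributions cancel. -/
theorem global_identity (ha : a ∈ nonZeroDivisors C) (hb : b ∈ nonZeroDivisors C)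
    (hea : ∀ i, Rel (Q i) (ρ i) a (e i)) (hfb : ∀ i, Rel (Q i) (ρ i) b (f i))
    (hnon : ∀ P : Ideal C, P.IsPrime → ¬ P.IsMaximal → (∀ i, P ≠ Q i) → a ∉ P ∧ b ∉ P) :
    ∑ i, (((clP A a (Xp (Q i) (ρ i) 0) (Xp (Q i) (ρ i) (e i)) (Xp (Q i) (ρ i) (f i + e i))).toNat : ℤ) -
      (clP A b (Xp (Q i) (ρ i) 0) (Xp (Q i) (ρ i) (f i)) (Xp (Q i) (ρ i) (e i + f i))).toNat) = 0 := by
  classical
  let n : ι → ℕ := fun i => f i + e i
  let z : ι → ℕ := fun _ => 0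
  have sA : ∀ (v w : ι → ℕ), (∀ i, v i + e i = w i) → ∀ x ∈ Iv Q ρ v, a * x ∈ Iv Q ρ w := fun v w h x hx =>
    mem_Iv.2 fun i => (hea i).shift (h i) (mem_Iv.1 hx i)
  have sB : ∀ (v w : ι → ℕ), (∀ i, v i + f i = w i) → ∀ x ∈ Iv Q ρ v, b * x ∈ Iv Q ρ w := fun v w h x hx =>
    mem_Iv.2 fun i => (hfb i).shift (h i) (mem_Iv.1 hx i)
  have rA : ∀ (v w : ι → ℕ), (∀ i, v i + e i = w i) → ∀ x, a * x ∈ Iv Q ρ w → x ∈ Iv Q ρ v := fun v w h x hx =>
    mem_Iv.2 fun i => (hea i).reflect (hρ i) (h i) (mem_Iv.1 hx i)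
  have rB : ∀ (v w : ι → ℕ), (∀ i, v i + f i = w i) → ∀ x, b * x ∈ Iv Q ρ w → x ∈ Iv Q ρ v := fun v w h x hx =>
    mem_Iv.2 fun i => (hfb i).reflect (hρ i) (h i) (mem_Iv.1 hx i)
  have zbot : ∀ (c : C), ∀ x ∈ (⊥ : Ideal C), c * x ∈ (⊥ : Ideal C) := fun c x hx => by
    rw [Submodule.mem_bot] at hx ⊢; rw [hx, mul_zero]
  -- finiteness of the full cokernels
  have fin : ∀ (c : C) (g : ι → ℕ), (∀ i, Rel (Q i) (ρ i) c (g i)) →
      (∀ P : Ideal C, P.IsPrime → ¬ P.IsMaximal → (∀ i, P ≠ Q i) → c ∉ P) →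
      clP A c (Iv Q ρ z) (Iv Q ρ g) ⊥ < ⊤ := by
    intro c g hc hn
    refine clP_lt_top A c _ _ _ fun P hP hne x hx => ?_
    by_cases h : ∃ i, Q i = P
    · obtain ⟨i, rfl⟩ := h
      obtain ⟨s, hs, r, hr, he⟩ := hc i
      obtain ⟨t, ht, y, hy⟩ := mem_Xp.1 (mem_Iv.1 hx i)
      refine ⟨t * r, hP.mul_notMem ht hr, s * y, by rw [Iv_zero]; trivial, 0, Submodule.zero_mem _, ?_⟩
      linear_combination r * hy - y * he
    · exact ⟨c, hn P hP hne (fun i hi => h ⟨i, hi.symm⟩), x, by rw [Iv_zero]; trivial, 0, Submodule.zero_mem _,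
        (add_zero _).symm⟩
  have cA : clP A a (Iv Q ρ z) (Iv Q ρ e) ⊥ =
      clP A a (Iv Q ρ f) (Iv Q ρ n) ⊥ + clP A a (Iv Q ρ z) (Iv Q ρ e) (Iv Q ρ n) :=
    clP_chain A a (Iv Q ρ z) (Iv Q ρ f) ⊥ (Iv Q ρ e) (Iv Q ρ n) ⊥ (Iv_anti fun i => Nat.zero_le _) bot_le
      (Iv_anti fun i => Nat.le_add_left _ _) bot_le (sA z e fun i => zero_add _) (sA f n fun i => rfl) (zbot a)
      (fun x _ => rA f n (fun i => rfl) x)
  have cB : clP A b (Iv Q ρ z) (Iv Q ρ f) ⊥ =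
      clP A b (Iv Q ρ e) (Iv Q ρ n) ⊥ + clP A b (Iv Q ρ z) (Iv Q ρ f) (Iv Q ρ n) :=
    clP_chain A b (Iv Q ρ z) (Iv Q ρ e) ⊥ (Iv Q ρ f) (Iv Q ρ n) ⊥ (Iv_anti fun i => Nat.zero_le _) bot_le
      (Iv_anti fun i => Nat.le_add_right _ _) bot_le (sB z f fun i => zero_add _) (sB e n fun i => add_comm _ _)
      (zbot b) (fun x _ => rB e n (fun i => add_comm _ _) x)
  have inj : ∀ (c : C), c ∈ nonZeroDivisors C → ∀ x, c * x ∈ (⊥ : Ideal C) → x ∈ (⊥ : Ideal C) := fun c hc x hx => by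
    rw [Submodule.mem_bot] at hx ⊢
    exact (mul_cancel_left_mem_nonZeroDivisors hc).1 (hx.trans (mul_zero c).symm)
  have m1 : clP A (a * b) (Iv Q ρ z) (Iv Q ρ n) ⊥ =
      clP A a (Iv Q ρ f) (Iv Q ρ n) ⊥ + clP A b (Iv Q ρ z) (Iv Q ρ f) ⊥ :=
    clP_mul A b a (Iv Q ρ z) ⊥ (Iv Q ρ f) ⊥ (Iv Q ρ n) ⊥ bot_le bot_le (sB z f fun i => zero_add _) (zbot b)
      (sA f n fun i => rfl) (zbot a) (fun x _ => inj a ha x)
  have m2 : clP A (b * a) (Iv Q ρ z) (Iv Q ρ n) ⊥ =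
      clP A b (Iv Q ρ e) (Iv Q ρ n) ⊥ + clP A a (Iv Q ρ z) (Iv Q ρ e) ⊥ :=
    clP_mul A a b (Iv Q ρ z) ⊥ (Iv Q ρ e) ⊥ (Iv Q ρ n) ⊥ bot_le bot_le (sA z e fun i => zero_add _) (zbot a)
      (sB e n fun i => add_comm _ _) (zbot b) (fun x _ => inj b hb x)
  rw [mul_comm b a, m1] at m2
  have fA := fin a e hea fun P hP hne h => (hnon P hP hne h).1
  have fB := fin b f hfb fun P hP hne h => (hnon P hP hne h).2
  rw [cA] at fA m2
  rw [cB] at fB m2
  rw [ENat.add_lt_top] at fA fB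
  have hG : (clP A a (Iv Q ρ z) (Iv Q ρ e) (Iv Q ρ n)).toNat = (clP A b (Iv Q ρ z) (Iv Q ρ f) (Iv Q ρ n)).toNat := by
    have h := congrArg ENat.toNat m2
    rw [ENat.toNat_add fA.1.ne (ENat.add_lt_top.2 fB).ne, ENat.toNat_add fB.1.ne fB.2.ne,
      ENat.toNat_add fB.1.ne (ENat.add_lt_top.2 fA).ne, ENat.toNat_add fA.1.ne fA.2.ne] at h
    omega
  -- comparison with the local pieces
  have square : ∀ (c : C) (g g' : ι → ℕ) (hc : ∀ i, Rel (Q i) (ρ i) c (g i)) (hgg : ∀ i, g' i + g i = n i),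
      (∑ i, clP A c (Xp (Q i) (ρ i) 0) (Xp (Q i) (ρ i) (g i)) (Xp (Q i) (ρ i) (n i))) + cl A (tauMap Q ρ z g') =
        cl A (tauMap Q ρ g n) + clP A c (Iv Q ρ z) (Iv Q ρ g) (Iv Q ρ n) := by
    intro c g g' hc hgg
    have s0 : ∀ x ∈ Iv Q ρ z, c * x ∈ Iv Q ρ g := fun x hx =>
      mem_Iv.2 fun i => (hc i).shift (zero_add _) (mem_Iv.1 hx i)
    have s1 : ∀ x ∈ Iv Q ρ g', c * x ∈ Iv Q ρ n := fun x hx =>
      mem_Iv.2 fun i => (hc i).shift (hgg i) (mem_Iv.1 hx i)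
    let L : ∀ i, Pc (Xp (Q i) (ρ i) 0) (Xp (Q i) (ρ i) (g' i)) →ₗ[C] Pc (Xp (Q i) (ρ i) (g i)) (Xp (Q i) (ρ i) (n i)) :=
      fun i => mulP c _ _ _ _ (fun x => (hc i).shift (zero_add _)) (fun x => (hc i).shift (hgg i))
    have hL : ∀ i, Function.Injective (L i) := fun i =>
      mulP_injective c _ _ _ _ _ _ fun x _ => (hc i).reflect (hρ i) (hgg i)
    have hgn : ∀ i, g i ≤ n i := fun i => by have := hgg i; omega
    have hpi : Function.Injective (LinearMap.pi fun i => L i ∘ₗ LinearMap.proj i) := fun x y h =>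
      funext fun i => hL i (congrFun h i)
    have e1 : (∑ i, clP A c (Xp (Q i) (ρ i) 0) (Xp (Q i) (ρ i) (g i)) (Xp (Q i) (ρ i) (n i))) =
        cl A (LinearMap.pi fun i => L i ∘ₗ LinearMap.proj i) := by
      rw [cl_pi]
      exact Finset.sum_congr rfl fun i _ => (cl_mulP A c _ _ _ _ (Xp_anti (hgn i)) _ _).symm
    rw [e1, ← cl_mulP A c (Iv Q ρ z) (Iv Q ρ g') (Iv Q ρ g) (Iv Q ρ n) (Iv_anti hgn) s0 s1,
      ← cl_comp A _ _ hpi, ← cl_comp A _ _ (tauMap_injective g n)]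
    congr 1
    refine Submodule.linearMap_qext _ (LinearMap.ext fun x => funext fun i => ?_)
    simp only [LinearMap.comp_apply, LinearMap.pi_apply, LinearMap.proj_apply, Submodule.mkQ_apply, tauMap, piP_mk, mulP_mk, L]
  have hsqA := square a e f hea fun i => rfl
  have hsqB := square b f e hfb fun i => add_comm _ _
  have tA := cl_tauMap_add A (Q := Q) (ρ := ρ) (u' := z) (v := e) (w := n) (fun i => Nat.zero_le _)
    (fun i => Nat.le_add_left _ _)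
  have tB := cl_tauMap_add A (Q := Q) (ρ := ρ) (u' := z) (v := f) (w := n) (fun i => Nat.zero_le _)
    (fun i => Nat.le_add_right _ _)
  have dn := cl_tauMap_zero_lt_top A hout hinj n
  have de := cl_tauMap_zero_lt_top A hout hinj e
  have df := cl_tauMap_zero_lt_top A hout hinj f
  have ten : cl A (tauMap Q ρ e n) < ⊤ := lt_of_le_of_lt le_self_add (lt_of_eq_of_lt tA.symm dn)
  have tfn : cl A (tauMap Q ρ f n) < ⊤ := lt_of_le_of_lt le_self_add (lt_of_eq_of_lt tB.symm dn)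
  have SA : (∑ i, clP A a (Xp (Q i) (ρ i) 0) (Xp (Q i) (ρ i) (e i)) (Xp (Q i) (ρ i) (n i))) < ⊤ :=
    lt_of_le_of_lt le_self_add (lt_of_eq_of_lt hsqA (ENat.add_lt_top.2 ⟨ten, fA.2⟩))
  have SB : (∑ i, clP A b (Xp (Q i) (ρ i) 0) (Xp (Q i) (ρ i) (f i)) (Xp (Q i) (ρ i) (n i))) < ⊤ :=
    lt_of_le_of_lt le_self_add (lt_of_eq_of_lt hsqB (ENat.add_lt_top.2 ⟨tfn, fB.2⟩))
  have hA' := congrArg ENat.toNat hsqA
  have hB' := congrArg ENat.toNat hsqB
  have tA' := congrArg ENat.toNat tA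
  have tB' := congrArg ENat.toNat tB
  rw [ENat.toNat_add SA.ne df.ne, ENat.toNat_add ten.ne fA.2.ne, hG] at hA'
  rw [ENat.toNat_add SB.ne de.ne, ENat.toNat_add tfn.ne fB.2.ne] at hB'
  rw [ENat.toNat_add ten.ne de.ne] at tA'
  rw [ENat.toNat_add tfn.ne df.ne] at tB'
  have key : (∑ i, clP A a (Xp (Q i) (ρ i) 0) (Xp (Q i) (ρ i) (e i)) (Xp (Q i) (ρ i) (n i))).toNat =
      (∑ i, clP A b (Xp (Q i) (ρ i) 0) (Xp (Q i) (ρ i) (f i)) (Xp (Q i) (ρ i) (n i))).toNat := by omega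
  rw [ENat.toNat_sum fun i hi => ne_top_of_le_ne_top SA.ne (Finset.single_le_sum (fun _ _ => bot_le) hi),
    ENat.toNat_sum fun i hi => ne_top_of_le_ne_top SB.ne (Finset.single_le_sum (fun _ _ => bot_le) hi)] at key
  rw [Finset.sum_sub_distrib, sub_eq_zero, ← Nat.cast_sum, ← Nat.cast_sum, Nat.cast_inj, key]
  exact Finset.sum_congr rfl fun i _ => by rw [add_comm (e i) (f i)]

end TameLib.Gap
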