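import Mathlib
import Groth.Agent.TameLib.NormOrd

/-! # The order of the norm of a residue -/

set_option autoImplicit false
set_option linter.style.haveILetI false
set_option linter.unusedSectionVars false

universe u

namespace TameLib

variable {A : Type u} [CommRing A] [IsLocalRing A] [IsNoetherianRing A] {C : Type u} [CommRing C] [Algebra A C]
  [Module.Finite A C]

theorem ordFrac_norm_residue (q : Ideal A) [q.IsPrime] [Ring.KrullDimLE 1 (A ⧸ q)] (Q : Ideal C) [Q.IsPrime]
    (hQ : Q.comap (algebraMap A C) = q) (L : Type u) [Field L] [Algebra C L] [Algebra q.ResidueField L]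
    [FiniteDimensional q.ResidueField L]
    (hcomm : ∀ x : A, algebraMap C L (algebraMap A C x) = algebraMap q.ResidueField L (algebraMap A q.ResidueField x))
    (hker : ∀ c : C, algebraMap C L c = 0 ↔ c ∈ Q)
    (hfrac : ∀ z : L, ∃ c : C, ∃ d ∉ Q, z * algebraMap C L d = algebraMap C L c) {r : C} (hr : r ∉ Q) :
    ((Module.length A (C ⧸ (Ideal.span {r} ⊔ Q))).toNat : ℤ) =
      CycAlg.ordFrac (A ⧸ q) q.ResidueField (Algebra.norm q.ResidueField (algebraMap C L r)) := by
  haveI : Nontrivial (A ⧸ q) := Ideal.Quotient.nontrivial_iff.2 ‹q.IsPrime›.ne_top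
  haveI : IsLocalRing (A ⧸ q) := IsLocalRing.of_surjective' (Ideal.Quotient.mk q) Ideal.Quotient.mk_surjective
  letI : Algebra (A ⧸ q) (C ⧸ Q) := (Ideal.quotientMap Q (algebraMap A C) hQ.ge).toAlgebra
  haveI : IsScalarTower A (A ⧸ q) (C ⧸ Q) := IsScalarTower.of_algebraMap_eq fun _ => rfl
  haveI : Module.Finite (A ⧸ q) (C ⧸ Q) := Module.Finite.of_restrictScalars_finite A _ _
  have hinj : Function.Injective (algebraMap (A ⧸ q) (C ⧸ Q)) :=
    Ideal.quotientMap_injective' (f := algebraMap A C) (J := q) (I := Q) (H := hQ.ge) hQ.le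
  letI : Algebra (C ⧸ Q) L := (Ideal.Quotient.lift Q (algebraMap C L) fun c hc => (hker c).2 hc).toAlgebra
  letI : Algebra (A ⧸ q) L := ((algebraMap q.ResidueField L).comp (algebraMap (A ⧸ q) q.ResidueField)).toAlgebra
  haveI : IsScalarTower (A ⧸ q) q.ResidueField L := IsScalarTower.of_algebraMap_eq fun _ => rfl
  haveI : IsScalarTower (A ⧸ q) (C ⧸ Q) L := IsScalarTower.of_algebraMap_eq fun x => by
    obtain ⟨x, rfl⟩ := Ideal.Quotient.mk_surjective x
    exact (hcomm x).symm
  have hne : ∀ c : C, c ∉ Q → algebraMap C L c ≠ 0 := fun c hc h => hc ((hker c).1 h)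
  haveI : IsFractionRing (C ⧸ Q) L :=
    { map_units := fun y => by
        obtain ⟨c, hc⟩ := Ideal.Quotient.mk_surjective (y : C ⧸ Q)
        rw [← hc]
        refine isUnit_iff_ne_zero.2 (hne c fun h => nonZeroDivisors.ne_zero y.2 ?_)
        rw [← hc, Ideal.Quotient.eq_zero_iff_mem]
        exact h
      surj := fun z => by
        obtain ⟨c, d, hd, h⟩ := hfrac z
        exact ⟨⟨Ideal.Quotient.mk Q c, ⟨Ideal.Quotient.mk Q d, mem_nonZeroDivisors_of_ne_zero fun h0 =>
          hd (Ideal.Quotient.eq_zero_iff_mem.1 h0)⟩⟩, h⟩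
      exists_of_eq := fun {x y} e => by
        obtain ⟨x, rfl⟩ := Ideal.Quotient.mk_surjective x
        obtain ⟨y, rfl⟩ := Ideal.Quotient.mk_surjective y
        have e' : algebraMap C L x = algebraMap C L y := e
        exact ⟨1, congrArg _ ((Ideal.Quotient.mk_eq_mk_iff_sub_mem x y).2 ((hker _).1 (by rw [map_sub, e', sub_self])))⟩ }
  have h := (length_quot_span_eq_ordFrac_norm hinj q.ResidueField L (Ideal.Quotient.mk Q r)
    (fun h0 => hr (Ideal.Quotient.eq_zero_iff_mem.1 h0))).2
  have e1 : Module.length A (C ⧸ (Ideal.span {r} ⊔ Q)) =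
      Module.length A ((C ⧸ Q) ⧸ Ideal.span {Ideal.Quotient.mk Q r}) := by
    refine (LinearEquiv.length_eq ?_).symm
    exact (Ideal.quotientEquivAlgOfEq A (by rw [Ideal.map_span, Set.image_singleton]; rfl :
        Ideal.span {Ideal.Quotient.mk Q r} = (Ideal.span {r}).map (Ideal.Quotient.mkₐ A Q))).toLinearEquiv.trans
      ((DoubleQuot.quotQuotEquivQuotSupₐ A Q (Ideal.span {r})).trans
        (Ideal.quotientEquivAlgOfEq A (sup_comm Q (Ideal.span {r})))).toLinearEquiv
  have e2 : Module.length A ((C ⧸ Q) ⧸ Ideal.span {Ideal.Quotient.mk Q r}) =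
      Module.length (A ⧸ q) ((C ⧸ Q) ⧸ Ideal.span {Ideal.Quotient.mk Q r}) :=
    Module.length_eq_of_surjective Ideal.Quotient.mk_surjective
  rw [e1, e2]
  exact h

end TameLib
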