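import Mathlib
import Groth.Agent.TameLib.Main
import Groth.Agent.TameLib.Down
import Groth.Agent.TameLib.GapWeight
import Groth.Agent.TameLib.GapNorm

/-! # The data at one height one prime of `A` -/

set_option autoImplicit false
set_option linter.style.haveILetI false
set_option linter.unusedSectionVars false
set_option maxHeartbeats 1000000

universe u

open IsLocalRing

namespace TameLib.Gap

theorem incomp {A C : Type u} [CommRing A] [CommRing C] [Algebra A C] [Algebra.IsIntegral A C] {P Q : Ideal C}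
    [P.IsPrime] (h : P ≤ Q) (hc : Q.comap (algebraMap A C) ≤ P.comap (algebraMap A C)) : P = Q := by
  refine le_antisymm h fun x hx => ?_
  by_contra hxP
  exact (Ideal.comap_lt_comap_of_integral_mem_sdiff (R := A) h ⟨hx, hxP⟩ (Algebra.IsIntegral.isIntegral x)).not_ge hc

variable {A : Type u} [CommRing A] (q : Ideal A) [q.IsPrime]

/-- From the total fraction ring to that of a localisation. -/
noncomputable def tau : Tot A →ₐ[A] Tot (Localization.AtPrime q) :=
  IsLocalization.liftAlgHom (M := nonZeroDivisors A) (f := Algebra.ofId A (Tot (Localization.AtPrime q))) fun y => by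
    show IsUnit (algebraMap A (Tot (Localization.AtPrime q)) y)
    rw [IsScalarTower.algebraMap_apply A (Localization.AtPrime q) (Tot (Localization.AtPrime q))]
    exact IsLocalization.map_units (Tot (Localization.AtPrime q)) (⟨_, IsLocalization.map_nonZeroDivisors_le q.primeCompl _ (Submonoid.mem_map_of_mem _ y.2)⟩ : nonZeroDivisors (Localization.AtPrime q))

theorem tau_eq_zero {y : Tot A} (h : tau q y = 0) : ∃ s ∉ q, algebraMap A (Tot A) s * y = 0 := by
  obtain ⟨c, d, rfl⟩ := IsLocalization.exists_mk'_eq (nonZeroDivisors A) y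
  have h1 : tau q (algebraMap A (Tot A) c) = 0 := by
    rw [← IsLocalization.mk'_spec (Tot A) c d, map_mul, h, zero_mul]
  rw [AlgHom.commutes, IsScalarTower.algebraMap_apply A (Localization.AtPrime q) (Tot (Localization.AtPrime q)),
    ← map_zero (algebraMap (Localization.AtPrime q) (Tot (Localization.AtPrime q)))] at h1
  obtain ⟨⟨s, hs⟩, hsc⟩ := (IsLocalization.map_eq_zero_iff q.primeCompl (Localization.AtPrime q) c).1
    (IsLocalization.injective (Tot (Localization.AtPrime q)) le_rfl h1)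
  exact ⟨s, hs, by rw [IsLocalization.mul_mk'_eq_mk'_of_mul, show s * c = 0 from hsc, IsLocalization.mk'_zero]⟩

theorem exists_integral_lift [IsNoetherianRing A] [Ring.KrullDimLE 1 (Localization.AtPrime q)] {t : A}
    (ht : t ∈ nonZeroDivisors A) (htq : t ∈ q) {x : Tot (Localization.AtPrime q)}
    (hx : IsIntegral (Localization.AtPrime q) x) :
    ∃ (w : Tot A) (v : A), v ∉ q ∧ IsIntegral A w ∧ tau q w = algebraMap A _ v * x ∧
      ∃ (K : ℕ) (c : A), w * algebraMap A (Tot A) (t ^ K) = algebraMap A (Tot A) c := by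
  let Aq := Localization.AtPrime q
  obtain ⟨α, β, rfl⟩ := IsLocalization.exists_mk'_eq (nonZeroDivisors Aq) x
  obtain ⟨K, hK⟩ := exists_pow_le_span β.2
  obtain ⟨γ, hγ⟩ := Ideal.mem_span_singleton'.1 (hK (Ideal.pow_mem_pow
    ((IsLocalization.AtPrime.to_map_mem_maximal_iff Aq q t).2 htq) K))
  obtain ⟨α₀, ⟨s, hs⟩, hα⟩ := IsLocalization.exists_mk'_eq q.primeCompl (α * γ)
  set x := IsLocalization.mk' (Tot Aq) α β with hxdef
  obtain ⟨u, hu⟩ := IsLocalization.map_units (Tot A) (⟨t ^ K, pow_mem ht K⟩ : nonZeroDivisors A)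
  let z : Tot A := algebraMap A (Tot A) α₀ * ↑u⁻¹
  have hz : tau q z = algebraMap A (Tot Aq) s * x := by
    have h1 : z * algebraMap A (Tot A) (t ^ K) = algebraMap A (Tot A) α₀ := by
      rw [← hu]; exact Units.inv_mul_cancel_right _ u
    have h2 := congrArg (tau q) h1
    rw [map_mul, AlgHom.commutes, AlgHom.commutes] at h2
    have hu' : IsUnit (algebraMap A (Tot Aq) (t ^ K)) := by
      rw [← AlgHom.commutes (tau q), ← hu]
      exact u.isUnit.map _
    refine hu'.mul_left_inj.1 ?_
    rw [h2, IsScalarTower.algebraMap_apply A Aq (Tot Aq) α₀, IsScalarTower.algebraMap_apply A Aq (Tot Aq) (t ^ K),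
      IsScalarTower.algebraMap_apply A Aq (Tot Aq) s,
      ← IsLocalization.mk'_spec Aq α₀ (⟨s, hs⟩ : q.primeCompl), hα, map_pow, ← hγ, map_mul, map_mul, map_mul,
      ← IsLocalization.mk'_spec (Tot Aq) α β]
    ring
  have hzint : IsIntegral Aq (tau q z) := by
    rw [hz, IsScalarTower.algebraMap_apply A Aq (Tot Aq)]
    exact isIntegral_algebraMap.mul hx
  obtain ⟨⟨m, hm⟩, hmint⟩ := IsIntegral.exists_multiple_integral_of_isLocalization q.primeCompl (tau q z) hzint
  obtain ⟨P, hP, hP0⟩ := hmint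
  let y : Tot A := algebraMap A (Tot A) m * z
  have hy : tau q y = m • tau q z := by rw [map_mul, AlgHom.commutes, Algebra.smul_def]
  have hPy : tau q (Polynomial.aeval y P) = 0 := by
    rw [← Polynomial.aeval_algHom_apply, hy, Polynomial.aeval_def]
    exact hP0
  obtain ⟨s'', hs'', hs0⟩ := tau_eq_zero q hPy
  refine ⟨algebraMap A (Tot A) s'' * y, s'' * m * s,
    ‹q.IsPrime›.mul_notMem (‹q.IsPrime›.mul_notMem hs'' hm) hs, ?_, ?_, K, s'' * (m * α₀), ?_⟩
  · rcases Nat.eq_zero_or_pos P.natDegree with h0 | hpos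
    · have hP1 : P = 1 := hP.natDegree_eq_zero.1 h0
      rw [hP1, map_one, mul_one] at hs0
      rw [hs0, zero_mul]
      exact isIntegral_zero
    · refine ⟨P.scaleRoots s'', (Polynomial.monic_scaleRoots_iff s'').2 hP, ?_⟩
      rw [Polynomial.scaleRoots_eval₂_mul]
      obtain ⟨k, hk⟩ := Nat.exists_eq_succ_of_ne_zero hpos.ne'
      rw [hk, pow_succ, mul_assoc, show Polynomial.eval₂ (algebraMap A (Tot A)) y P = Polynomial.aeval y P from rfl,
        hs0, mul_zero]
  · rw [map_mul, AlgHom.commutes, hy, hz, Algebra.smul_def, map_mul, map_mul]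
    ring
  · rw [map_mul, map_mul, mul_assoc, mul_assoc]
    congr 2
    rw [← hu]
    exact Units.inv_mul_cancel_right _ u

theorem exists_local_data [IsLocalRing A] [IsNoetherianRing A] [Ring.KrullDimLE 1 (Localization.AtPrime q)]
    [Ring.KrullDimLE 1 (A ⧸ q)] {a b : A} (ha : a ∈ nonZeroDivisors A) (hb : b ∈ nonZeroDivisors A) (htq : a * b ∈ q) :
    ∃ W : Finset (Tot A), (∀ w ∈ W, IsIntegral A w) ∧
      ∀ (C : Type u) [CommRing C] [Algebra A C] [Module.Finite A C] (f : C →ₐ[A] Tot A), Function.Injective f →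
        (∀ w ∈ W, w ∈ f.range) →
        ∃ (ι : Type u) (_ : Fintype ι) (Q : ι → Ideal C) (_ : ∀ i, (Q i).IsPrime) (ρ : ι → C) (e e' : ι → ℕ)
          (sa ra sb rb : ι → C),
          Function.Injective Q ∧ (∀ i, (Q i).comap (algebraMap A C) = q) ∧
          (∀ P : Ideal C, P.IsPrime → P.comap (algebraMap A C) = q → ∃ i, Q i = P) ∧
          (∀ i, sa i ∉ Q i ∧ ra i ∉ Q i ∧ sb i ∉ Q i ∧ rb i ∉ Q i) ∧
          (∀ i, sa i * algebraMap A C a = ra i * ρ i ^ e i) ∧
          (∀ i, sb i * algebraMap A C b = rb i * ρ i ^ e' i) ∧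
          (∀ i, algebraMap C (Localization.AtPrime (Q i)) (ρ i) ∈ nonZeroDivisors (Localization.AtPrime (Q i))) ∧
          (∀ i, ∀ P : Ideal C, P.IsPrime → ¬ P.IsMaximal → P ≠ Q i → ∃ y ∈ Xp (Q i) (ρ i) 1, y ∉ P) ∧
          CycAlg.ordFrac (A ⧸ q) q.ResidueField (CycAlg.tameSymbol (Localization.AtPrime q)
              (algebraMap A (Localization.AtPrime q) a) (algebraMap A (Localization.AtPrime q) b)) =
            ∑ i, ((e' i : ℤ) * (((step A (Q i) (ρ i) (ra i) 0 0).toNat : ℤ) - (step A (Q i) (ρ i) (sa i) 0 0).toNat) -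
              (e i : ℤ) * (((step A (Q i) (ρ i) (rb i) 0 0).toNat : ℤ) - (step A (Q i) (ρ i) (sb i) 0 0).toNat)) := by
  classical
  let Aq := Localization.AtPrime q
  have hnzd : ∀ x ∈ nonZeroDivisors A, algebraMap A Aq x ∈ nonZeroDivisors Aq := fun x hx =>
    IsLocalization.map_nonZeroDivisors_le q.primeCompl _ (Submonoid.mem_map_of_mem _ hx)
  have ha' := hnzd a ha
  have hb' := hnzd b hb
  obtain ⟨C₀, hC₀, hval⟩ := tameSymbol_eventually _ _ ha' hb'
  obtain ⟨C₁, hC₁, hsep⟩ := exists_separating {algebraMap A Aq a, algebraMap A Aq b} (by simp [ha', hb'])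
  haveI := finite_sup_subalgebra C₀ C₁
  obtain ⟨G, hG⟩ := (Module.Finite.iff_fg.1 ‹Module.Finite Aq ↥(C₀ ⊔ C₁)› :
    (Subalgebra.toSubmodule (C₀ ⊔ C₁)).FG)
  have hint : ∀ x ∈ G, IsIntegral Aq x := fun x hx => by
    have hxB : x ∈ C₀ ⊔ C₁ := by
      rw [← Subalgebra.mem_toSubmodule, ← hG]; exact Submodule.subset_span hx
    exact (Algebra.IsIntegral.isIntegral (R := Aq) (⟨x, hxB⟩ : ↥(C₀ ⊔ C₁))).map (C₀ ⊔ C₁).val
  choose w v hv hwint hw _hK using fun x : G => exists_integral_lift q (mul_mem ha hb) htq (hint x x.2)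
  refine ⟨Finset.univ.image w, Finset.forall_mem_image.2 fun x _ => hwint x, fun C _ _ _ f hf hW => ?_⟩
  haveI : Algebra.IsIntegral A C := Algebra.IsIntegral.of_finite A C
  haveI : IsNoetherianRing C := isNoetherian_of_tower A inferInstance
  let M := Algebra.algebraMapSubmonoid C q.primeCompl
  let Cq := Localization M
  haveI : Module.Finite Aq Cq := Module.Finite.of_isLocalization A C q.primeCompl
  haveI : Algebra.IsIntegral Aq Cq := Algebra.IsIntegral.of_finite Aq Cq
  -- the embedding of `Cq`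
  let g₀ : Cq →+* Tot Aq := IsLocalization.lift (M := M) (g := (tau q).toRingHom.comp f.toRingHom) (by
    rintro ⟨_, s, hs, rfl⟩
    show IsUnit (tau q (f (algebraMap A C s)))
    rw [AlgHom.commutes, AlgHom.commutes, IsScalarTower.algebraMap_apply A Aq (Tot Aq)]
    exact (IsLocalization.map_units Aq (⟨s, hs⟩ : q.primeCompl)).map _)
  have hg₀ : ∀ c, g₀ (algebraMap C Cq c) = tau q (f c) := fun c => IsLocalization.lift_eq _ c
  have hACq : ∀ x : A, algebraMap Aq Cq (algebraMap A Aq x) = algebraMap C Cq (algebraMap A C x) := fun x => by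
    rw [← IsScalarTower.algebraMap_apply A Aq Cq, ← IsScalarTower.algebraMap_apply A C Cq]
  let g : Cq →ₐ[Aq] Tot Aq :=
    { g₀ with
      commutes' := fun r => by
        refine RingHom.congr_fun (IsLocalization.ringHom_ext q.primeCompl (j := g₀.comp (algebraMap Aq Cq))
          (k := algebraMap Aq (Tot Aq)) (RingHom.ext fun x => ?_)) r
        show g₀ (algebraMap Aq Cq (algebraMap A Aq x)) = algebraMap Aq (Tot Aq) (algebraMap A Aq x)
        rw [hACq, hg₀, AlgHom.commutes, AlgHom.commutes, ← IsScalarTower.algebraMap_apply A Aq (Tot Aq)] }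
  have hginj : Function.Injective g := by
    rw [injective_iff_map_eq_zero]
    intro z hz
    obtain ⟨c, d, rfl⟩ := IsLocalization.exists_mk'_eq M z
    have h1 : tau q (f c) = 0 := by
      rw [← hg₀, ← IsLocalization.mk'_spec Cq c d, map_mul]
      rw [show g₀ (IsLocalization.mk' Cq c d) = 0 from hz, zero_mul]
    obtain ⟨s, hs, hsc⟩ := tau_eq_zero q h1
    rw [IsLocalization.mk'_eq_zero_iff]
    exact ⟨⟨algebraMap A C s, s, hs, rfl⟩, hf (by rw [map_mul, AlgHom.commutes, hsc, map_zero])⟩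
  have hrange : C₀ ⊔ C₁ ≤ g.range := by
    intro x hx
    rw [← Subalgebra.mem_toSubmodule, ← hG] at hx
    refine (Submodule.span_le.2 ?_ : Submodule.span Aq (G : Set (Tot Aq)) ≤ Subalgebra.toSubmodule g.range) hx
    intro y hy
    obtain ⟨c, hc⟩ := hW (w ⟨y, hy⟩) (Finset.mem_image_of_mem _ (Finset.mem_univ _))
    obtain ⟨uv, huv⟩ := IsLocalization.map_units Aq (⟨v ⟨y, hy⟩, hv _⟩ : q.primeCompl)
    refine ⟨(↑uv⁻¹ : Aq) • algebraMap C Cq c, ?_⟩
    show g ((↑uv⁻¹ : Aq) • algebraMap C Cq c) = y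
    rw [map_smul, show g (algebraMap C Cq c) = tau q (f c) from hg₀ c, show f c = w ⟨y, hy⟩ from hc, hw,
      IsScalarTower.algebraMap_apply A Aq (Tot Aq), ← huv, Algebra.smul_def, ← mul_assoc, ← map_mul,
      Units.inv_mul, map_one, one_mul]
  obtain ⟨i₁, hi₁⟩ := exists_lift C₁.val g hginj (by rw [Subalgebra.range_val]; exact le_sup_right.trans hrange)
  obtain ⟨vL, hvL, hsymb⟩ := hval Cq g hginj (le_sup_left.trans hrange)
  haveI := finite_maximalSpectrum Aq (B := Cq)
  haveI : Fintype (MaximalSpectrum Cq) := Fintype.ofFinite _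
  let Q : MaximalSpectrum Cq → Ideal C := fun L => L.asIdeal.comap (algebraMap C Cq)
  haveI hQp : ∀ L, (Q L).IsPrime := fun L =>
    haveI := L.isMaximal
    Ideal.IsPrime.comap _
  have hmu : ∀ J : Ideal Cq, Ideal.map (algebraMap C Cq) (J.comap (algebraMap C Cq)) = J := fun J =>
    IsLocalization.map_under M Cq J
  have hQinj : Function.Injective Q := fun L L' h => by
    refine MaximalSpectrum.ext ?_
    rw [← hmu L.asIdeal, ← hmu L'.asIdeal]
    exact congrArg _ h
  have hQq : ∀ L, (Q L).comap (algebraMap A C) = q := fun L => by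
    haveI := L.isMaximal
    show (L.asIdeal.comap (algebraMap C Cq)).comap (algebraMap A C) = q
    rw [Ideal.comap_comap, ← IsScalarTower.algebraMap_eq, IsScalarTower.algebraMap_eq A Aq Cq, ← Ideal.comap_comap,
      comap_max Aq L.asIdeal]
    exact IsLocalization.AtPrime.comap_maximalIdeal Aq q
  have hall : ∀ P : Ideal C, P.IsPrime → P.comap (algebraMap A C) = q → ∃ L, Q L = P := by
    intro P hP hPq
    have hd : Disjoint (M : Set C) (P : Set C) := by
      rw [Set.disjoint_left]
      rintro _ ⟨x, hx, rfl⟩ hxP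
      exact hx (show x ∈ q by rw [← hPq]; exact hxP)
    have hP' := IsLocalization.isPrime_of_isPrime_disjoint M Cq P hP hd
    obtain ⟨L, hL, hle⟩ := Ideal.exists_le_maximal _ hP'.ne_top
    refine ⟨⟨L, hL⟩, (incomp (A := A) (P := P) ?_ ?_).symm⟩
    · exact Ideal.le_comap_map.trans (Ideal.comap_mono hle)
    · rw [hQq, hPq]
  have hout : ∀ L (ρ : C) (k : ℕ),
      maximalIdeal (Localization.AtPrime (Q L)) ^ k ≤ Ideal.span {algebraMap C _ ρ} →
      ∀ P : Ideal C, P.IsPrime → ¬ P.IsMaximal → P ≠ Q L → ∃ y ∈ Xp (Q L) ρ 1, y ∉ P := by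
    intro L ρ k hk P hP hne hPQ
    have hnle : ¬ Q L ≤ P := by
      intro hle
      have hlt : q < P.comap (algebraMap A C) := by
        refine lt_of_le_of_ne (by rw [← hQq L]; exact Ideal.comap_mono hle) fun h => hPQ ?_
        exact (incomp (A := A) hle (by rw [← h, hQq L])).symm
      obtain ⟨x, hxP, hxq⟩ := SetLike.exists_of_lt hlt
      haveI : Nontrivial (A ⧸ q) := Ideal.Quotient.nontrivial_iff.2 ‹q.IsPrime›.ne_top
      haveI := Ideal.map_isPrime_of_surjective (f := Ideal.Quotient.mk q) Ideal.Quotient.mk_surjective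
        (I := P.comap (algebraMap A C)) (by rw [Ideal.mk_ker]; exact hlt.le)
      rcases Ring.krullDimLE_one_iff.1 ‹Ring.KrullDimLE 1 (A ⧸ q)› _ this with h | h
      · refine hxq ?_
        have h0 : (P.comap (algebraMap A C)).map (Ideal.Quotient.mk q) = ⊥ :=
          le_bot_iff.1 (h.2 ⟨Ideal.isPrime_bot, le_rfl⟩ bot_le)
        rw [← Ideal.Quotient.eq_zero_iff_mem, ← Ideal.mem_bot, ← h0]
        exact Ideal.mem_map_of_mem _ hxP
      · refine hne (Ideal.isMaximal_of_isIntegral_of_isMaximal_comap (R := A) P ?_)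
        have := Ideal.comap_isMaximal_of_surjective _ Ideal.Quotient.mk_surjective
          (K := (P.comap (algebraMap A C)).map (Ideal.Quotient.mk q)) (H := h)
        rwa [Ideal.comap_map_of_surjective _ Ideal.Quotient.mk_surjective, ← RingHom.ker_eq_comap_bot,
          Ideal.mk_ker, sup_eq_left.2 hlt.le] at this
    obtain ⟨y, hyQ, hyP⟩ := SetLike.not_le_iff_exists.1 hnle
    refine ⟨y ^ (k + 1), ?_, fun h => hyP (hP.mem_of_pow_mem _ h)⟩
    rw [Xp, Ideal.mem_comap, map_pow, pow_one]
    exact hk (Ideal.pow_le_pow_right (Nat.le_succ k) (Ideal.pow_mem_pow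
      ((IsLocalization.AtPrime.to_map_mem_maximal_iff _ (Q L) y).2 hyQ) _))
  -- the data at one maximal ideal
  have hdata : ∀ L : MaximalSpectrum Cq, ∃ (ρ : C) (e e' : ℕ) (sa ra sb rb : C),
      (sa ∉ Q L ∧ ra ∉ Q L ∧ sb ∉ Q L ∧ rb ∉ Q L) ∧ sa * algebraMap A C a = ra * ρ ^ e ∧
        sb * algebraMap A C b = rb * ρ ^ e' ∧
        algebraMap C (Localization.AtPrime (Q L)) ρ ∈ nonZeroDivisors (Localization.AtPrime (Q L)) ∧
        (∀ P : Ideal C, P.IsPrime → ¬ P.IsMaximal → P ≠ Q L → ∃ y ∈ Xp (Q L) ρ 1, y ∉ P) ∧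
        vL L ≠ 0 ∧
        CycAlg.ordFrac (A ⧸ q) q.ResidueField (Algebra.norm (ResidueField Aq) (vL L)) =
          (e' : ℤ) * (((step A (Q L) ρ ra 0 0).toNat : ℤ) - (step A (Q L) ρ sa 0 0).toNat) -
            (e : ℤ) * (((step A (Q L) ρ rb 0 0).toNat : ℤ) - (step A (Q L) ρ sb 0 0).toNat) := by
    intro L
    haveI := L.isMaximal
    let S := Localization.AtPrime L.asIdeal
    haveI : IsLocalization.AtPrime S (Q L) := IsLocalization.isLocalization_atPrime_localization_atPrime _ L.asIdeal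
    -- descend to `C₁`
    haveI : Algebra.IsIntegral Aq C₁ := Algebra.IsIntegral.of_finite Aq C₁
    have hjmax : (L.asIdeal.comap i₁.toRingHom).IsMaximal := by
      refine Ideal.isMaximal_of_isIntegral_of_isMaximal_comap (R := Aq) _ ?_
      rw [Ideal.comap_comap, AlgHom.toRingHom_eq_coe, i₁.comp_algebraMap, comap_max Aq L.asIdeal]
      exact maximalIdeal.isMaximal Aq
    obtain ⟨π, hπu, hfac⟩ := hsep ⟨_, hjmax⟩
    let φ : Localization.AtPrime (L.asIdeal.comap i₁.toRingHom) →+* S :=
      Localization.localRingHom _ L.asIdeal i₁.toRingHom rfl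
    have hφA : ∀ x : Aq, φ (algebraMap Aq _ x) = algebraMap Aq S x := fun x => by
      rw [IsScalarTower.algebraMap_apply Aq C₁ (Localization.AtPrime (L.asIdeal.comap i₁.toRingHom))]
      show Localization.localRingHom _ _ _ _ (algebraMap C₁ _ (algebraMap Aq C₁ x)) = _
      rw [Localization.localRingHom_to_map]
      exact (congrArg (algebraMap Cq S) (i₁.commutes x)).trans (IsScalarTower.algebraMap_apply Aq Cq S x).symm
    obtain ⟨ρ, ⟨d, hd⟩, hρ⟩ := IsLocalization.exists_mk'_eq M (i₁ π)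
    have hdu : IsUnit (algebraMap C S d) := by
      rw [IsScalarTower.algebraMap_apply C Cq S]
      exact (IsLocalization.map_units Cq (⟨d, hd⟩ : M)).map _
    obtain ⟨du, hdu⟩ := hdu
    have hπS : φ (algebraMap C₁ _ π) = algebraMap C S ρ * ↑du⁻¹ := by
      refine Eq.trans (Localization.localRingHom_to_map _ _ _ _ _) ((Units.eq_mul_inv_iff_mul_eq du).2 ?_)
      rw [hdu, IsScalarTower.algebraMap_apply C Cq S d, IsScalarTower.algebraMap_apply C Cq S ρ, ← map_mul]
      refine congrArg _ ?_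
      show i₁ π * _ = _
      rw [← hρ, IsLocalization.mk'_spec]
    have hρS : algebraMap C S ρ ∈ nonZeroDivisors S := by
      have h1 : i₁ π ∈ nonZeroDivisors Cq := over_unit_mem g hginj _ (by rw [hi₁]; exact hπu)
      have h2 : algebraMap C S ρ = algebraMap Cq S (i₁ π) * du := by
        rw [hdu, IsScalarTower.algebraMap_apply C Cq S d, IsScalarTower.algebraMap_apply C Cq S ρ, ← map_mul, ← hρ,
          IsLocalization.mk'_spec]
      rw [h2]
      exact mul_mem (loc_mem_nonZeroDivisors L h1) du.isUnit.mem_nonZeroDivisors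
    -- a factorisation in `C`
    have fac : ∀ x : A, algebraMap A Aq x ∈ ({algebraMap A Aq a, algebraMap A Aq b} : Multiset Aq) →
        ∃ (u : Sˣ) (e : ℕ) (s r : C), s ∉ Q L ∧ r ∉ Q L ∧
          algebraMap Aq S (algebraMap A Aq x) = (u : S) * algebraMap C S ρ ^ e ∧
          s * algebraMap A C x = r * ρ ^ e ∧ (u : S) * algebraMap C S s = algebraMap C S r := by
      intro x hx
      obtain ⟨u, e, hue⟩ := hfac _ hx
      let u' : Sˣ := Units.map φ.toMonoidHom u * du⁻¹ ^ e
      have h1 : algebraMap Aq S (algebraMap A Aq x) = (u' : S) * algebraMap C S ρ ^ e := by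
        rw [← hφA, hue, map_mul, map_pow, hπS, mul_pow, Units.val_mul, Units.val_pow_eq_pow_val]
        show φ u * _ = φ u * _ * _
        ring
      obtain ⟨r, ⟨s, hs⟩, hrs⟩ := IsLocalization.exists_mk'_eq (Q L).primeCompl (u' : S)
      have hus : (u' : S) * algebraMap C S s = algebraMap C S r := by
        rw [← hrs]; exact IsLocalization.mk'_spec S r (⟨s, hs⟩ : (Q L).primeCompl)
      have hr : r ∉ Q L := fun h => by
        have := (IsLocalization.AtPrime.to_map_mem_maximal_iff S (Q L) r).2 h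
        rw [← hus] at this
        exact this (u'.isUnit.mul (IsLocalization.map_units S (⟨s, hs⟩ : (Q L).primeCompl)))
      have heq : algebraMap C S (s * algebraMap A C x) = algebraMap C S (r * ρ ^ e) := by
        rw [map_mul, map_mul, map_pow, ← hus, IsScalarTower.algebraMap_apply C Cq S (algebraMap A C x), ← hACq,
          ← IsScalarTower.algebraMap_apply Aq Cq S, h1]
        ring
      obtain ⟨⟨t, ht⟩, htt⟩ := (IsLocalization.eq_iff_exists (Q L).primeCompl S).1 heq
      refine ⟨u', e, t * s, t * r, (hQp L).mul_notMem ht hs, (hQp L).mul_notMem ht hr, h1,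
        by linear_combination htt, ?_⟩
      rw [map_mul, map_mul, ← hus]
      ring
    obtain ⟨u, e, sa, ra, hsa, hra, hua, hea, hsra⟩ := fac a (by simp)
    obtain ⟨u', e', sb, rb, hsb, hrb, hub, heb, hsrb⟩ := fac b (by simp)
    -- transfer to the localisation at `Q L`
    let ψ : S ≃ₐ[C] Localization.AtPrime (Q L) := IsLocalization.algEquiv (Q L).primeCompl _ _
    have hρQ : algebraMap C (Localization.AtPrime (Q L)) ρ ∈ nonZeroDivisors (Localization.AtPrime (Q L)) := by
      rw [← ψ.commutes, mem_nonZeroDivisors_iff_right]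
      intro z hz
      obtain ⟨z, rfl⟩ := ψ.surjective z
      rw [← map_mul] at hz
      rw [mem_nonZeroDivisors_iff_right.1 hρS z (ψ.injective (hz.trans (map_zero ψ).symm)), map_zero]
    have hm : Ring.ord (Localization.AtPrime (Q L)) (algebraMap C _ ρ) = Ring.ord S (algebraMap C S ρ) := by
      rw [← ψ.commutes]
      exact ord_ringEquiv ψ.toRingEquiv _
    have hordS := ord_lt_top Aq L hρS
    haveI := krullDimLE_atPrime Aq L
    haveI : Ring.KrullDimLE 1 (Localization.AtPrime (Q L)) := by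
      rw [Ring.krullDimLE_iff, ← ringKrullDim_eq_of_ringEquiv ψ.toRingEquiv]
      exact Ring.krullDimLE_iff.1 inferInstance
    haveI : IsNoetherianRing (Localization.AtPrime (Q L)) :=
      IsLocalization.isNoetherianRing (Q L).primeCompl _ inferInstance
    obtain ⟨k, hk⟩ := exists_pow_le_span hρQ
    have hout' := hout L ρ k hk
    -- the residue field
    let κ := ResidueField S
    haveI : Module.Finite (ResidueField Aq) κ := finite_residueField Aq L
    have hker : ∀ c : C, algebraMap C κ c = 0 ↔ c ∈ Q L := fun c => by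
      show residue S (algebraMap C S c) = 0 ↔ _
      rw [IsLocalRing.residue_eq_zero_iff, IsLocalization.AtPrime.to_map_mem_maximal_iff S (Q L) c]
    have hν : ∀ r : C, r ∉ Q L → ((step A (Q L) ρ r 0 0).toNat : ℤ) =
        ((Ring.ord S (algebraMap C S ρ)).toNat : ℤ) *
          CycAlg.ordFrac (A ⧸ q) q.ResidueField (Algebra.norm (ResidueField Aq) (algebraMap C κ r)) := by
      intro r hr
      rw [step_unit_eq A hout' hk (hm ▸ hordS) hr, hm, ENat.toNat_mul, ENat.toNat_natCast, Nat.cast_mul]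
      congr 1
      refine ordFrac_norm_residue q (Q L) (hQq L) κ (fun x => ?_) hker (fun z => ?_) hr
      · show residue S (algebraMap C S (algebraMap A C x)) = residue S (algebraMap Aq S (algebraMap A Aq x))
        rw [IsScalarTower.algebraMap_apply C Cq S, ← hACq, ← IsScalarTower.algebraMap_apply Aq Cq S]
      · obtain ⟨z, rfl⟩ := IsLocalRing.residue_surjective z
        obtain ⟨c, ⟨d', hd'⟩, rfl⟩ := IsLocalization.exists_mk'_eq (Q L).primeCompl z
        refine ⟨c, d', hd', ?_⟩
        show residue S _ * residue S (algebraMap C S d') = residue S (algebraMap C S c)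
        rw [← map_mul, IsLocalization.mk'_spec S c (⟨d', hd'⟩ : (Q L).primeCompl)]
    haveI : Nontrivial (A ⧸ q) := Ideal.Quotient.nontrivial_iff.2 ‹q.IsPrime›.ne_top
    let N : κ → ResidueField Aq := fun z => Algebra.norm (ResidueField Aq) z
    have hN : ∀ z : κ, z ≠ 0 → N z ≠ 0 := fun z hz => Algebra.norm_ne_zero_iff.2 hz
    have hres : ∀ (x : Sˣ) (s r : C), r ∉ Q L → s ∉ Q L → (x : S) * algebraMap C S s = algebraMap C S r →
        ((Ring.ord S (algebraMap C S ρ)).toNat : ℤ) * CycAlg.ordFrac (A ⧸ q) q.ResidueField (N (residue S x)) =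
          ((step A (Q L) ρ r 0 0).toNat : ℤ) - (step A (Q L) ρ s 0 0).toNat := by
      intro x s r hr hs hx
      have h' : residue S (x : S) * algebraMap C κ s = algebraMap C κ r :=
        (map_mul (residue S) _ _).symm.trans (congrArg (residue S) hx)
      rw [hν r hr, hν s hs, ← h', map_mul, ordFrac_mul (hN _ (residue_ne_zero x)) (hN _ fun h => hs ((hker s).1 h))]
      ring
    have hv : vL L = ((-1 : κ) ^ (e * e') * residue S (u : S) ^ e' * (residue S (u' : S) ^ e)⁻¹) ^
        E (algebraMap C S ρ) := by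
      refine IsSym.unique (loc_algebraMap_mem L (over_algebraMap_mem g hginj hb')) (hvL L) ?_
      rw [hua, hub]
      exact isSym_of_fac hρS hordS.ne u u' e e'
    have hune := residue_ne_zero u
    have hune' := residue_ne_zero u'
    have hvne : vL L ≠ 0 := (hvL L).ne_zero
    refine ⟨ρ, e, e', sa, ra, sb, rb, ⟨hsa, hra, hsb, hrb⟩, hea, heb, hρQ, hout', hvne, ?_⟩
    have p1 := hN _ (pow_ne_zero (e * e') (neg_ne_zero.2 (one_ne_zero (α := κ))))
    have p2 := hN _ (pow_ne_zero e' hune)
    have p3 := hN _ (pow_ne_zero e hune')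
    have hneg : Algebra.norm (ResidueField Aq) (-1 : κ) = (-1) ^ Module.finrank (ResidueField Aq) κ := by
      rw [show (-1 : κ) = algebraMap (ResidueField Aq) κ (-1) by simp, Algebra.norm_algebraMap]
    have hneg1 : (-1 : q.ResidueField) ≠ 0 := neg_ne_zero.2 one_ne_zero
    rw [← hres u sa ra hra hsa hsra, ← hres u' sb rb hrb hsb hsrb, hv]
    simp only [N] at p1 p2 p3 ⊢
    rw [map_pow, map_mul, map_mul, Algebra.norm_inv]
    rw [ordFrac_pow (mul_ne_zero (mul_ne_zero p1 p2) (inv_ne_zero p3)),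
      ordFrac_mul (mul_ne_zero p1 p2) (inv_ne_zero p3), ordFrac_mul p1 p2, ordFrac_inv p3]
    rw [map_pow, map_pow, map_pow, hneg, ← pow_mul]
    rw [ordFrac_pow hneg1, ordFrac_pow (hN _ hune), ordFrac_pow (hN _ hune'), ordFrac_neg_one]
    simp only [E, N]
    ring
  choose ρ e e' sa ra sb rb hmem hea heb hρ hout' hne hord using hdata
  refine ⟨MaximalSpectrum Cq, inferInstance, Q, hQp, ρ, e, e', sa, ra, sb, rb, hQinj, hQq, hall, hmem, hea, heb,
    hρ, hout', ?_⟩
  haveI : Nontrivial (A ⧸ q) := Ideal.Quotient.nontrivial_iff.2 ‹q.IsPrime›.ne_top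
  rw [hsymb, symProd, finprod_eq_prod_of_fintype, ordFrac_prod _ _ fun L _ => Algebra.norm_ne_zero_iff.2 (hne L)]
  exact Finset.sum_congr rfl fun L _ => hord L

end TameLib.Gap
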