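import Mathlib

/-!
# Gluing at finitely many maximal ideals

Algebras over `A_{m_i}` which agree with `A_{m_i}` away from `m_i` are glued with `A`, realised as
an equalizer inside the product of the `B i` and the `A_{g_j}` for generators `g_j` of `⋂ m_i`.
-/

set_option autoImplicit false
set_option linter.style.haveILetI false
set_option linter.unusedSectionVars false
set_option maxHeartbeats 1000000

universe u

namespace TameLib.GlueMax

variable {A : Type u} [CommRing A]

theorem mem_of_local {M : Type u} [AddCommGroup M] [Module A M] (N : Submodule A M) {x : M}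
    (h : ∀ p : Ideal A, p.IsMaximal → ∃ s ∉ p, s • x ∈ N) : x ∈ N := by
  have h1 : N.comap (LinearMap.toSpanSingleton A M x) = (⊤ : Ideal A) := by
    by_contra hne
    obtain ⟨p, hp, hle⟩ := Ideal.exists_le_maximal _ hne
    obtain ⟨s, hs, hsx⟩ := h p hp
    exact hs (hle hsx)
  have h2 : (1 : A) ∈ N.comap (LinearMap.toSpanSingleton A M x) := h1 ▸ trivial
  simpa using h2

variable {r k : ℕ} (B : Fin r → Type u) [∀ i, CommRing (B i)] [∀ i, Algebra A (B i)] (g : Fin k → A)

/-- The ambient algebra. -/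
abbrev Amb := ((i : Fin r) → B i) × ((j : Fin k) → Localization.Away (g j))

/-- The receiving algebra. -/
abbrev Rec := ((p : Fin r × Fin k) → Localization.Away (algebraMap A (B p.1) (g p.2))) ×
  ((p : Fin k × Fin k) → Localization.Away (g p.1 * g p.2))

noncomputable def toB (i : Fin r) (j : Fin k) :
    Localization.Away (g j) →ₐ[A] Localization.Away (algebraMap A (B i) (g j)) :=
  IsLocalization.liftAlgHom (M := Submonoid.powers (g j))
    (f := Algebra.ofId A (Localization.Away (algebraMap A (B i) (g j)))) (by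
    rintro ⟨_, n, rfl⟩
    show IsUnit (algebraMap A (Localization.Away (algebraMap A (B i) (g j))) (g j ^ n))
    rw [map_pow, IsScalarTower.algebraMap_apply A (B i) (Localization.Away (algebraMap A (B i) (g j)))]
    exact (IsLocalization.Away.algebraMap_isUnit _).pow n)

noncomputable def toLeft (j j' : Fin k) : Localization.Away (g j) →ₐ[A] Localization.Away (g j * g j') :=
  IsLocalization.liftAlgHom (M := Submonoid.powers (g j)) (f := Algebra.ofId A (Localization.Away (g j * g j'))) (by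
    rintro ⟨_, n, rfl⟩
    show IsUnit (algebraMap A (Localization.Away (g j * g j')) (g j ^ n))
    rw [map_pow]
    refine IsUnit.pow n ?_
    have h := IsLocalization.Away.algebraMap_isUnit (S := Localization.Away (g j * g j')) (g j * g j')
    rw [map_mul] at h
    exact isUnit_of_mul_isUnit_left h)

noncomputable def toRight (j j' : Fin k) : Localization.Away (g j') →ₐ[A] Localization.Away (g j * g j') :=
  IsLocalization.liftAlgHom (M := Submonoid.powers (g j')) (f := Algebra.ofId A (Localization.Away (g j * g j'))) (by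
    rintro ⟨_, n, rfl⟩
    show IsUnit (algebraMap A (Localization.Away (g j * g j')) (g j' ^ n))
    rw [map_pow]
    refine IsUnit.pow n ?_
    have h := IsLocalization.Away.algebraMap_isUnit (S := Localization.Away (g j * g j')) (g j * g j')
    rw [map_mul] at h
    exact isUnit_of_mul_isUnit_right h)

noncomputable def lhs : Amb B g →ₐ[A] Rec B g :=
  AlgHom.prod
    (Pi.algHom A _ fun p =>
      (IsScalarTower.toAlgHom A (B p.1) _).comp ((Pi.evalAlgHom A B p.1).comp (AlgHom.fst A _ _)))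
    (Pi.algHom A _ fun p =>
      (toLeft g p.1 p.2).comp ((Pi.evalAlgHom A (fun j => Localization.Away (g j)) p.1).comp (AlgHom.snd A _ _)))

noncomputable def rhs : Amb B g →ₐ[A] Rec B g :=
  AlgHom.prod
    (Pi.algHom A _ fun p =>
      (toB B g p.1 p.2).comp ((Pi.evalAlgHom A (fun j => Localization.Away (g j)) p.2).comp (AlgHom.snd A _ _)))
    (Pi.algHom A _ fun p =>
      (toRight g p.1 p.2).comp ((Pi.evalAlgHom A (fun j => Localization.Away (g j)) p.2).comp (AlgHom.snd A _ _)))

/-- The glued algebra. -/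
noncomputable def glued : Subalgebra A (Amb B g) := AlgHom.equalizer (lhs B g) (rhs B g)

theorem mem_glued {z : Amb B g} : z ∈ glued B g ↔
    (∀ i j, algebraMap (B i) (Localization.Away (algebraMap A (B i) (g j))) (z.1 i) = toB B g i j (z.2 j)) ∧
      ∀ j j', toLeft g j j' (z.2 j) = toRight g j j' (z.2 j') := by
  show lhs B g z = rhs B g z ↔ _
  rw [Prod.ext_iff]
  exact ⟨fun h => ⟨fun i j => congrFun h.1 (i, j), fun j j' => congrFun h.2 (j, j')⟩,
    fun h => ⟨funext fun p => h.1 p.1 p.2, funext fun p => h.2 p.1 p.2⟩⟩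

/-- Away from the `m i` the glued algebra is `A`. -/
theorem exists_pow_smul_mem (z : glued B g) (j : Fin k) :
    ∃ (M : ℕ) (a : A), g j ^ M • z = algebraMap A (glued B g) a := by
  classical
  obtain ⟨hB, hA⟩ := (mem_glued B g).1 z.2
  obtain ⟨a, ⟨_, p, rfl⟩, hp⟩ := IsLocalization.exists_mk'_eq (Submonoid.powers (g j)) (z.1.2 j)
  have hspec : z.1.2 j * algebraMap A (Localization.Away (g j)) (g j ^ p) = algebraMap A _ a := by
    rw [← hp]; exact IsLocalization.mk'_spec _ _ _
  have h1 : ∀ j', ∃ e : ℕ, g j ^ e • (g j ^ p • z.1.2 j' - algebraMap A _ a) = 0 := by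
    intro j'
    obtain ⟨c, ⟨_, q, rfl⟩, hc⟩ := IsLocalization.exists_mk'_eq (Submonoid.powers (g j'))
      (g j ^ p • z.1.2 j' - algebraMap A _ a)
    have h0 : toRight g j j' (g j ^ p • z.1.2 j' - algebraMap A _ a) = 0 := by
      rw [map_sub, map_smul, AlgHom.commutes, ← hA, ← map_smul, Algebra.smul_def, mul_comm (algebraMap A _ (g j ^ p)), hspec,
        AlgHom.commutes, sub_self]
    have hc' : algebraMap A (Localization.Away (g j * g j')) c = 0 := by
      rw [← AlgHom.commutes (toRight g j j') c,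
        ← IsLocalization.mk'_spec (Localization.Away (g j')) c (⟨g j' ^ q, q, rfl⟩ : Submonoid.powers (g j')), map_mul, hc, h0, zero_mul]
    obtain ⟨⟨_, e, rfl⟩, he⟩ := (IsLocalization.map_eq_zero_iff (Submonoid.powers (g j * g j')) _ c).1 hc'
    refine ⟨e, ?_⟩
    rw [← hc, IsLocalization.smul_mk', IsLocalization.mk'_eq_zero_iff]
    exact ⟨⟨g j' ^ e, e, rfl⟩, by rw [← mul_assoc, ← mul_pow, mul_comm (g j'), show (g j * g j') ^ e * c = 0 from he]⟩
  have h2 : ∀ i, ∃ e : ℕ, g j ^ e • (g j ^ p • z.1.1 i - algebraMap A _ a) = 0 := by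
    intro i
    have h0 : algebraMap (B i) (Localization.Away (algebraMap A (B i) (g j))) (g j ^ p • z.1.1 i - algebraMap A _ a) = 0 := by
      rw [map_sub, ← IsScalarTower.algebraMap_apply, Algebra.smul_def, map_mul, ← IsScalarTower.algebraMap_apply, hB,
        ← AlgHom.commutes (toB B g i j) (g j ^ p), ← map_mul, mul_comm, hspec, AlgHom.commutes, sub_self]
    obtain ⟨⟨_, e, rfl⟩, he⟩ := (IsLocalization.map_eq_zero_iff (Submonoid.powers (algebraMap A (B i) (g j))) _ _).1 h0
    exact ⟨e, by rw [Algebra.smul_def (g j ^ e), map_pow]; exact he⟩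
  choose e₁ he₁ using h1
  choose e₂ he₂ using h2
  let E := Finset.univ.sup e₁ + Finset.univ.sup e₂
  refine ⟨E + p, g j ^ E * a, Subtype.ext ?_⟩
  have up : ∀ {W : Type u} [CommRing W] [Algebra A W] (w : W) (e : ℕ), e ≤ E → g j ^ e • w = 0 → g j ^ E • w = 0 :=
    fun w e hle hw => by
      obtain ⟨d, hd⟩ := Nat.exists_eq_add_of_le hle
      rw [hd, add_comm, pow_add, mul_smul, hw, smul_zero]
  refine Prod.ext (funext fun i => ?_) (funext fun j' => ?_)
  · have h := up _ (e₂ i) (le_add_left (Finset.le_sup (Finset.mem_univ i))) (he₂ i)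
    rw [smul_sub, sub_eq_zero, smul_smul, ← pow_add] at h
    show g j ^ (E + p) • z.1.1 i = algebraMap A (B i) (g j ^ E * a)
    rw [h, map_mul, Algebra.smul_def]
  · have h := up _ (e₁ j') (le_add_right (Finset.le_sup (Finset.mem_univ j'))) (he₁ j')
    rw [smul_sub, sub_eq_zero, smul_smul, ← pow_add] at h
    show g j ^ (E + p) • z.1.2 j' = algebraMap A (Localization.Away (g j')) (g j ^ E * a)
    rw [h, map_mul, Algebra.smul_def]

theorem exists_pow_mul_eq_zero {a : A} (ha : algebraMap A (glued B g) a = 0) (j : Fin k) :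
    ∃ e : ℕ, g j ^ e * a = 0 := by
  have h : algebraMap A (Localization.Away (g j)) a = 0 :=
    congrFun (congrArg Prod.snd (congrArg Subtype.val ha)) j
  obtain ⟨⟨_, e, rfl⟩, he⟩ := (IsLocalization.map_eq_zero_iff (Submonoid.powers (g j)) _ a).1 h
  exact ⟨e, he⟩

/-- The projection to the `l`-th algebra. -/
noncomputable def projB (l : Fin r) : glued B g →ₐ[A] B l :=
  (Pi.evalAlgHom A B l).comp ((AlgHom.fst A _ _).comp (glued B g).val)

theorem projB_apply (l : Fin r) (z : glued B g) : projB B g l z = z.1.1 l := rfl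

variable (m : Fin r → Ideal A) [hmax : ∀ i, (m i).IsMaximal]

/-- The hypotheses on the data. -/
structure Data (n : ℕ) : Prop where
  inj : Function.Injective m
  span : Ideal.span (Set.range g) = ⨅ i, m i
  unit : ∀ i, ∀ s ∉ m i, IsUnit (algebraMap A (B i) s)
  ker : ∀ i a, algebraMap A (B i) a = 0 → ∀ y ∈ m i ^ n, ∃ s ∉ m i, s * (y * a) = 0
  coker : ∀ i (b : B i), ∀ y ∈ m i ^ n, ∃ a : A, ∃ s ∉ m i, (s * y) • b = algebraMap A (B i) a

variable {B g m} {n : ℕ} (D : Data B g m n)
include D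

theorem gen_mem (j : Fin k) (i : Fin r) : g j ∈ m i := by
  have h : g j ∈ ⨅ i, m i := D.span ▸ Ideal.subset_span (Set.mem_range_self j)
  exact (Submodule.mem_iInf _).1 h i

theorem cases_maximal (p : Ideal A) [p.IsMaximal] : (∃ i, p = m i) ∨ ∃ j, g j ∉ p := by
  by_contra h
  simp only [not_or, not_exists, not_not] at h
  have hle : Finset.univ.inf m ≤ p := by
    rw [Finset.inf_univ_eq_iInf, ← D.span, Ideal.span_le]
    rintro _ ⟨j, rfl⟩
    exact h.2 j
  obtain ⟨i, -, hi⟩ := (Ideal.IsPrime.inf_le' (Ideal.IsMaximal.isPrime ‹_›)).1 hle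
  exact h.1 i ((hmax i).eq_of_le (Ideal.IsMaximal.ne_top ‹_›) hi).symm

/-- An element which vanishes at `l` is killed by something outside `m l`. -/
theorem killed (l : Fin r) (z : glued B g) (h : z.1.1 l = 0) : ∃ s ∉ m l, s • z = 0 := by
  classical
  obtain ⟨hB, hA⟩ := (mem_glued B g).1 z.2
  have hp : (m l).IsPrime := (hmax l).isPrime
  have h1 : ∀ j, ∃ s ∉ m l, s • z.1.2 j = 0 := by
    intro j
    obtain ⟨a, ⟨_, p, rfl⟩, hap⟩ := IsLocalization.exists_mk'_eq (Submonoid.powers (g j)) (z.1.2 j)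
    have h0 : algebraMap (B l) (Localization.Away (algebraMap A (B l) (g j))) (algebraMap A (B l) a) = 0 := by
      rw [← IsScalarTower.algebraMap_apply, ← AlgHom.commutes (toB B g l j) a,
        ← IsLocalization.mk'_spec (Localization.Away (g j)) a (⟨g j ^ p, p, rfl⟩ : Submonoid.powers (g j)), map_mul, hap, ← hB, h, map_zero, zero_mul]
    obtain ⟨⟨_, e, rfl⟩, he⟩ := (IsLocalization.map_eq_zero_iff (Submonoid.powers (algebraMap A (B l) (g j))) _ _).1 h0
    have he' : algebraMap A (B l) (g j ^ e * a) = 0 := by rw [map_mul, map_pow]; exact he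
    obtain ⟨s, hs, hsy⟩ := D.ker l _ he' (g j ^ n) (Ideal.pow_mem_pow (gen_mem D j l) n)
    refine ⟨s, hs, ?_⟩
    rw [← hap, IsLocalization.smul_mk', IsLocalization.mk'_eq_zero_iff]
    exact ⟨⟨g j ^ (n + e), n + e, rfl⟩, show g j ^ (n + e) * (s * a) = 0 by rw [← hsy]; ring⟩
  choose s hs hsz using h1
  -- annihilate the other components
  let s₀ := ∏ j, s j
  have hs₀ : s₀ ∉ m l := fun h => by
    obtain ⟨j, -, hj⟩ := (Ideal.IsPrime.prod_mem_iff (hp := hp)).1 h
    exact hs j hj
  have hz2 : ∀ j, s₀ • z.1.2 j = 0 := fun j => by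
    obtain ⟨d, hd⟩ := Finset.dvd_prod_of_mem s (Finset.mem_univ j)
    rw [show s₀ = _ from hd, mul_comm, mul_smul, hsz, smul_zero]
  have h2 : ∀ i, ∃ t ∉ m l, t • s₀ • z.1.1 i = 0 := by
    intro i
    by_cases hi : i = l
    · subst hi
      exact ⟨1, fun h1 => hp.ne_top ((Ideal.eq_top_iff_one _).2 h1), by rw [h, smul_zero, smul_zero]⟩
    have hpow : ∀ j, ∃ e : ℕ, g j ^ e • (s₀ • z.1.1 i) = 0 := fun j => by
      have h0 : algebraMap (B i) (Localization.Away (algebraMap A (B i) (g j))) (s₀ • z.1.1 i) = 0 := by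
        rw [Algebra.smul_def, map_mul, ← IsScalarTower.algebraMap_apply, hB, ← AlgHom.commutes (toB B g i j) s₀,
          ← map_mul, ← Algebra.smul_def, hz2, map_zero]
      obtain ⟨⟨_, e, rfl⟩, he⟩ := (IsLocalization.map_eq_zero_iff (Submonoid.powers (algebraMap A (B i) (g j))) _ _).1 h0
      exact ⟨e, by rw [Algebra.smul_def (g j ^ e), map_pow]; exact he⟩
    let N := LinearMap.ker (LinearMap.toSpanSingleton A (B i) (s₀ • z.1.1 i))
    have hrad : Ideal.span (Set.range g) ≤ Ideal.radical N := Ideal.span_le.2 (by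
      rintro _ ⟨j, rfl⟩
      obtain ⟨e, he⟩ := hpow j
      exact ⟨e, he⟩)
    obtain ⟨M, hM⟩ := Ideal.exists_pow_le_of_le_radical_of_fg hrad (Submodule.fg_span (Set.finite_range g))
    -- `u ∈ m i ^ M` outside `m l`, and the other factors are units on `B i`
    obtain ⟨u, hu, hul⟩ : ∃ u ∈ m i, u ∉ m l := SetLike.not_le_iff_exists.1 fun hle =>
      hi (D.inj ((hmax i).eq_of_le hp.ne_top hle))
    have hv : ∀ i', ∃ v ∈ m i', i' ≠ i → v ∉ m i := fun i' => by
      by_cases h' : i' = i
      · exact ⟨0, (m i').zero_mem, fun h => absurd h' h⟩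
      · obtain ⟨v, hv, hvi⟩ := SetLike.not_le_iff_exists.1 fun hle => h' (D.inj ((hmax i').eq_of_le (hmax i).ne_top hle))
        exact ⟨v, hv, fun _ => hvi⟩
    choose v hv hvi using hv
    let w := ∏ i' ∈ Finset.univ.erase i, v i'
    have hw : w ∉ m i := fun h => by
      obtain ⟨i', hi', hv'⟩ := (Ideal.IsPrime.prod_mem_iff (hp := (hmax i).isPrime)).1 h
      exact hvi i' (Finset.ne_of_mem_erase hi') hv'
    have huw : u * w ∈ Ideal.span (Set.range g) := by
      rw [D.span, Submodule.mem_iInf]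
      intro i'
      by_cases h' : i' = i
      · subst h'; exact (m i').mul_mem_right _ hu
      · exact (m i').mul_mem_left _ (Ideal.mem_of_dvd _
          (Finset.dvd_prod_of_mem v (Finset.mem_erase.2 ⟨h', Finset.mem_univ _⟩)) (hv i'))
    refine ⟨u ^ M, fun h' => hul (hp.mem_of_pow_mem _ h'), ?_⟩
    have h3 : (w ^ M * u ^ M) • (s₀ • z.1.1 i) = 0 := by
      rw [mul_comm, ← mul_pow]; exact hM (Ideal.pow_mem_pow huw M)
    rw [mul_smul, Algebra.smul_def] at h3
    exact ((D.unit i _ (fun h' => hw ((hmax i).isPrime.mem_of_pow_mem _ h'))).mul_right_eq_zero).1 h3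
  choose t ht htz using h2
  refine ⟨(∏ i, t i) * s₀, hp.mul_notMem (fun h => ?_) hs₀, Subtype.ext (Prod.ext (funext fun i => ?_) (funext fun j => ?_))⟩
  · obtain ⟨i, -, hi⟩ := (Ideal.IsPrime.prod_mem_iff (hp := hp)).1 h
    exact ht i hi
  · show ((∏ i, t i) * s₀) • z.1.1 i = 0
    obtain ⟨d, hd⟩ := Finset.dvd_prod_of_mem t (Finset.mem_univ i)
    rw [hd, mul_comm (t i), mul_assoc, mul_smul, mul_smul, htz, smul_zero]
  · show ((∏ i, t i) * s₀) • z.1.2 j = 0
    rw [mul_smul, hz2, smul_zero]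

/-- Everything at `l` comes from the glued algebra. -/
theorem lift_exists (l : Fin r) (b : B l) : ∃ (z : glued B g) (s : A), s ∉ m l ∧ z.1.1 l = s • b := by
  classical
  have hp : (m l).IsPrime := (hmax l).isPrime
  choose a s hs hsb using fun j => D.coker l b (g j ^ n) (Ideal.pow_mem_pow (gen_mem D j l) n)
  let σ := ∏ j, s j
  have hσ : σ ∉ m l := fun h => by
    obtain ⟨j, -, hj⟩ := (Ideal.IsPrime.prod_mem_iff (hp := hp)).1 h
    exact hs j hj
  let a₁ : Fin k → A := fun j => a j * ∏ j' ∈ Finset.univ.erase j, s j'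
  have ha₁ : ∀ j, algebraMap A (B l) (a₁ j) = (g j ^ n * σ) • b := fun j => by
    rw [map_mul, ← hsb, mul_comm, ← Algebra.smul_def, smul_smul]
    congr 1
    rw [show σ = s j * ∏ j' ∈ Finset.univ.erase j, s j' from (Finset.mul_prod_erase _ _ (Finset.mem_univ j)).symm]
    ring
  have hd : ∀ p : Fin k × Fin k, ∃ t ∉ m l, t * (g p.1 ^ n * (g p.2 ^ n * a₁ p.1 - g p.1 ^ n * a₁ p.2)) = 0 :=
    fun p => D.ker l _ (by
      rw [map_sub, map_mul _ (g p.2 ^ n), map_mul _ (g p.1 ^ n), ha₁, ha₁, ← Algebra.smul_def, ← Algebra.smul_def, smul_smul, smul_smul,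
        mul_left_comm, sub_self]) _ (Ideal.pow_mem_pow (gen_mem D p.1 l) n)
  choose t ht htd using hd
  let τ := ∏ p, t p
  have hτ : τ ∉ m l := fun h => by
    obtain ⟨p, -, hpm⟩ := (Ideal.IsPrime.prod_mem_iff (hp := hp)).1 h
    exact ht p hpm
  let G : Fin k → A := fun j => g j ^ (n + n)
  let a₂ : Fin k → A := fun j => g j ^ n * (τ * a₁ j)
  have hrel : ∀ j j', G j' * a₂ j = G j * a₂ j' := fun j j' => by
    have h : τ * (g j ^ n * (g j' ^ n * a₁ j - g j ^ n * a₁ j')) = 0 := by
      obtain ⟨d, hd⟩ := Finset.dvd_prod_of_mem t (Finset.mem_univ (j, j'))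
      rw [show τ = _ from hd, mul_comm (t (j, j')) d, mul_assoc, htd, mul_zero]
    simp only [G, a₂, pow_add]
    linear_combination (g j' ^ n) * h
  -- away from `l`, a multiple lies in `A`
  have hrad : Ideal.span (Set.range g) ≤ Ideal.radical (Ideal.span (Set.range G)) := Ideal.span_le.2 (by
    rintro _ ⟨j, rfl⟩
    exact ⟨n + n, Ideal.subset_span ⟨j, rfl⟩⟩)
  obtain ⟨M, hM⟩ := Ideal.exists_pow_le_of_le_radical_of_fg hrad (Submodule.fg_span (Set.finite_range g))
  have hoth : ∀ i, ∃ u ∉ m l, ∃ c : B i, i ≠ l → ∀ j, G j • c = algebraMap A (B i) (u * a₂ j) := by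
    intro i
    by_cases hi : i = l
    · exact ⟨1, fun h => hp.ne_top ((Ideal.eq_top_iff_one _).2 h), 0, fun h => absurd hi h⟩
    obtain ⟨u, hu, hul⟩ : ∃ u ∈ m i, u ∉ m l := SetLike.not_le_iff_exists.1 fun hle =>
      hi (D.inj ((hmax i).eq_of_le hp.ne_top hle))
    have hv : ∀ i', ∃ v ∈ m i', i' ≠ i → v ∉ m i := fun i' => by
      by_cases h' : i' = i
      · exact ⟨0, (m i').zero_mem, fun h => absurd h' h⟩
      · obtain ⟨v, hv, hvi⟩ := SetLike.not_le_iff_exists.1 fun hle => h' (D.inj ((hmax i').eq_of_le (hmax i).ne_top hle))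
        exact ⟨v, hv, fun _ => hvi⟩
    choose v hv hvi using hv
    let w := ∏ i' ∈ Finset.univ.erase i, v i'
    have hw : w ∉ m i := fun h => by
      obtain ⟨i', hi', hv'⟩ := (Ideal.IsPrime.prod_mem_iff (hp := (hmax i).isPrime)).1 h
      exact hvi i' (Finset.ne_of_mem_erase hi') hv'
    have huw : u * w ∈ Ideal.span (Set.range g) := by
      rw [D.span, Submodule.mem_iInf]
      intro i'
      by_cases h' : i' = i
      · subst h'; exact (m i').mul_mem_right _ hu
      · exact (m i').mul_mem_left _ (Ideal.mem_of_dvd _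
          (Finset.dvd_prod_of_mem v (Finset.mem_erase.2 ⟨h', Finset.mem_univ _⟩)) (hv i'))
    obtain ⟨c, hc⟩ := (Ideal.mem_span_range_iff_exists_fun).1 (hM (Ideal.pow_mem_pow huw M))
    obtain ⟨wu, hwu⟩ := D.unit i (w ^ M) fun h => hw ((hmax i).isPrime.mem_of_pow_mem _ h)
    refine ⟨u ^ M, fun h => hul (hp.mem_of_pow_mem _ h), algebraMap A (B i) (∑ j', c j' * a₂ j') * ↑wu⁻¹, fun _ j => ?_⟩
    rw [Algebra.smul_def, ← mul_assoc, Units.mul_inv_eq_iff_eq_mul, hwu, ← map_mul, ← map_mul]
    congr 1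
    rw [Finset.mul_sum, Finset.sum_congr rfl fun j' _ => show G j * (c j' * a₂ j') = c j' * G j' * a₂ j by
      rw [mul_assoc (c j'), hrel j j']; ring, ← Finset.sum_mul, hc, mul_pow]
    ring
  choose u hu c hc using hoth
  let U := ∏ i, u i
  have hU : U ∉ m l := fun h => by
    obtain ⟨i, -, hi⟩ := (Ideal.IsPrime.prod_mem_iff (hp := hp)).1 h
    exact hu i hi
  let bs : (i : Fin r) → B i :=
    Function.update (fun i => (∏ i' ∈ Finset.univ.erase i, u i') • c i) l ((U * τ * σ) • b)
  have hbs : ∀ i j, G j • bs i = algebraMap A (B i) (U * a₂ j) := fun i j => by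
    by_cases hi : i = l
    · subst hi
      simp only [bs, Function.update_self, a₂, G, map_mul]
      rw [ha₁, smul_smul, Algebra.smul_def, Algebra.smul_def, pow_add]
      simp only [map_mul]
      ring
    · simp only [bs, Function.update_of_ne hi]
      rw [smul_comm, hc i hi j, Algebra.smul_def, ← map_mul, ← mul_assoc, mul_comm _ (u i),
        Finset.mul_prod_erase _ _ (Finset.mem_univ i)]
  let xs : (j : Fin k) → Localization.Away (g j) := fun j =>
    IsLocalization.mk' _ (U * a₂ j) (⟨G j, n + n, rfl⟩ : Submonoid.powers (g j))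
  have hxs : ∀ j, G j • xs j = algebraMap A _ (U * a₂ j) := fun j => by
    rw [Algebra.smul_def]
    exact IsLocalization.mk'_spec' (Localization.Away (g j)) (U * a₂ j) (⟨G j, n + n, rfl⟩ : Submonoid.powers (g j))
  refine ⟨⟨(bs, xs), (mem_glued B g).2 ⟨fun i j => ?_, fun j j' => ?_⟩⟩, U * τ * σ,
    hp.mul_notMem (hp.mul_notMem hU hτ) hσ, show bs l = _ from Function.update_self l ((U * τ * σ) • b) _⟩
  · have hu' : IsUnit (algebraMap A (Localization.Away (algebraMap A (B i) (g j))) (G j)) := by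
      rw [IsScalarTower.algebraMap_apply A (B i) (Localization.Away (algebraMap A (B i) (g j))), map_pow, map_pow]
      exact (IsLocalization.Away.algebraMap_isUnit _).pow _
    refine hu'.mul_right_inj.1 ?_
    show _ * algebraMap (B i) _ (bs i) = _ * toB B g i j (xs j)
    rw [← Algebra.smul_def, ← Algebra.smul_def, ← map_smul (toB B g i j), hxs, AlgHom.commutes,
      Algebra.smul_def, IsScalarTower.algebraMap_apply A (B i) _ (G j), ← map_mul, ← Algebra.smul_def, hbs,
      ← IsScalarTower.algebraMap_apply]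
  · have hu₁ : IsUnit (algebraMap A (Localization.Away (g j * g j')) (G j * G j')) := by
      rw [← mul_pow, map_pow]
      exact (IsLocalization.Away.algebraMap_isUnit _).pow _
    refine hu₁.mul_right_inj.1 ?_
    rw [map_mul, mul_right_comm, ← Algebra.smul_def (G j), ← map_smul, hxs, AlgHom.commutes,
      mul_assoc, ← Algebra.smul_def (G j'), ← map_smul, hxs, AlgHom.commutes, ← map_mul, ← map_mul]
    congr 1
    linear_combination U * hrel j j'

theorem isLocalization_projB (l : Fin r) :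
    letI : Algebra (glued B g) (B l) := (projB B g l).toRingHom.toAlgebra
    IsLocalization (Algebra.algebraMapSubmonoid (glued B g) (m l).primeCompl) (B l) := by
  letI : Algebra (glued B g) (B l) := (projB B g l).toRingHom.toAlgebra
  refine ⟨?_, ?_, ?_⟩
  · rintro ⟨_, s, hs, rfl⟩
    show IsUnit (projB B g l (algebraMap A _ s))
    rw [AlgHom.commutes]
    exact D.unit l s hs
  · intro b
    obtain ⟨z, s, hs, hz⟩ := lift_exists D l b
    refine ⟨(z, ⟨algebraMap A _ s, s, hs, rfl⟩), ?_⟩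
    show b * projB B g l (algebraMap A _ s) = z.1.1 l
    rw [AlgHom.commutes, hz, mul_comm, Algebra.smul_def]
  · intro x y h
    obtain ⟨s, hs, hsz⟩ := killed D l (x - y) (sub_eq_zero.2 (show x.1.1 l = y.1.1 l from h))
    refine ⟨⟨algebraMap A _ s, s, hs, rfl⟩, ?_⟩
    show algebraMap A _ s * x = algebraMap A _ s * y
    rw [← sub_eq_zero, ← mul_sub, ← Algebra.smul_def]
    exact hsz

theorem exists_pow_smul_range : ∀ y ∈ (⨅ i, m i) ^ n, ∀ z : glued B g, y • z ∈ (algebraMap A (glued B g)).range := by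
  intro y hy z
  suffices y • z ∈ LinearMap.range (Algebra.linearMap A (glued B g)) from this
  refine mem_of_local _ fun p hp => ?_
  rcases cases_maximal D p with ⟨l, rfl⟩ | ⟨j, hj⟩
  · obtain ⟨a, s, hs, hsb⟩ := D.coker l (z.1.1 l) y (Ideal.pow_right_mono (iInf_le m l) n hy)
    obtain ⟨t, ht, htz⟩ := killed D l ((s * y) • z - algebraMap A _ a) (sub_eq_zero.2 hsb)
    refine ⟨t * s, hp.isPrime.mul_notMem ht hs, t * a, ?_⟩
    rw [smul_sub, sub_eq_zero] at htz
    show algebraMap A _ (t * a) = (t * s) • y • z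
    rw [smul_smul, mul_assoc, mul_smul, htz, map_mul, ← Algebra.smul_def]
  · obtain ⟨M, a, h⟩ := exists_pow_smul_mem B g z j
    refine ⟨g j ^ M, fun h' => hj (hp.isPrime.mem_of_pow_mem _ h'), y * a, ?_⟩
    show algebraMap A _ (y * a) = g j ^ M • y • z
    rw [smul_comm, h, map_mul, ← Algebra.smul_def]

theorem ker_killed : ∀ a, algebraMap A (glued B g) a = 0 → ∀ y ∈ (⨅ i, m i) ^ n, y * a = 0 := by
  intro a ha y hy
  suffices y * a ∈ (⊥ : Submodule A A) by simpa using this
  refine mem_of_local _ fun p hp => ?_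
  rcases cases_maximal D p with ⟨l, rfl⟩ | ⟨j, hj⟩
  · obtain ⟨s, hs, h⟩ := D.ker l a (congrFun (congrArg Prod.fst (congrArg Subtype.val ha)) l) y
      (Ideal.pow_right_mono (iInf_le m l) n hy)
    exact ⟨s, hs, by simpa using h⟩
  · obtain ⟨e, he⟩ := exists_pow_mul_eq_zero B g ha j
    exact ⟨g j ^ e, fun h' => hj (hp.isPrime.mem_of_pow_mem _ h'), by
      show g j ^ e * (y * a) ∈ (⊥ : Submodule A A)
      rw [mul_left_comm, he, mul_zero]; exact Submodule.zero_mem _⟩

theorem injective_of (h : ∀ l a, algebraMap A (B l) a = 0 → ∃ s ∉ m l, s * a = 0) :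
    Function.Injective (algebraMap A (glued B g)) := by
  rw [injective_iff_map_eq_zero]
  intro a ha
  suffices a ∈ (⊥ : Submodule A A) by simpa using this
  refine mem_of_local _ fun p hp => ?_
  rcases cases_maximal D p with ⟨l, rfl⟩ | ⟨j, hj⟩
  · obtain ⟨s, hs, hsa⟩ := h l a (congrFun (congrArg Prod.fst (congrArg Subtype.val ha)) l)
    exact ⟨s, hs, by simpa using hsa⟩
  · obtain ⟨e, he⟩ := exists_pow_mul_eq_zero B g ha j
    exact ⟨g j ^ e, fun h' => hj (hp.isPrime.mem_of_pow_mem _ h'), by simpa using he⟩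

theorem surjective_of (h : ∀ l (b : B l), ∃ a, ∃ s ∉ m l, s • b = algebraMap A (B l) a) :
    Function.Surjective (algebraMap A (glued B g)) := by
  intro z
  suffices z ∈ LinearMap.range (Algebra.linearMap A (glued B g)) from this
  refine mem_of_local _ fun p hp => ?_
  rcases cases_maximal D p with ⟨l, rfl⟩ | ⟨j, hj⟩
  · obtain ⟨a, s, hs, hsb⟩ := h l (z.1.1 l)
    obtain ⟨t, ht, htz⟩ := killed D l (s • z - algebraMap A _ a) (sub_eq_zero.2 hsb)
    refine ⟨t * s, hp.isPrime.mul_notMem ht hs, t * a, ?_⟩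
    rw [smul_sub, sub_eq_zero] at htz
    show algebraMap A _ (t * a) = (t * s) • z
    rw [mul_smul, htz, map_mul, ← Algebra.smul_def]
  · obtain ⟨M, a, h⟩ := exists_pow_smul_mem B g z j
    exact ⟨g j ^ M, fun h' => hj (hp.isPrime.mem_of_pow_mem _ h'), a, h.symm⟩

theorem finite_of (h : ∀ l, ∃ G : Finset (B l), ∀ b : B l, ∃ s ∉ m l, s • b ∈ Submodule.span A (G : Set (B l))) :
    Module.Finite A (glued B g) := by
  classical
  choose G hG using h
  choose z s hs hz using fun (p : Σ l, G l) => lift_exists D p.1 p.2.1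
  refine ⟨⟨insert 1 (Finset.univ.image z), eq_top_iff.2 fun x _ => ?_⟩⟩
  refine mem_of_local _ fun p hp => ?_
  set N := Submodule.span A ((insert 1 (Finset.univ.image z) : Finset (glued B g)) : Set (glued B g))
  have h1 : ∀ a : A, algebraMap A (glued B g) a ∈ N := fun a => by
    rw [Algebra.algebraMap_eq_smul_one]
    exact Submodule.smul_mem _ _ (Submodule.subset_span (Finset.mem_coe.2 (Finset.mem_insert_self _ _)))
  rcases cases_maximal D p with ⟨l, rfl⟩ | ⟨j, hj⟩
  · obtain ⟨t, ht, htx⟩ := hG l (x.1.1 l)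
    have hpl : (m l).IsPrime := (hmax l).isPrime
    let W := N.map (projB B g l).toLinearMap
    have hgen : ∀ b ∈ Submodule.span A (G l : Set (B l)), ∃ v ∉ m l, v • b ∈ W := by
      intro b hb
      induction hb using Submodule.span_induction with
      | mem b hb =>
        exact ⟨s ⟨l, b, hb⟩, hs ⟨l, b, hb⟩, z ⟨l, b, hb⟩, Submodule.subset_span (Finset.mem_coe.2
          (Finset.mem_insert_of_mem (Finset.mem_image_of_mem z (Finset.mem_univ _)))), hz ⟨l, b, hb⟩⟩
      | zero => exact ⟨1, fun h => hpl.ne_top ((Ideal.eq_top_iff_one _).2 h), by rw [smul_zero]; exact W.zero_mem⟩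
      | add b b' _ _ hb hb' =>
        obtain ⟨v, hv, hvb⟩ := hb
        obtain ⟨v', hv', hvb'⟩ := hb'
        refine ⟨v * v', hpl.mul_notMem hv hv', ?_⟩
        rw [smul_add, mul_smul v v' b', mul_comm, mul_smul v' v b]
        exact W.add_mem (W.smul_mem _ hvb) (W.smul_mem _ hvb')
      | smul c b _ hb =>
        obtain ⟨v, hv, hvb⟩ := hb
        exact ⟨v, hv, by rw [smul_comm]; exact W.smul_mem c hvb⟩
    obtain ⟨v, hv, y, hy, hyv⟩ := hgen _ htx
    obtain ⟨w, hw, hwz⟩ := killed D l ((v * t) • x - y) (sub_eq_zero.2 (by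
      show (v * t) • x.1.1 l = y.1.1 l
      rw [mul_smul, ← hyv]; rfl))
    refine ⟨w * (v * t), hpl.mul_notMem hw (hpl.mul_notMem hv ht), ?_⟩
    rw [smul_sub, sub_eq_zero] at hwz
    rw [mul_smul, hwz]
    exact N.smul_mem _ hy
  · obtain ⟨M, a, h⟩ := exists_pow_smul_mem B g x j
    exact ⟨g j ^ M, fun h' => hj (hp.isPrime.mem_of_pow_mem _ h'), h ▸ h1 a⟩

end TameLib.GlueMax
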