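import Mathlib
import Groth.Prelude.Def_CycDet
import Groth.Agent.CycDetLib.Det
import Groth.Agent.CycDetLib.Exists
import Groth.Agent.TameLib.OrdFrac

/-!
# The symbol of a tuple and the defect of the lattice it spans

For a tuple `z` in `N` which is admissible and nondegenerate in `N_q`, the order of its symbol minus
the lengths of the gaps between consecutive saturated spans and the spans does not depend on `z`.
-/

set_option autoImplicit false
set_option linter.style.haveILetI false
set_option linter.unusedSectionVars false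
set_option maxHeartbeats 1000000

universe u

open IsLocalRing

namespace TameLib.Defect

variable {R : Type u} [CommRing R] [IsNoetherianRing R] {N : Type u} [AddCommGroup N] [Module R N]

/-- The length of `B / A`. -/
noncomputable def qlen (A B : Submodule R N) : ℕ∞ := Module.length R (↥B ⧸ A.submoduleOf B)

theorem qlen_chain {A B C : Submodule R N} (h₁ : A ≤ B) (h₂ : B ≤ C) : qlen A C = qlen A B + qlen B C := by
  refine Module.length_eq_add_of_exact
    (Submodule.mapQ (A.submoduleOf B) (A.submoduleOf C) (Submodule.inclusion h₂) fun x hx => hx)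
    (Submodule.mapQ (A.submoduleOf C) (B.submoduleOf C) LinearMap.id fun x hx => h₁ hx) ?_ ?_ ?_
  · rw [injective_iff_map_eq_zero]
    intro z hz
    obtain ⟨x, rfl⟩ := Submodule.Quotient.mk_surjective _ z
    rw [Submodule.mapQ_apply, Submodule.Quotient.mk_eq_zero] at hz
    rw [Submodule.Quotient.mk_eq_zero]
    exact hz
  · intro z
    obtain ⟨x, rfl⟩ := Submodule.Quotient.mk_surjective _ z
    exact ⟨Submodule.Quotient.mk x, rfl⟩
  · intro z
    obtain ⟨x, rfl⟩ := Submodule.Quotient.mk_surjective _ z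
    rw [Submodule.mapQ_apply, Submodule.Quotient.mk_eq_zero]
    constructor
    · intro hx
      exact ⟨Submodule.Quotient.mk ⟨x.1, hx⟩, rfl⟩
    · rintro ⟨w, hw⟩
      obtain ⟨w, rfl⟩ := Submodule.Quotient.mk_surjective _ w
      rw [Submodule.mapQ_apply, Submodule.Quotient.eq] at hw
      have h : w.1 - x.1 ∈ B := h₁ hw
      show x.1 ∈ B
      simpa using B.sub_mem w.2 h

theorem qlen_self_sup (A B : Submodule R N) : qlen B (A ⊔ B) = qlen (A ⊓ B) A := by
  refine (LinearEquiv.length_eq ?_).symm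
  exact (Submodule.quotEquivOfEq _ _ (by ext x; simp [Submodule.submoduleOf])).trans
    (LinearMap.quotientInfEquivSupQuotient A B)

theorem qlen_self (A : Submodule R N) : qlen A A = 0 := by
  rw [qlen, Module.length_eq_zero_iff, Submodule.Quotient.subsingleton_iff]
  exact Submodule.submoduleOf_self A

theorem qlen_top (A : Submodule R N) : qlen A ⊤ = Module.length R (N ⧸ A) :=
  LinearEquiv.length_eq (Submodule.Quotient.equiv _ _ Submodule.topEquiv (by
    ext x; simp [Submodule.submoduleOf, Submodule.mem_map]))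

variable (q : Ideal R) [q.IsPrime]

local notation "Rq" => Localization.AtPrime q
local notation "Nq" => LocalizedModule q.primeCompl N
local notation "ι" => LocalizedModule.mkLinearMap q.primeCompl N

/-- The saturated span of the entries before `i`. -/
noncomputable def sat {l : ℕ} (z : Fin l → N) (i : ℕ) : Submodule R N :=
  ((CycDet.spanBefore Rq Nq (fun j => ι (z j)) i).restrictScalars R).comap ι

/-- The defect. -/
noncomputable def defect {l : ℕ} (z : Fin l → N) : ℤ :=
  ∑ i : Fin l, ((qlen (sat q z i ⊔ Submodule.span R {z i}) (sat q z (i + 1))).toNat : ℤ)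

variable {q}

theorem mk'_smul (a : R) (t : q.primeCompl) (x : Nq) :
    algebraMap R Rq (t : R) • (IsLocalization.mk' Rq a t • x) = a • x := by
  rw [smul_smul, mul_comm, IsLocalization.mk'_spec, algebraMap_smul]

theorem mem_sat_smul {l : ℕ} {z : Fin l → N} {i : ℕ} {t : R} (ht : t ∉ q) {x : N} (h : t • x ∈ sat q z i) :
    x ∈ sat q z i := by
  have h' : algebraMap R Rq t • ι x ∈ CycDet.spanBefore Rq Nq (fun j => ι (z j)) i := by
    rw [algebraMap_smul, ← map_smul]; exact h
  obtain ⟨u, hu⟩ := IsLocalization.map_units Rq (⟨t, ht⟩ : q.primeCompl)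
  have h'' := Submodule.smul_mem _ (↑u⁻¹ : Rq) h'
  rw [smul_smul, show algebraMap R Rq t = (u : Rq) from hu.symm, Units.inv_mul, one_smul] at h''
  exact h''

theorem max_smul {l : ℕ} {e : Fin l → Nq} {i : ℕ} {x : Nq}
    (h : ∀ r ∈ q, r • x ∈ CycDet.spanBefore Rq Nq e i) :
    ∀ r ∈ maximalIdeal Rq, r • x ∈ CycDet.spanBefore Rq Nq e i := by
  intro r hr
  obtain ⟨a, t, rfl⟩ := IsLocalization.exists_mk'_eq q.primeCompl r
  have ha : a ∈ q := by
    exact (IsLocalization.AtPrime.mk'_mem_maximal_iff Rq q a t).1 hr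
  have h1 : a • x ∈ CycDet.spanBefore Rq Nq e i := h a ha
  rw [← mk'_smul a t x] at h1
  obtain ⟨u, hu⟩ := IsLocalization.map_units Rq t
  have h'' := Submodule.smul_mem _ (↑u⁻¹ : Rq) h1
  rwa [smul_smul, show algebraMap R Rq (t : R) = (u : Rq) from hu.symm, Units.inv_mul, one_smul] at h''

theorem smul_mem_of_max {l : ℕ} {z : Fin l → N} {i : ℕ} {x : N}
    (h : ∀ r ∈ maximalIdeal Rq, r • ι x ∈ CycDet.spanBefore Rq Nq (fun j => ι (z j)) i) {r : R} (hr : r ∈ q) :
    r • x ∈ sat q z i := by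
  show ι (r • x) ∈ CycDet.spanBefore Rq Nq (fun j => ι (z j)) i
  rw [map_smul, ← algebraMap_smul Rq r (ι x)]
  exact h _ ((IsLocalization.AtPrime.to_map_mem_maximal_iff Rq q r).2 hr)

variable [IsLocalRing R] [Module.Finite R N] [Ring.KrullDimLE 1 (R ⧸ q)]

theorem length_quot_lt_top {a : R} (ha : a ∉ q) :
    Module.length R (R ⧸ (Ideal.span {a} ⊔ q)) = Ring.ord (R ⧸ q) (Ideal.Quotient.mk q a) := by
  rw [Ring.ord, ← Module.length_eq_of_surjective (R := R ⧸ q) (S := R) Ideal.Quotient.mk_surjective]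
  refine LinearEquiv.length_eq ?_
  exact (((Ideal.quotientEquivAlgOfEq R (sup_comm (Ideal.span {a}) q)).trans
    (DoubleQuot.quotQuotEquivQuotSupₐ R q (Ideal.span {a})).symm).trans
      (Ideal.quotientEquivAlgOfEq R (by rw [Ideal.map_span, Set.image_singleton]; rfl))).toLinearEquiv

theorem ord_lt_top' {a : R} (ha : a ∉ q) : Ring.ord (R ⧸ q) (Ideal.Quotient.mk q a) < ⊤ :=
  Ring.ord_lt_top (mem_nonZeroDivisors_of_ne_zero fun h => ha (Ideal.Quotient.eq_zero_iff_mem.1 h))

/-- Killed modulo a submodule by `q` and by some element outside `q`: finite length. -/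
theorem qlen_lt_top {A B : Submodule R N} (h₁ : ∀ r ∈ q, ∀ x ∈ B, r • x ∈ A)
    (h₂ : ∀ x ∈ B, ∃ t ∉ q, t • x ∈ A) : qlen A B < ⊤ := by
  classical
  haveI : IsNoetherian R N := isNoetherian_of_isNoetherianRing_of_finite R N
  obtain ⟨G, hG⟩ := (IsNoetherian.noetherian B : B.FG)
  choose t ht htx using fun g : G => h₂ g (by rw [← hG]; exact Submodule.subset_span g.2)
  let s := ∏ g, t g
  have hs : s ∉ q := fun h => by
    obtain ⟨g, -, hg⟩ := (Ideal.IsPrime.prod_mem_iff (hp := ‹q.IsPrime›)).1 h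
    exact ht g hg
  have hsB : ∀ x ∈ B, s • x ∈ A := by
    intro x hx
    rw [← hG] at hx
    induction hx using Submodule.span_induction with
    | mem g hg =>
      obtain ⟨d, hd⟩ := Finset.dvd_prod_of_mem t (Finset.mem_univ (⟨g, hg⟩ : G))
      rw [show s = _ from hd, mul_comm, mul_smul]
      exact A.smul_mem _ (htx ⟨g, hg⟩)
    | zero => rw [smul_zero]; exact A.zero_mem
    | add x y _ _ hx hy => rw [smul_add]; exact A.add_mem hx hy
    | smul c x _ hx => rw [smul_comm]; exact A.smul_mem c hx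
  have hI : ∀ r ∈ Ideal.span {s} ⊔ q, ∀ x ∈ B, r • x ∈ A := by
    intro r hr x hx
    obtain ⟨w, hw, p, hp, rfl⟩ := Submodule.mem_sup.1 hr
    obtain ⟨c, rfl⟩ := Ideal.mem_span_singleton'.1 hw
    rw [add_smul, mul_smul]
    exact A.add_mem (A.smul_mem c (hsB x hx)) (h₁ p hp x hx)
  set I := Ideal.span {s} ⊔ q with hIdef
  let M := ↥B ⧸ A.submoduleOf B
  haveI : IsNoetherian R B := inferInstance
  have hM : Module.IsTorsionBySet R M (I : Set R) := by
    rintro x ⟨r, hr⟩
    obtain ⟨x, rfl⟩ := Submodule.Quotient.mk_surjective _ x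
    show r • Submodule.Quotient.mk x = 0
    rw [← Submodule.Quotient.mk_smul, Submodule.Quotient.mk_eq_zero]
    exact hI r hr x.1 x.2
  letI : Module (R ⧸ I) M := hM.module
  haveI : IsScalarTower R (R ⧸ I) M := hM.isScalarTower
  haveI : Module.Finite (R ⧸ I) M := Module.Finite.of_restrictScalars_finite R _ _
  have hlt : Module.length R (R ⧸ I) < ⊤ := by rw [hIdef, length_quot_lt_top hs]; exact ord_lt_top' hs
  haveI : IsArtinianRing (R ⧸ I) := by
    haveI : IsArtinian R (R ⧸ I) := (isFiniteLength_iff_isNoetherian_isArtinian.1 (Module.length_ne_top_iff.1 hlt.ne)).2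
    exact isArtinian_of_tower R inferInstance
  show Module.length R M < ⊤
  rw [Module.length_eq_of_surjective (R := R ⧸ I) (S := R) Ideal.Quotient.mk_surjective]
  exact (Module.length_ne_top_iff.2 (isFiniteLength_iff_isNoetherian_isArtinian.2 ⟨inferInstance, inferInstance⟩)).lt_top

/-- Multiplying the generator by `a`. -/
theorem qlen_smul {A : Submodule R N} {x : N} (hq : ∀ r ∈ q, r • x ∈ A) (hn : ∀ t ∉ q, t • x ∉ A) {a : R}
    (ha : a ∉ q) : qlen (A ⊔ Submodule.span R {a • x}) (A ⊔ Submodule.span R {x}) =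
      Ring.ord (R ⧸ q) (Ideal.Quotient.mk q a) := by
  rw [← length_quot_lt_top ha]
  let B := A ⊔ Submodule.span R {x}
  let A' := A ⊔ Submodule.span R {a • x}
  let ψ : R →ₗ[R] (↥B ⧸ A'.submoduleOf B) :=
    (Submodule.mkQ _).comp (LinearMap.toSpanSingleton R B ⟨x, Submodule.mem_sup_right (Submodule.mem_span_singleton_self x)⟩)
  have hψ : Function.Surjective ψ := by
    intro z
    obtain ⟨⟨z, hz⟩, rfl⟩ := Submodule.Quotient.mk_surjective _ z
    obtain ⟨g, hg, w, hw, rfl⟩ := Submodule.mem_sup.1 hz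
    obtain ⟨r, rfl⟩ := Submodule.mem_span_singleton.1 hw
    refine ⟨r, (Submodule.Quotient.eq _).2 ?_⟩
    show r • x - (g + r • x) ∈ A'
    rw [sub_add_cancel_right]
    exact Submodule.mem_sup_left (A.neg_mem hg)
  have hker : LinearMap.ker ψ = Ideal.span {a} ⊔ q := by
    ext r
    show Submodule.Quotient.mk _ = 0 ↔ _
    rw [Submodule.Quotient.mk_eq_zero]
    show r • x ∈ A' ↔ _
    constructor
    · intro h
      obtain ⟨g, hg, w, hw, he⟩ := Submodule.mem_sup.1 h
      obtain ⟨b, rfl⟩ := Submodule.mem_span_singleton.1 hw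
      have h2 : (r - b * a) • x ∈ A := by
        rw [sub_smul, mul_smul, ← he, add_sub_cancel_right]; exact hg
      have h3 : r - b * a ∈ q := by
        by_contra h4; exact hn _ h4 h2
      exact Submodule.mem_sup.2 ⟨b * a, Ideal.mem_span_singleton'.2 ⟨b, rfl⟩, _, h3, by ring⟩
    · intro h
      obtain ⟨w, hw, p, hp, rfl⟩ := Submodule.mem_sup.1 h
      obtain ⟨b, rfl⟩ := Ideal.mem_span_singleton'.1 hw
      rw [add_smul, mul_smul]
      exact add_mem (Submodule.mem_sup_right (Submodule.smul_mem _ b (Submodule.mem_span_singleton_self _)))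
        (Submodule.mem_sup_left (hq p hp))
  exact ((Submodule.quotEquivOfEq _ _ hker.symm).trans (ψ.quotKerEquivOfSurjective hψ)).length_eq.symm

variable (q) in
/-- Tuples in `N` which are admissible and nondegenerate in `N_q`. -/
def Good {l : ℕ} (z : Fin l → N) : Prop :=
  CycDet.IsAdmissible Rq Nq (fun j => ι (z j)) ∧ CycDetLib.Nondeg (R := Rq) (fun j => ι (z j))

section good

variable {l : ℕ} {z : Fin l → N} (hz : Good q z)
include hz

theorem smul_mem_sat (i : Fin l) {r : R} (hr : r ∈ q) : r • z i ∈ sat q z i :=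
  smul_mem_of_max (hz.1 i) hr

theorem smul_not_mem_sat (i : Fin l) {t : R} (ht : t ∉ q) : t • z i ∉ sat q z i := fun h =>
  hz.2 i (mem_sat_smul ht h)

omit hz in
theorem sat_mono {i j : ℕ} (h : i ≤ j) : sat q z i ≤ sat q z j :=
  fun x hx => CycDetLib.sB_mono (fun j => ι (z j)) h hx

omit hz in
theorem mem_sat_self (i : Fin l) : z i ∈ sat q z ((i : ℕ) + 1) :=
  CycDetLib.mem_sB (fun j => ι (z j)) (Nat.lt_succ_self _)

omit hz in
theorem gap_le (i : Fin l) : sat q z i ⊔ Submodule.span R {z i} ≤ sat q z ((i : ℕ) + 1) :=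
  sup_le (sat_mono (Nat.le_succ _)) ((Submodule.span_singleton_le_iff_mem _ _).2 (mem_sat_self i))

theorem gap_lt_top (i : Fin l) : qlen (sat q z i ⊔ Submodule.span R {z i}) (sat q z ((i : ℕ) + 1)) < ⊤ := by
  refine qlen_lt_top (q := q) (fun r hr x hx => Submodule.mem_sup_left ?_) fun x hx => ?_
  · have hx' : ι x ∈ CycDet.spanBefore Rq Nq (fun j => ι (z j)) ((i : ℕ) + 1) := hx
    rw [CycDetLib.sB_succ, Submodule.mem_sup] at hx'
    obtain ⟨g, hg, w, hw, he⟩ := hx'
    obtain ⟨c, rfl⟩ := Submodule.mem_span_singleton.1 hw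
    show ι (r • x) ∈ CycDet.spanBefore Rq Nq (fun j => ι (z j)) i
    rw [map_smul, ← algebraMap_smul Rq r (ι x), ← he, smul_add, smul_smul]
    exact add_mem (Submodule.smul_mem _ _ hg) (hz.1 i _ (Ideal.mul_mem_right _ _
      ((IsLocalization.AtPrime.to_map_mem_maximal_iff Rq q r).2 hr)))
  · have hx' : ι x ∈ CycDet.spanBefore Rq Nq (fun j => ι (z j)) ((i : ℕ) + 1) := hx
    rw [CycDetLib.sB_succ, Submodule.mem_sup] at hx'
    obtain ⟨g, hg, w, hw, he⟩ := hx'
    obtain ⟨c, rfl⟩ := Submodule.mem_span_singleton.1 hw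
    obtain ⟨a, ⟨t, ht⟩, rfl⟩ := IsLocalization.exists_mk'_eq q.primeCompl c
    refine ⟨t, ht, Submodule.mem_sup.2 ⟨t • x - a • z i, ?_, a • z i,
      Submodule.smul_mem _ _ (Submodule.mem_span_singleton_self _), sub_add_cancel _ _⟩⟩
    show ι (t • x - a • z i) ∈ CycDet.spanBefore Rq Nq (fun j => ι (z j)) i
    rw [map_sub, map_smul, map_smul, ← mk'_smul a (⟨t, ht⟩ : q.primeCompl) (ι (z i)), ← algebraMap_smul Rq t (ι x),
      ← he, smul_add, add_sub_cancel_right]
    exact Submodule.smul_mem _ _ hg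

end good

variable (q) in
/-- The invariant. -/
noncomputable def inv {l : ℕ} (F : CycDetLib.Ref Rq Nq l) (z : Fin l → N) : ℤ :=
  CycAlg.ordFrac (R ⧸ q) q.ResidueField (CycDetLib.phi F (fun j => ι (z j))) - defect q z

theorem residue_mk' (p : R) (t : q.primeCompl) :
    IsLocalRing.residue Rq (IsLocalization.mk' Rq p t) * algebraMap (R ⧸ q) q.ResidueField (Ideal.Quotient.mk q (t : R)) =
      algebraMap (R ⧸ q) q.ResidueField (Ideal.Quotient.mk q p) := by
  show IsLocalRing.residue Rq (IsLocalization.mk' Rq p t) * IsLocalRing.residue Rq (algebraMap R Rq (t : R)) =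
    IsLocalRing.residue Rq (algebraMap R Rq p)
  rw [← map_mul, IsLocalization.mk'_spec]

theorem inv_update {l : ℕ} (F : CycDetLib.Ref Rq Nq l) {z : Fin l → N} (hz : Good q z) (k : Fin l) (w : N)
    (c : Rqˣ) (hc : ι w - (c : Rq) • ι (z k) ∈ CycDet.spanBefore Rq Nq (fun j => ι (z j)) k) :
    Good q (Function.update z k w) ∧ inv q F (Function.update z k w) = inv q F z := by
  classical
  set z' := Function.update z k w with hz'
  have he : ∀ j, j ≠ k → ι (z' j) = ι (z j) := fun j hj => by rw [hz', Function.update_of_ne hj]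
  have hk : z' k = w := Function.update_self _ _ _
  have hbk : CycDet.spanBefore Rq Nq (fun j => ι (z' j)) k = CycDet.spanBefore Rq Nq (fun j => ι (z j)) k :=
    CycDetLib.sB_congr fun j hj => he j fun h => by rw [h] at hj; omega
  have hc' : ι (z' k) - (c : Rq) • ι (z k) ∈ CycDet.spanBefore Rq Nq (fun j => ι (z' j)) k := by
    rw [hk, hbk]; exact hc
  have hsB : ∀ i, CycDet.spanBefore Rq Nq (fun j => ι (z' j)) i = CycDet.spanBefore Rq Nq (fun j => ι (z j)) i :=
    fun i => CycDetLib.sB_eq_update (e := fun j => ι (z' j)) (e' := fun j => ι (z j)) he hc' i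
  have hsat : ∀ i, sat q z' i = sat q z i := fun i => by rw [sat, sat, hsB]
  have hadm : CycDet.IsAdmissible Rq Nq (fun j => ι (z' j)) := by
    intro j r hr
    rw [hsB]
    by_cases hj : j = k
    · subst hj
      show r • ι (z' j) ∈ _
      rw [hk, ← sub_add_cancel (ι w) ((c : Rq) • ι (z j)), smul_add, smul_comm r (c : Rq)]
      exact add_mem (Submodule.smul_mem _ _ hc) (Submodule.smul_mem _ _ (hz.1 j r hr))
    · show r • ι (z' j) ∈ _
      rw [he j hj]; exact hz.1 j r hr
  have hnd : CycDetLib.Nondeg (R := Rq) (fun j => ι (z' j)) := by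
    intro j hj
    rw [hsB] at hj
    by_cases hjk : j = k
    · subst hjk
      have hj' : ι w ∈ CycDet.spanBefore Rq Nq (fun i => ι (z i)) j := by rw [← hk]; exact hj
      refine hz.2 j ?_
      have := Submodule.smul_mem _ (↑c⁻¹ : Rq) (sub_mem hj' hc)
      rwa [sub_sub_cancel, smul_smul, Units.inv_mul, one_smul] at this
    · have hj' : ι (z' j) ∈ CycDet.spanBefore Rq Nq (fun i => ι (z i)) j := hj
      rw [he j hjk] at hj'
      exact hz.2 j hj'
  refine ⟨⟨hadm, hnd⟩, ?_⟩
  have hphi := CycDetLib.phi_update F (e := ⟨fun j => ι (z' j), hadm⟩) (e' := ⟨fun j => ι (z j), hz.1⟩) he hc'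
  obtain ⟨p, ⟨t, ht⟩, hpt⟩ := IsLocalization.exists_mk'_eq q.primeCompl (c : Rq)
  have hp : p ∉ q := fun h => by
    have hm : IsLocalization.mk' Rq p (⟨t, ht⟩ : q.primeCompl) ∈ maximalIdeal Rq :=
      (IsLocalization.AtPrime.mk'_mem_maximal_iff Rq q p _).2 h
    rw [hpt] at hm
    exact hm c.isUnit
  have hres := residue_mk' (q := q) p ⟨t, ht⟩
  rw [hpt] at hres
  have hne : ∀ a : R, a ∉ q → Ideal.Quotient.mk q a ≠ 0 := fun a ha h => ha (Ideal.Quotient.eq_zero_iff_mem.1 h)
  have hneK : algebraMap (R ⧸ q) q.ResidueField (Ideal.Quotient.mk q t) ≠ 0 := fun h =>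
    hne t ht (IsFractionRing.injective (R ⧸ q) q.ResidueField (h.trans (map_zero _).symm))
  have hc0 : IsLocalRing.residue Rq (c : Rq) ≠ 0 := (c.isUnit.map _).ne_zero
  have hordc := congrArg (CycAlg.ordFrac (R ⧸ q) q.ResidueField) hres
  rw [ordFrac_mul hc0 hneK, ordFrac_algebraMap (hne p hp), ordFrac_algebraMap (hne t ht)] at hordc
  have hphi0 : CycDetLib.phi F (fun j => ι (z j)) ≠ 0 := CycDetLib.phi_ne_zero F hz.2
  -- the change of the defect
  have hdiff : t • w - p • z k ∈ sat q z k := by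
    show ι (t • w - p • z k) ∈ CycDet.spanBefore Rq Nq (fun j => ι (z j)) k
    rw [map_sub, map_smul, map_smul, ← mk'_smul p (⟨t, ht⟩ : q.primeCompl) (ι (z k)), hpt,
      ← algebraMap_smul Rq t (ι w), ← smul_sub]
    exact Submodule.smul_mem _ _ hc
  have hgood' : Good q z' := ⟨hadm, hnd⟩
  have hw₁ : ∀ r ∈ q, r • w ∈ sat q z k := fun r hr => by
    have := smul_mem_sat hgood' k hr
    rwa [hk, hsat] at this
  have hw₂ : ∀ s ∉ q, s • w ∉ sat q z k := fun s hs => by
    have := smul_not_mem_sat hgood' k hs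
    rwa [hk, hsat] at this
  set A := sat q z k
  set B := sat q z ((k : ℕ) + 1)
  have hwB : w ∈ B := by
    have := mem_sat_self (q := q) (z := z') k
    rwa [hk, hsat] at this
  have heq : A ⊔ Submodule.span R {t • w} = A ⊔ Submodule.span R {p • z k} := by
    refine le_antisymm (sup_le le_sup_left ?_) (sup_le le_sup_left ?_) <;>
      rw [Submodule.span_singleton_le_iff_mem, Submodule.mem_sup]
    · exact ⟨t • w - p • z k, hdiff, p • z k, Submodule.mem_span_singleton_self _, sub_add_cancel _ _⟩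
    · exact ⟨-(t • w - p • z k), A.neg_mem hdiff, t • w, Submodule.mem_span_singleton_self _, by abel⟩
  have l₁ : A ⊔ Submodule.span R {t • w} ≤ A ⊔ Submodule.span R {w} :=
    sup_le le_sup_left ((Submodule.span_singleton_le_iff_mem _ _).2
      (Submodule.mem_sup_right (Submodule.smul_mem _ _ (Submodule.mem_span_singleton_self _))))
  have l₂ : A ⊔ Submodule.span R {w} ≤ B :=
    sup_le (sat_mono (Nat.le_succ _)) ((Submodule.span_singleton_le_iff_mem _ _).2 hwB)
  have l₃ : A ⊔ Submodule.span R {p • z k} ≤ A ⊔ Submodule.span R {z k} :=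
    sup_le le_sup_left ((Submodule.span_singleton_le_iff_mem _ _).2
      (Submodule.mem_sup_right (Submodule.smul_mem _ _ (Submodule.mem_span_singleton_self _))))
  have e1 := qlen_chain l₁ l₂
  rw [qlen_smul hw₁ hw₂ ht, heq, qlen_chain l₃ (gap_le k),
    qlen_smul (fun r hr => smul_mem_sat hz k hr) (fun s hs => smul_not_mem_sat hz k hs) hp] at e1
  have e1' := congrArg ENat.toNat e1
  have g1 := gap_lt_top hgood' k
  rw [hk, hsat, hsat] at g1
  rw [ENat.toNat_add (ord_lt_top' hp).ne (gap_lt_top hz k).ne, ENat.toNat_add (ord_lt_top' ht).ne g1.ne] at e1'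
  have hdef : defect q z' - defect q z =
      ((qlen (A ⊔ Submodule.span R {w}) B).toNat : ℤ) - (qlen (A ⊔ Submodule.span R {z k}) B).toNat := by
    rw [defect, defect, ← Finset.sum_sub_distrib, Finset.sum_eq_single k]
    · rw [hsat, hsat, hk]
    · intro i _ hi
      rw [hsat, hsat, hz', Function.update_of_ne hi, sub_self]
    · intro h; exact absurd (Finset.mem_univ k) h
  have key : CycAlg.ordFrac (R ⧸ q) q.ResidueField (CycDetLib.phi F fun j => ι (z' j)) +
      ((Ring.ord (R ⧸ q) (Ideal.Quotient.mk q t)).toNat : ℤ) =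
      CycAlg.ordFrac (R ⧸ q) q.ResidueField (CycDetLib.phi F fun j => ι (z j)) +
        ((Ring.ord (R ⧸ q) (Ideal.Quotient.mk q p)).toNat : ℤ) := by
    rw [hphi]
    exact (congrArg (fun x => x + ((Ring.ord (R ⧸ q) (Ideal.Quotient.mk q t)).toNat : ℤ))
      (ordFrac_mul hc0 hphi0)).trans (by rw [add_right_comm, hordc, add_comm])
  simp only [A, B] at e1' hdef
  rw [inv, inv]
  omega

theorem inv_swap {l : ℕ} (F : CycDetLib.Ref Rq Nq l) {z : Fin l → N} (hz : Good q z) {a b : Fin l}
    (hab : (b : ℕ) + 1 = a)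
    (hm : ∀ r ∈ maximalIdeal Rq, r • ι (z a) ∈ CycDet.spanBefore Rq Nq (fun j => ι (z j)) b) :
    Good q (z ∘ Equiv.swap a b) ∧ inv q F (z ∘ Equiv.swap a b) = inv q F z := by
  classical
  set z' := z ∘ Equiv.swap a b with hz'
  have hne : a ≠ b := fun h => by rw [h] at hab; omega
  let e : CycDet.Adm Rq Nq l := ⟨fun j => ι (z j), hz.1⟩
  have hadm : CycDet.IsAdmissible Rq Nq (fun j => ι (z' j)) := CycDetLib.adm_swap (e := e) hab hm
  let e' : CycDet.Adm Rq Nq l := ⟨fun j => ι (z' j), hadm⟩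
  have hself : (e'.1 ∘ Equiv.swap a b) = e.1 := funext fun j => by
    show ι (z (Equiv.swap a b (Equiv.swap a b j))) = ι (z j)
    rw [Equiv.swap_apply_self]
  have hsB : ∀ i : ℕ, i ≠ (a : ℕ) →
      CycDet.spanBefore Rq Nq (fun j => ι (z' j)) i = CycDet.spanBefore Rq Nq (fun j => ι (z j)) i := by
    intro i hi
    by_cases hil : i < l
    · exact CycDetLib.sB_swap (e := fun j => ι (z j)) hab (i := ⟨i, hil⟩) fun h => hi (congrArg Fin.val h)
    · rw [CycDetLib.sB_len _ (not_lt.1 hil), CycDetLib.sB_len _ (not_lt.1 hil)]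
      congr 1
      exact (Equiv.swap a b).surjective.range_comp (fun j => ι (z j))
  have hnd : CycDetLib.Nondeg (R := Rq) (fun j => ι (z' j)) := by
    refine CycDetLib.nondeg_of_swap (e := e') hab (fun r hr => ?_) (by rw [hself]; exact hz.2)
    show r • ι (z (Equiv.swap a b a)) ∈ _
    rw [Equiv.swap_apply_left, hsB b (fun h => hne (Fin.ext h).symm)]
    exact hz.1 b r hr
  have hgood : Good q z' := ⟨hadm, hnd⟩
  refine ⟨hgood, ?_⟩
  have hphi := CycDetLib.phi_swap F (e := e) (e' := e') hab hm rfl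
  have hsat : ∀ i : ℕ, i ≠ (a : ℕ) → sat q z' i = sat q z i := fun i hi => by rw [sat, sat, hsB i hi]
  have hordneg : CycAlg.ordFrac (R ⧸ q) q.ResidueField (CycDetLib.phi F e'.1) =
      CycAlg.ordFrac (R ⧸ q) q.ResidueField (CycDetLib.phi F e.1) := by
    rw [show CycDetLib.phi F e'.1 = (-1) * CycDetLib.phi F e.1 by linear_combination hphi,
      ordFrac_mul (neg_ne_zero.2 one_ne_zero) (CycDetLib.phi_ne_zero F hz.2), ordFrac_neg_one, zero_add]
  -- both pairs of gaps fill the same quotient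
  have two : ∀ {y : Fin l → N}, Good q y →
      (∀ r ∈ q, r • y a ∈ sat q y b) →
      qlen (sat q y b ⊔ Submodule.span R {y b}) (sat q y a) + qlen (sat q y a ⊔ Submodule.span R {y a}) (sat q y ((a : ℕ) + 1)) =
        qlen (sat q y b ⊔ Submodule.span R {y b} ⊔ Submodule.span R {y a}) (sat q y ((a : ℕ) + 1)) := by
    intro y hy hya
    have hba : sat q y b ⊔ Submodule.span R {y b} ≤ sat q y a := hab ▸ gap_le b
    rw [qlen_chain (B := sat q y a ⊔ Submodule.span R {y a}) (sup_le_sup_right hba _) (gap_le a)]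
    congr 1
    rw [show sat q y a ⊔ Submodule.span R {y a} = sat q y a ⊔ (sat q y b ⊔ Submodule.span R {y b} ⊔ Submodule.span R {y a}) by
      rw [← sup_assoc, sup_eq_left.2 hba], qlen_self_sup]
    congr 1
    refine le_antisymm (le_inf hba le_sup_left) ?_
    rintro x ⟨hxL, hx⟩
    obtain ⟨g, hg, w, hw, rfl⟩ := Submodule.mem_sup.1 hx
    obtain ⟨β, rfl⟩ := Submodule.mem_span_singleton.1 hw
    have hβ : β • y a ∈ sat q y a := by simpa using sub_mem hxL (hba hg)
    have hβq : β ∈ q := by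
      by_contra h; exact smul_not_mem_sat hy a h hβ
    exact add_mem hg (Submodule.mem_sup_left (hya β hβq))
  have h1 := two hz (fun r hr => smul_mem_of_max hm hr)
  have hbne : (b : ℕ) ≠ a := by omega
  have h2 := two hgood (fun r hr => by
    rw [hsat b hbne, show z' a = z b by rw [hz', Function.comp_apply, Equiv.swap_apply_left]]
    exact smul_mem_sat hz b hr)
  rw [hsat b hbne, hsat ((a : ℕ) + 1) (by omega), show z' a = z b by rw [hz', Function.comp_apply, Equiv.swap_apply_left],
    show z' b = z a by rw [hz', Function.comp_apply, Equiv.swap_apply_right], sup_right_comm, ← h1] at h2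
  have g1 := gap_lt_top hgood b
  have g2 := gap_lt_top hgood a
  rw [hsat b hbne, hab, show z' b = z a by rw [hz', Function.comp_apply, Equiv.swap_apply_right]] at g1
  rw [hsat ((a : ℕ) + 1) (by omega), show z' a = z b by rw [hz', Function.comp_apply, Equiv.swap_apply_left]] at g2
  have g3 := gap_lt_top hz b
  rw [hab] at g3
  have g4 := gap_lt_top hz a
  have h2' := congrArg ENat.toNat h2
  rw [ENat.toNat_add g1.ne g2.ne, ENat.toNat_add g3.ne g4.ne] at h2'
  have hdef : defect q z' = defect q z := by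
    rw [← sub_eq_zero, defect, defect, ← Finset.sum_sub_distrib,
      ← Finset.sum_subset (Finset.subset_univ ({b, a} : Finset (Fin l))) (fun i _ hi => by
        rw [Finset.mem_insert, Finset.mem_singleton, not_or] at hi
        rw [hsat i (fun h => hi.2 (Fin.ext h)), hsat ((i : ℕ) + 1) (fun h => hi.1 (Fin.ext (by omega))), hz',
          Function.comp_apply, Equiv.swap_apply_of_ne_of_ne hi.2 hi.1, sub_self]),
      Finset.sum_pair hne.symm, hab, hsat b hbne, hsat ((a : ℕ) + 1) (by omega), hz', Function.comp_apply,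
      Function.comp_apply, Equiv.swap_apply_right, Equiv.swap_apply_left]
    rw [hz'] at h2'
    omega
  rw [inv, inv, hdef]
  exact congrArg (· - defect q z) hordneg

theorem good_span {l : ℕ} (F : CycDetLib.Ref Rq Nq l) (hF : CycDetLib.Nondeg (R := Rq) F.f.1) {z : Fin l → N}
    (hz : Good q z) : Submodule.span Rq (Set.range fun j => ι (z j)) = ⊤ := by
  let e : CycDet.Adm Rq Nq l := ⟨fun j => ι (z j), hz.1⟩
  have h1 := CycDetLib.length_sB_eq (e := e) hz.2 l le_rfl
  have h2 := CycDetLib.length_sB_eq (e := F.f) hF l le_rfl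
  rw [CycDetLib.sB_len _ le_rfl] at h1 h2
  rw [F.span_eq, Module.length_top] at h2
  set S := Submodule.span Rq (Set.range e.1) with hS
  have h3 := Module.length_eq_add_of_exact S.subtype S.mkQ (Submodule.subtype_injective _)
    (Submodule.mkQ_surjective _) (LinearMap.exact_subtype_mkQ S)
  rw [h1, h2] at h3
  have h4 : Module.length Rq (Nq ⧸ S) = 0 :=
    ((WithTop.add_left_inj (ENat.natCast_ne_top l)).1 (h3.symm.trans (add_zero _).symm))
  rwa [Module.length_eq_zero_iff, Submodule.Quotient.subsingleton_iff] at h4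

theorem inv_bubble {l : ℕ} (F : CycDetLib.Ref Rq Nq l) (y : Fin l → N) (n : Fin l) :
    ∀ (d : ℕ) (z : Fin l → N) (k : Fin l), Good q z → (k : ℕ) = n + d → z k = y n →
      (∀ r ∈ maximalIdeal Rq, r • ι (y n) ∈ CycDet.spanBefore Rq Nq (fun j => ι (z j)) n) →
      ∃ z', Good q z' ∧ inv q F z' = inv q F z ∧ (∀ j : Fin l, (j : ℕ) < n → z' j = z j) ∧ z' n = y n := by
  intro d
  induction d with
  | zero =>
    intro z k hz hk hzk _
    obtain rfl : k = n := Fin.ext (by omega)
    exact ⟨z, hz, rfl, fun _ _ => rfl, hzk⟩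
  | succ d ih =>
    intro z k hz hk hzk hm
    let b : Fin l := ⟨(n : ℕ) + d, by omega⟩
    have hab : (b : ℕ) + 1 = k := by show (n : ℕ) + d + 1 = k; omega
    obtain ⟨hg, hi⟩ := inv_swap F hz hab (fun r hr => by
      rw [hzk]; exact CycDetLib.sB_mono _ (by show (n : ℕ) ≤ n + d; omega) (hm r hr))
    have hlow : ∀ j : Fin l, (j : ℕ) < n → (z ∘ Equiv.swap k b) j = z j := fun j hj => by
      rw [Function.comp_apply, Equiv.swap_apply_of_ne_of_ne (fun h => by rw [h] at hj; omega)
        (fun h => by rw [h] at hj; simp only [b] at hj; omega)]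
    obtain ⟨z', hg', hi', hlow', hn'⟩ := ih (z ∘ Equiv.swap k b) b hg rfl
      (by rw [Function.comp_apply, Equiv.swap_apply_right, hzk]) (fun r hr => by
        rw [CycDetLib.sB_congr (e' := fun j => ι (z j)) fun j hj => congrArg ι (hlow j hj)]
        exact hm r hr)
    exact ⟨z', hg', hi'.trans hi, fun j hj => (hlow' j hj).trans (hlow j hj), hn'⟩

theorem inv_eq {l : ℕ} (F : CycDetLib.Ref Rq Nq l) (hF : CycDetLib.Nondeg (R := Rq) F.f.1) {y : Fin l → N}
    (hy : Good q y) : ∀ (d : ℕ) (n : ℕ) (z : Fin l → N), Good q z → n + d = l →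
      (∀ j : Fin l, (j : ℕ) < n → z j = y j) → inv q F z = inv q F y := by
  classical
  intro d
  induction d with
  | zero =>
    intro n z _ hn h
    rw [show z = y from funext fun j => h j (by omega)]
  | succ d ih =>
    intro n z hz hn h
    let nn : Fin l := ⟨n, by omega⟩
    have hsn : CycDet.spanBefore Rq Nq (fun j => ι (z j)) n = CycDet.spanBefore Rq Nq (fun j => ι (y j)) n :=
      CycDetLib.sB_congr fun j hj => congrArg ι (h j hj)
    have hm : ∀ r ∈ maximalIdeal Rq, r • ι (y nn) ∈ CycDet.spanBefore Rq Nq (fun j => ι (z j)) n := fun r hr => by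
      rw [hsn]; exact hy.1 nn r hr
    have hex : ∃ k, ι (y nn) ∈ CycDet.spanBefore Rq Nq (fun j => ι (z j)) k :=
      ⟨l, by rw [CycDetLib.sB_len _ le_rfl, good_span F hF hz]; trivial⟩
    set k₁ := Nat.find hex with hk₁
    have hgt : n < k₁ := by
      by_contra hle
      refine hy.2 nn ?_
      have := CycDetLib.sB_mono (fun j => ι (z j)) (not_lt.1 hle) (Nat.find_spec hex)
      rw [hsn] at this
      exact this
    have hkl : k₁ ≤ l := Nat.find_le (by rw [CycDetLib.sB_len _ le_rfl, good_span F hF hz]; trivial)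
    let k : Fin l := ⟨k₁ - 1, by omega⟩
    have hspec := Nat.find_spec hex
    rw [← hk₁, show k₁ = (k : ℕ) + 1 by show k₁ = k₁ - 1 + 1; omega, CycDetLib.sB_succ, Submodule.mem_sup] at hspec
    obtain ⟨g, hg, w, hw, he⟩ := hspec
    obtain ⟨c, rfl⟩ := Submodule.mem_span_singleton.1 hw
    have hcu : IsUnit c := by
      by_contra hc
      refine Nat.find_min hex (show (k : ℕ) < k₁ by show k₁ - 1 < k₁; omega) ?_
      rw [← he]
      exact add_mem hg (hz.1 k c hc)
    obtain ⟨cu, rfl⟩ := hcu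
    obtain ⟨hgz, hiz⟩ := inv_update F hz k (y nn) cu (by rw [← he, add_sub_cancel_right]; exact hg)
    have hlow : ∀ j : Fin l, (j : ℕ) < n → Function.update z k (y nn) j = z j := fun j hj => by
      rw [Function.update_of_ne]
      intro hjk
      rw [hjk] at hj
      simp only [k] at hj
      omega
    obtain ⟨z', hg', hi', hlow', hn'⟩ := inv_bubble F y nn (k₁ - 1 - n) (Function.update z k (y nn)) k hgz
      (by show k₁ - 1 = n + (k₁ - 1 - n); omega) (Function.update_self _ _ _) (fun r hr => by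
        rw [CycDetLib.sB_congr (e' := fun j => ι (z j)) fun j hj => congrArg ι (hlow j hj)]
        exact hm r hr)
    rw [← hiz, ← hi', ih (n + 1) z' hg' (by omega) fun j hj => ?_]
    rcases Nat.lt_succ_iff_lt_or_eq.1 hj with hj' | hj'
    · rw [hlow' j hj', hlow j hj', h j hj']
    · rw [show j = nn from Fin.ext hj', hn']

section chain

variable (q) in
/-- A tuple with pieces `R/q`. -/
def Chain {l : ℕ} (z : Fin l → N) : Prop :=
  ∀ i : Fin l, (∀ r ∈ q, r • z i ∈ CycDet.spanBefore R N z i) ∧ ∀ t ∉ q, t • z i ∉ CycDet.spanBefore R N z i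

variable {l : ℕ} {z : Fin l → N} (hz : Chain q z)

omit [IsNoetherianRing R] [Module.Finite R N] [Ring.KrullDimLE 1 (R ⧸ q)] in
theorem map_sB (i : ℕ) {x : N} (hx : x ∈ CycDet.spanBefore R N z i) :
    ι x ∈ CycDet.spanBefore Rq Nq (fun j => ι (z j)) i := by
  rw [CycDet.spanBefore] at hx
  induction hx using Submodule.span_induction with
  | mem x hx =>
    obtain ⟨j, hj, rfl⟩ := hx
    exact Submodule.subset_span ⟨j, hj, rfl⟩
  | zero => rw [map_zero]; exact zero_mem _
  | add x y _ _ hx hy => rw [map_add]; exact add_mem hx hy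
  | smul a x _ hx => rw [map_smul, ← algebraMap_smul Rq a (ι x)]; exact Submodule.smul_mem _ _ hx

include hz

theorem sat_span {i : ℕ} {t : R} (ht : t ∉ q) : ∀ (j : ℕ) {w : N}, w ∈ CycDet.spanBefore R N z j →
    t • w ∈ CycDet.spanBefore R N z i → w ∈ CycDet.spanBefore R N z i := by
  intro j
  induction j with
  | zero =>
    intro w hw _
    rw [CycDetLib.sB_zero, Submodule.mem_bot] at hw
    rw [hw]; exact zero_mem _
  | succ j ih =>
    intro w hw htw
    by_cases hji : j + 1 ≤ i
    · exact CycDetLib.sB_mono z hji hw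
    by_cases hjl : j < l
    · rw [show j + 1 = ((⟨j, hjl⟩ : Fin l) : ℕ) + 1 from rfl, CycDetLib.sB_succ, Submodule.mem_sup] at hw
      obtain ⟨g, hg, v, hv, rfl⟩ := hw
      obtain ⟨r, rfl⟩ := Submodule.mem_span_singleton.1 hv
      have h1 : (t * r) • z ⟨j, hjl⟩ ∈ CycDet.spanBefore R N z j := by
        have h2 := sub_mem (CycDetLib.sB_mono z (show i ≤ j by omega) htw) (Submodule.smul_mem _ t hg)
        rwa [smul_add, add_sub_cancel_left, smul_smul] at h2
      have hr : r ∈ q := by
        by_contra hr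
        exact (hz ⟨j, hjl⟩).2 _ (‹q.IsPrime›.mul_notMem ht hr) h1
      exact ih (add_mem hg ((hz ⟨j, hjl⟩).1 r hr)) htw
    · refine ih ?_ htw
      rw [CycDetLib.sB_len z (by omega)] at hw ⊢
      exact hw

theorem of_mem_sB {i : ℕ} {x : N} (hx : x ∈ Submodule.span R (Set.range z))
    (h : ι x ∈ CycDet.spanBefore Rq Nq (fun j => ι (z j)) i) : x ∈ CycDet.spanBefore R N z i := by
  have key : ∀ v ∈ CycDet.spanBefore Rq Nq (fun j => ι (z j)) i, ∃ t ∉ q, ∃ y ∈ CycDet.spanBefore R N z i, t • v = ι y := by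
    intro v hv
    rw [CycDet.spanBefore] at hv
    induction hv using Submodule.span_induction with
    | mem v hv =>
      obtain ⟨j, hj, rfl⟩ := hv
      exact ⟨1, fun h => ‹q.IsPrime›.ne_top ((Ideal.eq_top_iff_one _).2 h), z j, Submodule.subset_span ⟨j, hj, rfl⟩, one_smul _ _⟩
    | zero => exact ⟨1, fun h => ‹q.IsPrime›.ne_top ((Ideal.eq_top_iff_one _).2 h), 0, zero_mem _, by rw [smul_zero, map_zero]⟩
    | add u v _ _ hu hv =>
      obtain ⟨s, hs, a, ha, hsa⟩ := hu
      obtain ⟨t, ht, b, hb, htb⟩ := hv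
      refine ⟨s * t, ‹q.IsPrime›.mul_notMem hs ht, t • a + s • b, add_mem (Submodule.smul_mem _ _ ha) (Submodule.smul_mem _ _ hb), ?_⟩
      rw [map_add, map_smul, map_smul, ← hsa, ← htb, smul_add, smul_smul, smul_smul, mul_comm t s]
    | smul c v _ hv =>
      obtain ⟨t, ht, b, hb, htb⟩ := hv
      obtain ⟨a, ⟨s, hs⟩, rfl⟩ := IsLocalization.exists_mk'_eq q.primeCompl c
      refine ⟨s * t, ‹q.IsPrime›.mul_notMem hs ht, a • b, Submodule.smul_mem _ _ hb, ?_⟩
      rw [map_smul, ← htb, mul_smul, smul_comm s t, smul_comm a t, ← algebraMap_smul Rq s (_ • v),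
        mk'_smul a (⟨s, hs⟩ : q.primeCompl) v]
  obtain ⟨t, ht, y, hy, he⟩ := key _ h
  rw [← map_smul, LocalizedModule.mkLinearMap_apply, LocalizedModule.mkLinearMap_apply, LocalizedModule.mk_eq] at he
  obtain ⟨⟨s, hs⟩, hsy⟩ := he
  simp only [one_smul, Submonoid.smul_def] at hsy
  refine sat_span hz (t := s * t) (‹q.IsPrime›.mul_notMem hs ht) l (by rw [CycDetLib.sB_len z le_rfl]; exact hx) ?_
  rw [mul_smul, hsy]
  exact Submodule.smul_mem _ _ hy

theorem good_of_chain : Good q z := by
  refine ⟨fun i => max_smul fun r hr => ?_, fun i hi => ?_⟩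
  · show r • ι (z i) ∈ _
    rw [← map_smul]
    exact map_sB i ((hz i).1 r hr)
  · have := of_mem_sB hz (Submodule.subset_span (Set.mem_range_self i)) hi
    exact (hz i).2 1 (fun h => ‹q.IsPrime›.ne_top ((Ideal.eq_top_iff_one _).2 h)) (by rwa [one_smul])

theorem qlen_eq_defect (htf : ∀ x : N, ι x = 0 → x = 0) : ∀ i : ℕ, i ≤ l →
    qlen (CycDet.spanBefore R N z i) (sat q z i) =
      ∑ j ∈ Finset.univ.filter (fun j : Fin l => (j : ℕ) < i), qlen (sat q z j ⊔ Submodule.span R {z j}) (sat q z ((j : ℕ) + 1)) := by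
  intro i
  induction i with
  | zero =>
    intro _
    rw [Finset.filter_false_of_mem (fun j _ => Nat.not_lt_zero _), Finset.sum_empty, qlen,
      Module.length_eq_zero_iff, Submodule.Quotient.subsingleton_iff, Submodule.submoduleOf_eq_top]
    intro x hx
    rw [CycDetLib.sB_zero, Submodule.mem_bot]
    have hx' : ι x ∈ CycDet.spanBefore Rq Nq (fun j => ι (z j)) 0 := hx
    rw [CycDetLib.sB_zero, Submodule.mem_bot] at hx'
    exact htf x hx'
  | succ i ih =>
    intro hi
    let ii : Fin l := ⟨i, hi⟩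
    have hG : CycDet.spanBefore R N z (i + 1) = CycDet.spanBefore R N z i ⊔ Submodule.span R {z ii} :=
      CycDetLib.sB_succ z ii
    have hGle : CycDet.spanBefore R N z i ≤ sat q z i := fun x hx => map_sB i hx
    have h1 : CycDet.spanBefore R N z (i + 1) ≤ sat q z i ⊔ Submodule.span R {z ii} := hG ▸ sup_le_sup_right hGle _
    rw [qlen_chain h1 (gap_le ii), show Finset.univ.filter (fun j : Fin l => (j : ℕ) < i + 1) =
        insert ii (Finset.univ.filter (fun j : Fin l => (j : ℕ) < i)) by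
          ext j; simp [ii, Fin.ext_iff]; omega,
      Finset.sum_insert (by simp [ii]), ← ih (by omega), add_comm]
    congr 1
    rw [show sat q z i ⊔ Submodule.span R {z ii} = sat q z i ⊔ CycDet.spanBefore R N z (i + 1) by
      rw [hG, ← sup_assoc, sup_eq_left.2 hGle], qlen_self_sup]
    congr 1
    refine le_antisymm ?_ (le_inf hGle (CycDetLib.sB_mono z (Nat.le_succ _)))
    rintro x ⟨hxS, hxG⟩
    exact of_mem_sB hz (by rw [← CycDetLib.sB_len z le_rfl]; exact CycDetLib.sB_mono z hi hxG) hxS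

end chain

end TameLib.Defect
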