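import Mathlib
import Groth.Agent.TameLib.GapLocal

/-! # Gluing finite extensions at the height one primes containing `t` -/

set_option autoImplicit false
set_option linter.style.haveILetI false
set_option linter.unusedSectionVars false
set_option maxHeartbeats 1000000

universe u

open IsLocalRing

namespace TameLib.Gap

variable {A : Type u} [CommRing A] [IsLocalRing A] [IsNoetherianRing A]

/-- The elements of `Tot A` which are integral over `A` with denominators powers of `t`. -/
theorem finite_killed {t : A} (W : Finset (Tot A))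
    (hint : ∀ w ∈ W, IsIntegral A w)
    (hden : ∀ w ∈ W, ∃ (K : ℕ) (c : A), w * algebraMap A (Tot A) (t ^ K) = algebraMap A (Tot A) c) :
    Module.Finite A (Algebra.adjoin A (W : Set (Tot A))) ∧
      ∃ N : ℕ, ∀ x ∈ Algebra.adjoin A (W : Set (Tot A)), ∃ c : A,
        x * algebraMap A (Tot A) (t ^ N) = algebraMap A (Tot A) c := by
  classical
  have hfg := fg_adjoin_of_finite W.finite_toSet hint
  have hall : ∀ x ∈ Algebra.adjoin A (W : Set (Tot A)), ∃ (K : ℕ) (c : A),
      x * algebraMap A (Tot A) (t ^ K) = algebraMap A (Tot A) c := by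
    intro x hx
    induction hx using Algebra.adjoin_induction with
    | mem x hx => exact hden x hx
    | algebraMap a => exact ⟨0, a, by rw [pow_zero, map_one, mul_one]⟩
    | add x y _ _ hx hy =>
      obtain ⟨K, c, hc⟩ := hx
      obtain ⟨K', c', hc'⟩ := hy
      refine ⟨K + K', c * t ^ K' + c' * t ^ K, ?_⟩
      rw [pow_add, map_add, map_mul, map_mul, map_mul, ← hc, ← hc']
      ring
    | mul x y _ _ hx hy =>
      obtain ⟨K, c, hc⟩ := hx
      obtain ⟨K', c', hc'⟩ := hy
      refine ⟨K + K', c * c', ?_⟩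
      rw [pow_add, map_mul, map_mul, ← hc, ← hc']
      ring
  refine ⟨Module.Finite.iff_fg.2 hfg, ?_⟩
  obtain ⟨G, hG⟩ := hfg
  choose K c hc using fun g : G => hall g (by
    rw [← Subalgebra.mem_toSubmodule, ← hG]; exact Submodule.subset_span g.2)
  refine ⟨Finset.univ.sup K, fun x hx => ?_⟩
  rw [← Subalgebra.mem_toSubmodule, ← hG] at hx
  induction hx using Submodule.span_induction with
  | mem g hg =>
    obtain ⟨d, hd⟩ := Nat.exists_eq_add_of_le (Finset.le_sup (f := K) (Finset.mem_univ (⟨g, hg⟩ : G)))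
    exact ⟨c ⟨g, hg⟩ * t ^ d, by rw [hd, pow_add, map_mul, map_mul, ← hc, ← mul_assoc]⟩
  | zero => exact ⟨0, by rw [zero_mul, map_zero]⟩
  | add x y _ _ hx hy =>
    obtain ⟨a, ha⟩ := hx
    obtain ⟨b, hb⟩ := hy
    exact ⟨a + b, by rw [add_mul, ha, hb, map_add]⟩
  | smul r x _ hx =>
    obtain ⟨a, ha⟩ := hx
    exact ⟨r * a, by rw [Algebra.smul_def, mul_assoc, ha, map_mul]⟩

theorem exists_glue {t : A} (ht : t ∈ nonZeroDivisors A) {r : ℕ} (q : Fin r → Ideal A) [hq : ∀ i, (q i).IsPrime]
    (hinc : ∀ i j, i ≠ j → ¬ q j ≤ q i) (htq : ∀ i, t ∈ q i)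
    [∀ i, Ring.KrullDimLE 1 (Localization.AtPrime (q i))] (B : Fin r → Type u) [∀ i, CommRing (B i)]
    [∀ i, Algebra (Localization.AtPrime (q i)) (B i)]
    (hB : ∀ i, CycAlg.IsFinExt (Localization.AtPrime (q i)) (B i)
      (Ideal.span {algebraMap A (Localization.AtPrime (q i)) t}))
    (htB : ∀ i, IsSMulRegular (B i) (algebraMap A (Localization.AtPrime (q i)) t)) :
    ∃ (C : Type u) (_ : CommRing C) (_ : Algebra A C), CycAlg.IsFinExt A C (Ideal.span {t}) ∧
      ∀ i, Nonempty (TensorProduct A (Localization.AtPrime (q i)) C ≃ₐ[Localization.AtPrime (q i)] B i) := by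
  classical
  have hnzd : ∀ i, ∀ x ∈ nonZeroDivisors A,
      algebraMap A (Localization.AtPrime (q i)) x ∈ nonZeroDivisors (Localization.AtPrime (q i)) := fun i x hx =>
    IsLocalization.map_nonZeroDivisors_le (q i).primeCompl _ (Submonoid.mem_map_of_mem _ hx)
  have htm : ∀ i, algebraMap A (Localization.AtPrime (q i)) t ∈ maximalIdeal (Localization.AtPrime (q i)) := fun i =>
    (IsLocalization.AtPrime.to_map_mem_maximal_iff _ (q i) t).2 (htq i)
  -- embeddings
  have hι : ∀ i, ∃ ι : B i →ₐ[Localization.AtPrime (q i)] Tot (Localization.AtPrime (q i)), Function.Injective ι := by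
    intro i
    obtain ⟨hinj, hfin, n, hn⟩ := hB i
    obtain ⟨k, hk⟩ := exists_pow_le_span (hnzd i t ht)
    refine embed_of_isFinExt ⟨hinj, hfin, k * n, fun x hx b => hn x ?_ b⟩ _ (hnzd i t ht) (htm i) ?_
    · rw [pow_mul] at hx
      exact Ideal.pow_right_mono hk n hx
    · rw [mem_nonZeroDivisors_iff_right]
      intro z hz
      refine htB i ?_
      show algebraMap A (Localization.AtPrime (q i)) t • z = algebraMap A (Localization.AtPrime (q i)) t • (0 : B i)
      rw [smul_zero, Algebra.smul_def, mul_comm]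
      exact hz
  choose ι hιinj using hι
  have hfg : ∀ i, ∃ G : Finset (B i), Submodule.span (Localization.AtPrime (q i)) (G : Set (B i)) = ⊤ := fun i => by
    obtain ⟨G, hG⟩ := (hB i).2.1.fg_top
    exact ⟨G, hG⟩
  choose G hG using hfg
  have hint : ∀ i, ∀ g : B i, IsIntegral (Localization.AtPrime (q i)) (ι i g) := fun i g => by
    haveI := (hB i).2.1
    exact (Algebra.IsIntegral.isIntegral g).map (ι i)
  choose w v hv hwint hw K c hKc using fun (p : Σ i, G i) =>
    exists_integral_lift (q p.1) ht (htq p.1) (hint p.1 p.2.1)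
  -- make the lift at `i` lie in `A` at the other primes
  have hsep : ∀ (p : Σ i, G i), ∃ S : A, S ∉ q p.1 ∧
      ∀ j, j ≠ p.1 → tau (q j) (algebraMap A (Tot A) S * w p) ∈
        (algebraMap (Localization.AtPrime (q j)) (Tot (Localization.AtPrime (q j)))).range := by
    intro p
    have hloc : ∀ j, ∃ s : A, s ∉ q p.1 ∧ (j ≠ p.1 → tau (q j) (algebraMap A (Tot A) s * w p) ∈
        (algebraMap (Localization.AtPrime (q j)) (Tot (Localization.AtPrime (q j)))).range) := by
      intro j
      by_cases hj : j = p.1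
      · exact ⟨1, fun h => (hq p.1).ne_top ((Ideal.eq_top_iff_one _).2 h), fun h => absurd hj h⟩
      obtain ⟨s, hsj, hsi⟩ := SetLike.not_le_iff_exists.1 (hinc p.1 j (Ne.symm hj))
      obtain ⟨N, hN⟩ := exists_pow_le_span (hnzd j _ (pow_mem ht (K p)))
      obtain ⟨γ, hγ⟩ := Ideal.mem_span_singleton'.1 (hN (Ideal.pow_mem_pow
        ((IsLocalization.AtPrime.to_map_mem_maximal_iff (Localization.AtPrime (q j)) (q j) s).2 hsj) N))
      refine ⟨s ^ N, fun h => hsi ((hq p.1).mem_of_pow_mem _ h), fun _ => ⟨γ * algebraMap A _ (c p), ?_⟩⟩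
      have hu : IsUnit (algebraMap A (Tot (Localization.AtPrime (q j))) (t ^ K p)) := by
        rw [IsScalarTower.algebraMap_apply A (Localization.AtPrime (q j)) (Tot (Localization.AtPrime (q j)))]
        exact IsLocalization.map_units _
          (⟨_, hnzd j _ (pow_mem ht (K p))⟩ : nonZeroDivisors (Localization.AtPrime (q j)))
      refine hu.mul_left_inj.1 ?_
      have h1 : tau (q j) (algebraMap A (Tot A) (s ^ N) * w p) * algebraMap A _ (t ^ K p) =
          algebraMap A _ (s ^ N) * algebraMap A _ (c p) := by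
        rw [← AlgHom.commutes (tau (q j)), ← map_mul, mul_assoc, hKc, map_mul, AlgHom.commutes, AlgHom.commutes]
      rw [h1, map_mul, ← IsScalarTower.algebraMap_apply A (Localization.AtPrime (q j)),
        IsScalarTower.algebraMap_apply A (Localization.AtPrime (q j)) (Tot (Localization.AtPrime (q j))) (s ^ N),
        map_pow (algebraMap A (Localization.AtPrime (q j))), ← hγ, map_mul, ← IsScalarTower.algebraMap_apply A (Localization.AtPrime (q j))]
      ring
    choose s hs hsj using hloc
    refine ⟨∏ j, s j, fun h => ?_, fun j hj => ?_⟩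
    · obtain ⟨j, -, hj⟩ := (Ideal.IsPrime.prod_mem_iff (hp := hq p.1)).1 h
      exact hs j hj
    · obtain ⟨d, hd⟩ := Finset.dvd_prod_of_mem s (Finset.mem_univ j)
      rw [hd, mul_comm (s j), map_mul (algebraMap A (Tot A)), mul_assoc, map_mul, AlgHom.commutes,
        IsScalarTower.algebraMap_apply A (Localization.AtPrime (q j)) (Tot (Localization.AtPrime (q j))) d]
      exact Subring.mul_mem _ ⟨_, rfl⟩ (hsj j hj)
  choose S hS hSj using hsep
  let W : Finset (Tot A) := Finset.univ.image fun p => algebraMap A (Tot A) (S p) * w p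
  obtain ⟨hfin, N, hN⟩ := finite_killed (t := t) W
    (Finset.forall_mem_image.2 fun p _ => isIntegral_algebraMap.mul (hwint p))
    (Finset.forall_mem_image.2 fun p _ => ⟨K p, S p * c p, by rw [mul_assoc, hKc, map_mul]⟩)
  set C := Algebra.adjoin A (W : Set (Tot A)) with hC
  refine ⟨C, inferInstance, inferInstance, ⟨?_, hfin, N, fun x hx z => ?_⟩, fun i => ?_⟩
  · exact fun a b h => IsLocalization.injective (Tot A) le_rfl (congrArg Subtype.val h)
  · rw [Ideal.span_singleton_pow] at hx
    obtain ⟨d, rfl⟩ := Ideal.mem_span_singleton'.1 hx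
    obtain ⟨a, ha⟩ := hN z z.2
    refine ⟨d * a, Subtype.ext ?_⟩
    show algebraMap A (Tot A) (d * a) = (d * t ^ N) • (z : Tot A)
    rw [Algebra.smul_def, map_mul, map_mul, ← ha]
    ring
  -- the localisation at `q i`
  let Aq := Localization.AtPrime (q i)
  let M := Algebra.algebraMapSubmonoid C (q i).primeCompl
  let Cq := Localization M
  let g₀ : Cq →+* Tot Aq := IsLocalization.lift (M := M) (g := (tau (q i)).toRingHom.comp C.val.toRingHom) (by
    rintro ⟨_, s, hs, rfl⟩
    show IsUnit (tau (q i) (algebraMap A (Tot A) s))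
    rw [AlgHom.commutes, IsScalarTower.algebraMap_apply A Aq (Tot Aq)]
    exact (IsLocalization.map_units Aq (⟨s, hs⟩ : (q i).primeCompl)).map _)
  have hg₀ : ∀ z : C, g₀ (algebraMap C Cq z) = tau (q i) z := fun z => IsLocalization.lift_eq _ z
  have hACq : ∀ x : A, algebraMap Aq Cq (algebraMap A Aq x) = algebraMap C Cq (algebraMap A C x) := fun x => by
    rw [← IsScalarTower.algebraMap_apply A Aq Cq, ← IsScalarTower.algebraMap_apply A C Cq]
  let g : Cq →ₐ[Aq] Tot Aq :=
    { g₀ with
      commutes' := fun r => by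
        refine RingHom.congr_fun (IsLocalization.ringHom_ext (q i).primeCompl (j := g₀.comp (algebraMap Aq Cq))
          (k := algebraMap Aq (Tot Aq)) (RingHom.ext fun x => ?_)) r
        show g₀ (algebraMap Aq Cq (algebraMap A Aq x)) = algebraMap Aq (Tot Aq) (algebraMap A Aq x)
        rw [hACq, hg₀, ← IsScalarTower.algebraMap_apply A Aq (Tot Aq)]
        exact AlgHom.commutes _ x }
  have hginj : Function.Injective g := by
    rw [injective_iff_map_eq_zero]
    intro z hz
    obtain ⟨x, d, rfl⟩ := IsLocalization.exists_mk'_eq M z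
    have h1 : tau (q i) (x : Tot A) = 0 := by
      rw [← hg₀, ← IsLocalization.mk'_spec Cq x d, map_mul]
      rw [show g₀ (IsLocalization.mk' Cq x d) = 0 from hz, zero_mul]
    obtain ⟨s, hs, hsc⟩ := tau_eq_zero (q i) h1
    rw [IsLocalization.mk'_eq_zero_iff]
    exact ⟨⟨algebraMap A C s, s, hs, rfl⟩, Subtype.ext hsc⟩
  have hrange : g.range = (ι i).range := by
    refine le_antisymm ?_ ?_
    · rintro _ ⟨z, rfl⟩
      show g z ∈ (ι i).range
      obtain ⟨x, ⟨d, s, hs, rfl⟩, rfl⟩ := IsLocalization.exists_mk'_eq M z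
      have hx : ∀ y ∈ C, tau (q i) y ∈ (ι i).range := by
        intro y hy
        induction hy using Algebra.adjoin_induction with
        | mem y hy =>
          obtain ⟨p, -, rfl⟩ := Finset.mem_image.1 hy
          by_cases hp : i = p.1
          · subst hp
            rw [map_mul, AlgHom.commutes, hw, ← mul_assoc, ← map_mul,
              IsScalarTower.algebraMap_apply A (Localization.AtPrime (q p.1)) (Tot (Localization.AtPrime (q p.1))),
              ← Algebra.smul_def]
            exact Subalgebra.smul_mem _ ((AlgHom.mem_range _).2 ⟨p.2.1, rfl⟩) _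
          · obtain ⟨a, ha⟩ := hSj p i hp
            rw [← ha]
            exact Subalgebra.algebraMap_mem _ a
        | algebraMap a =>
          rw [AlgHom.commutes, IsScalarTower.algebraMap_apply A Aq (Tot Aq)]
          exact Subalgebra.algebraMap_mem _ _
        | add y y' _ _ h h' => rw [map_add]; exact add_mem h h'
        | mul y y' _ _ h h' => rw [map_mul]; exact mul_mem h h'
      obtain ⟨us, hus⟩ := IsLocalization.map_units Aq (⟨s, hs⟩ : (q i).primeCompl)
      have h2 : g (IsLocalization.mk' Cq x (⟨algebraMap A C s, s, hs, rfl⟩ : M)) = (↑us⁻¹ : Aq) • tau (q i) x := by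
        have h3 := congrArg g₀ (IsLocalization.mk'_spec Cq x (⟨algebraMap A C s, s, hs, rfl⟩ : M))
        rw [map_mul, hg₀, hg₀] at h3
        rw [← h3, show tau (q i) ((algebraMap A C s : C) : Tot A) = algebraMap A (Tot Aq) s from AlgHom.commutes _ s,
          IsScalarTower.algebraMap_apply A Aq (Tot Aq), ← hus, mul_comm, ← Algebra.smul_def, smul_smul,
          Units.inv_mul, one_smul]
        rfl
      rw [h2]
      exact Subalgebra.smul_mem _ (hx x x.2) _
    · rintro _ ⟨b, rfl⟩
      show ι i b ∈ g.range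
      have hb : b ∈ Submodule.span Aq (G i : Set (B i)) := by rw [hG]; trivial
      induction hb using Submodule.span_induction with
      | mem b hb =>
        obtain ⟨u, hu⟩ := IsLocalization.map_units Aq
          (⟨S ⟨i, b, hb⟩ * v ⟨i, b, hb⟩, (hq i).mul_notMem (hS ⟨i, b, hb⟩) (hv ⟨i, b, hb⟩)⟩ : (q i).primeCompl)
        refine ⟨(↑u⁻¹ : Aq) • algebraMap C Cq ⟨algebraMap A (Tot A) (S ⟨i, b, hb⟩) * w ⟨i, b, hb⟩,
          Algebra.subset_adjoin (Finset.mem_image_of_mem _ (Finset.mem_univ _))⟩, ?_⟩
        show g _ = _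
        rw [map_smul]
        refine (congrArg _ (hg₀ _)).trans ?_
        show (↑u⁻¹ : Aq) • tau (q i) (algebraMap A (Tot A) (S ⟨i, b, hb⟩) * w ⟨i, b, hb⟩) = ι i b
        have hw' : tau (q i) (w ⟨i, b, hb⟩) = algebraMap A (Tot Aq) (v ⟨i, b, hb⟩) * ι i b := hw ⟨i, b, hb⟩
        rw [map_mul, AlgHom.commutes, hw', ← mul_assoc, ← map_mul,
          IsScalarTower.algebraMap_apply A Aq (Tot Aq), ← hu, ← Algebra.smul_def, smul_smul,
          Units.inv_mul, one_smul]
      | zero => rw [map_zero]; exact zero_mem _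
      | add x y _ _ hx hy => rw [map_add]; exact add_mem hx hy
      | smul a x _ hx => rw [map_smul]; exact Subalgebra.smul_mem _ hx a
  haveI : Algebra.IsPushout A Aq C Cq :=
    (Algebra.isPushout_of_isLocalization (R := A) (A := Aq) (q i).primeCompl C Cq).symm
  exact ⟨(Algebra.IsPushout.equiv A Aq C Cq).trans ((AlgEquiv.ofInjective g hginj).trans
    ((Subalgebra.equivOfEq _ _ hrange).trans (AlgEquiv.ofInjective (ι i) (hιinj i)).symm))⟩

end TameLib.Gap
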